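import Mathlib
import Groth.Agent.ComodLib.LinRed
import Groth.Agent.ComodLib.Semisimple

/-! # Quotient comodules and flags -/

set_option autoImplicit false

noncomputable section

open TensorProduct HopfRep
open scoped ComodLib

namespace GLinFinLib.Trig

universe u v w

variable {k : Type u} [Field k] {A : Type v} [AddCommGroup A] [Module k A] [Coalgebra k A]
  {V : Type w} [AddCommGroup V] [Module k V] [Comod k A V]

local notation "ρ" => Comod.coact (k := k) (A := A)

/-- The coaction on a quotient by a subcomodule. -/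
def quotCoact {W : Submodule k V} (hW : IsSubcomod (k := k) (A := A) W) : V ⧸ W →ₗ[k] (V ⧸ W) ⊗[k] A :=
  W.liftQ (W.mkQ.rTensor A ∘ₗ ρ) fun w hw => by
    obtain ⟨t, ht⟩ := hW w hw
    rw [LinearMap.mem_ker, LinearMap.comp_apply, ← ht, ← LinearMap.rTensor_comp_apply,
      show W.mkQ ∘ₗ W.subtype = 0 from LinearMap.ext fun x => (Submodule.Quotient.mk_eq_zero _).2 x.2]
    simp

/-- The quotient by a subcomodule is a comodule. -/
@[reducible] def quotComod {W : Submodule k V} (hW : IsSubcomod (k := k) (A := A) W) : Comod k A (V ⧸ W) where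
  coact := quotCoact hW
  coassoc := by
    refine Submodule.linearMap_qext _ (LinearMap.ext fun v => ?_)
    have key : ∀ y : (V ⊗[k] A) ⊗[k] A, W.mkQ.rTensor (A ⊗[k] A) (TensorProduct.assoc k V A A y) =
        TensorProduct.assoc k (V ⧸ W) A A ((W.mkQ.rTensor A).rTensor A y) := fun y => by
      induction y with
      | zero => simp
      | add y y' hy hy' => simp only [map_add, hy, hy']
      | tmul z a =>
        induction z with
        | zero => simp [TensorProduct.zero_tmul]
        | tmul x b => simp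
        | add z z' hz hz' => simp only [TensorProduct.add_tmul, map_add, hz, hz']
    have h : quotCoact hW ∘ₗ W.mkQ = W.mkQ.rTensor A ∘ₗ ρ := Submodule.liftQ_mkQ _ _ _
    simp only [LinearMap.comp_apply, LinearEquiv.coe_coe]
    rw [show quotCoact hW (W.mkQ v) = W.mkQ.rTensor A (ρ v) from LinearMap.congr_fun h v,
      ← LinearMap.rTensor_comp_apply, h, LinearMap.rTensor_comp_apply, ← key, ComodLib.coassoc_apply,
      ComodLib.rTensor_lTensor_comm]
  counit_comp := by
    refine Submodule.linearMap_qext _ (LinearMap.ext fun v => ?_)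
    simp only [LinearMap.comp_apply]
    rw [show quotCoact hW (W.mkQ v) = W.mkQ.rTensor A (ρ v) from rfl, ← ComodLib.rTensor_lTensor_comm,
      show (CoalgebraStruct.counit (R := k)).lTensor V (ρ v) = v ⊗ₜ[k] (1 : k) from
        LinearMap.congr_fun (Comod.counit_comp (k := k) (A := A) (V := V)) v]
    rfl

theorem quotComod_coact {W : Submodule k V} (hW : IsSubcomod (k := k) (A := A) W) (v : V) :
    (quotComod hW).coact (W.mkQ v) = W.mkQ.rTensor A (ρ v) := rfl

/-- Preimages of subcomodules of a quotient are subcomodules. -/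
theorem isSubcomod_comap_mkQ {W : Submodule k V} (hW : IsSubcomod (k := k) (A := A) W) {S : Submodule k (V ⧸ W)}
    (hS : letI := quotComod hW; IsSubcomod (k := k) (A := A) S) :
    IsSubcomod (k := k) (A := A) (S.comap W.mkQ) := by
  intro v hv
  rw [ComodLib.mem_range_rTensor_iff]
  intro f
  show W.mkQ (ComodLib.slice f (ρ v)) ∈ S
  rw [← ComodLib.slice_rTensor]
  exact ComodLib.slice_mem_of_mem_range S f (hS _ hv)

/-- In a trigonalisable situation one can climb subcomodules one dimension at a time. -/
theorem exists_succ_of_isTrigonalizable {A' : Type v} [CommRing A'] [Bialgebra k A'] (hT : IsTrigonalizable k A')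
    {U : Type v} [AddCommGroup U] [Module k U] [Comod k A' U] [Module.Finite k U]
    {W : Submodule k U} (hW : IsSubcomod (k := k) (A := A') W) (hne : W ≠ ⊤) :
    ∃ W' : Submodule k U, IsSubcomod (k := k) (A := A') W' ∧ W ≤ W' ∧
      Module.finrank k W' = Module.finrank k W + 1 := by
  classical
  have hex : ∃ n, ∃ W' : Submodule k U, IsSubcomod (k := k) (A := A') W' ∧ W < W' ∧ Module.finrank k W' = n :=
    ⟨_, ⊤, (ComodLib.isSubcomod_iff _).2 fun _ _ _ => trivial, lt_of_le_of_ne le_top hne, rfl⟩
  obtain ⟨W', hW', hlt, hn⟩ := Nat.find_spec hex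
  refine ⟨W', hW', hlt.le, ?_⟩
  letI := ComodLib.subComod hW'
  let Wb : Submodule k W' := W.comap W'.subtype
  have hWb : IsSubcomod (k := k) (A := A') Wb := (ComodLib.isSubcomod_iff _).2 fun f s hs => by
    show ((f • s : W') : U) ∈ W
    rw [ComodLib.subComod_smul_coe hW']
    exact (ComodLib.isSubcomod_iff _).1 hW f _ hs
  letI := quotComod hWb
  have hbne : Wb ≠ ⊤ := fun h => hlt.not_ge fun x hx => by
    have : (⟨x, hx⟩ : W') ∈ Wb := h ▸ Submodule.mem_top
    exact this
  haveI : Nontrivial (W' ⧸ Wb) := Submodule.Quotient.nontrivial_iff.2 hbne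
  have hsimple : IsSimpleComod k A' (W' ⧸ Wb) := by
    refine ⟨inferInstance, fun S hS => ?_⟩
    have h1 := isSubcomod_comap_mkQ hWb hS
    have h2 : IsSubcomod (k := k) (A := A') ((S.comap Wb.mkQ).map W'.subtype) :=
      (ComodLib.isSubcomod_iff _).2 fun f x hx => by
        obtain ⟨s, hs, rfl⟩ := hx
        exact ⟨f • s, (ComodLib.isSubcomod_iff _).1 h1 f s hs, ComodLib.subComod_smul_coe hW' f s⟩
    by_cases hS0 : S = ⊥
    · exact Or.inl hS0
    refine Or.inr (top_unique fun q _ => ?_)
    have hle : (S.comap Wb.mkQ).map W'.subtype ≤ W' := Submodule.map_subtype_le _ _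
    have hWle : W ≤ (S.comap Wb.mkQ).map W'.subtype := fun x hx =>
      ⟨⟨x, hlt.le hx⟩, show Wb.mkQ _ ∈ S from by
        rw [show Wb.mkQ (⟨x, hlt.le hx⟩ : W') = 0 from (Submodule.Quotient.mk_eq_zero _).2 hx]; exact S.zero_mem, rfl⟩
    have hlt' : W < (S.comap Wb.mkQ).map W'.subtype := by
      refine lt_of_le_of_ne hWle fun he => hS0 (eq_bot_iff.2 fun s hs => ?_)
      obtain ⟨s, rfl⟩ := Wb.mkQ_surjective s
      have h3 : (s : U) ∈ W := he ▸ ⟨s, hs, rfl⟩
      exact (Submodule.mem_bot _).2 ((Submodule.Quotient.mk_eq_zero _).2 h3)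
    have heq : (S.comap Wb.mkQ).map W'.subtype = W' :=
      Submodule.eq_of_le_of_finrank_le hle (hn ▸ Nat.find_min' hex ⟨_, h2, hlt', rfl⟩)
    obtain ⟨s, rfl⟩ := Wb.mkQ_surjective q
    obtain ⟨s', hs', he'⟩ := heq.ge s.2
    rw [← Subtype.ext (he' : (s' : U) = s)]
    exact hs'
  have h1 := hT (W' ⧸ Wb) inferInstance hsimple
  have h2 : Module.finrank k Wb = Module.finrank k W :=
    (Submodule.comapSubtypeEquivOfLe hlt.le).finrank_eq
  have h3 := Submodule.finrank_quotient_add_finrank Wb
  omega

/-- Flags of subcomodules. -/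
theorem exists_flag {A' : Type v} [CommRing A'] [Bialgebra k A'] (hT : IsTrigonalizable k A')
    (U : Type v) [AddCommGroup U] [Module k U] [Comod k A' U] [Module.Finite k U] :
    ∃ F : ℕ → Submodule k U, Monotone F ∧ (∀ i, IsSubcomod (k := k) (A := A') (F i)) ∧
      (F 0 = ⊥) ∧ ∀ i, i ≤ Module.finrank k U → Module.finrank k (F i) = i := by
  classical
  have hbot : IsSubcomod (k := k) (A := A') (⊥ : Submodule k U) := fun v hv => by
    rw [(Submodule.mem_bot k).1 hv, map_zero]; exact zero_mem _
  let S := {W : Submodule k U // IsSubcomod (k := k) (A := A') W}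
  let next : S → S := fun W => if h : W.1 = ⊤ then W else
    ⟨(exists_succ_of_isTrigonalizable hT W.2 h).choose, (exists_succ_of_isTrigonalizable hT W.2 h).choose_spec.1⟩
  let F : ℕ → S := fun i => next^[i] ⟨⊥, hbot⟩
  have hstep : ∀ i, F (i + 1) = next (F i) := fun i => Function.iterate_succ_apply' next i _
  refine ⟨fun i => (F i).1, monotone_nat_of_le_succ fun i => ?_, fun i => (F i).2, rfl, fun i hi => ?_⟩
  · rw [hstep]
    by_cases h : (F i).1 = ⊤
    · simp [next, h]
    · simp only [next, dif_neg h]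
      exact (exists_succ_of_isTrigonalizable hT (F i).2 h).choose_spec.2.1
  · show Module.finrank k ↥(F i).1 = i
    induction i with
    | zero => exact finrank_bot k U
    | succ i ih =>
      have ih' : Module.finrank k ↥(F i).1 = i := ih (by omega)
      have h : (F i).1 ≠ ⊤ := fun h => by
        have h4 : Module.finrank k ↥(F i).1 = Module.finrank k U := by rw [h, finrank_top]
        omega
      have e : F (i + 1) = ⟨_, (exists_succ_of_isTrigonalizable hT (F i).2 h).choose_spec.1⟩ :=
        (hstep i).trans (dif_neg h)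
      rw [e, (exists_succ_of_isTrigonalizable hT (F i).2 h).choose_spec.2.2, ih']

end GLinFinLib.Trig
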