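import Mathlib
import Groth.Agent.GLinFinLib.Trig

/-! # Comodules over coalgebras spanned by group-like elements -/

set_option autoImplicit false

noncomputable section

open TensorProduct HopfRep
open scoped ComodLib

namespace GLinFinLib.GroupLike

universe u v w

variable {k : Type u} [Field k] {H : Type v} [AddCommGroup H] [Module k H] [Coalgebra k H]
  {V : Type w} [AddCommGroup V] [Module k V] [Comod k H V]

/-- Over a coalgebra with a basis of group-like elements every vector is a sum of eigenvectors. -/
theorem mem_span_eigen {ι : Type*} (b : Module.Basis ι k H)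
    (hb : ∀ i, CoalgebraStruct.comul (R := k) (b i) = b i ⊗ₜ[k] b i) (v : V) :
    v ∈ Submodule.span k {x : V | ∃ a : H, Comod.coact (k := k) (A := H) x = x ⊗ₜ[k] a} := by
  classical
  set ρ := Comod.coact (k := k) (A := H) (V := V)
  let e : ι → V → V := fun i x => ComodLib.slice (b.coord i) (ρ x)
  have heig : ∀ i, ρ (e i v) = e i v ⊗ₜ[k] b i := fun a => by
    let L : V ⊗[k] (H ⊗[k] H) →ₗ[k] V ⊗[k] H :=
      (TensorProduct.rid k H).toLinearMap.lTensor V ∘ₗ ((b.coord a).lTensor H).lTensor V
    have e1 : ∀ z : V ⊗[k] H, L (TensorProduct.assoc k V H H (ρ.rTensor H z)) =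
        ρ (ComodLib.slice (b.coord a) z) := fun z => by
      induction z with
      | zero => simp
      | add z z' hz hz' => simp only [map_add, hz, hz']
      | tmul r c =>
        rw [LinearMap.rTensor_tmul, ComodLib.slice_tmul, map_smul]
        generalize ρ r = w
        induction w with
        | zero => simp
        | add w w' hw hw' => simp only [TensorProduct.add_tmul, map_add, smul_add, hw, hw']
        | tmul p q => simp [L, TensorProduct.smul_tmul']
    have e2 : ∀ c : H, (TensorProduct.rid k H) ((b.coord a).lTensor H (CoalgebraStruct.comul (R := k) c)) =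
        b.coord a c • b a := by
      intro c
      have hL : (TensorProduct.rid k H).toLinearMap ∘ₗ (b.coord a).lTensor H ∘ₗ CoalgebraStruct.comul =
          (b.coord a).smulRight (b a) := b.ext fun a' => by
        simp only [LinearMap.comp_apply, hb, LinearMap.lTensor_tmul, LinearEquiv.coe_coe, TensorProduct.rid_tmul,
          LinearMap.smulRight_apply]
        rcases eq_or_ne a' a with h | h
        · subst h; simp
        · simp [h]
      exact LinearMap.congr_fun hL c
    rw [← e1, ComodLib.coassoc_apply (k := k) (A := H) (V := V) v]
    show L _ = ComodLib.slice (b.coord a) (ρ v) ⊗ₜ[k] b a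
    generalize ρ v = z
    induction z with
    | zero => simp
    | add z z' hz hz' => simp only [map_add, TensorProduct.add_tmul, hz, hz']
    | tmul r c => simp [L, e2, TensorProduct.smul_tmul']
  obtain ⟨c, hc⟩ := TensorProduct.eq_repr_basis_right b (ρ v)
  have hv : v = ∑ i ∈ c.support, CoalgebraStruct.counit (R := k) (b i) • c i := by
    conv_lhs => rw [← ComodLib.slice_counit (k := k) (A := H) v, show Comod.coact (k := k) (A := H) v = ρ v from rfl,
      ← hc, Finsupp.sum, map_sum]
    simp only [ComodLib.slice_tmul]
  have he : ∀ i ∈ c.support, c i = e i v := fun i hi => by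
    show c i = ComodLib.slice (b.coord i) (ρ v)
    rw [← hc, Finsupp.sum, map_sum, Finset.sum_eq_single i]
    · simp
    · intro j _ hne; simp [hne]
    · intro h; exact absurd hi h
  rw [hv]
  refine Submodule.sum_mem _ fun i hi => Submodule.smul_mem _ _ (Submodule.subset_span ⟨b i, ?_⟩)
  rw [he i hi]
  exact heig i

/-- A spanning set of group-like elements contains a basis. -/
theorem exists_basis (h : Submodule.span k {a : H | IsGroupLikeElem k a} = ⊤) :
    ∃ (ι : Type v) (b : Module.Basis ι k H), ∀ i, IsGroupLikeElem k (b i) := by
  obtain ⟨s, hs, hspan, hli⟩ := exists_linearIndependent k {a : H | IsGroupLikeElem k a}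
  refine ⟨s, Module.Basis.mk hli (by rw [Subtype.range_coe, hspan, h]), fun i => ?_⟩
  rw [Module.Basis.mk_apply]
  exact hs i.2

end GLinFinLib.GroupLike
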