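import Mathlib
import Groth.Agent.ComodLib.LinRed
import Groth.Agent.CompleteLib.Basic
import Groth.Prelude.Def_W4c1tameactTame

/-! # Invariants of Hopf modules under linearly reductive groups -/

set_option autoImplicit false

noncomputable section

open TensorProduct HopfRep

namespace GLinFinLib

universe u v w w'

section Limit

variable {R : Type*} [CommRing R] [IsLocalRing R] [IsNoetherianRing R]
  {P : Type*} [AddCommGroup P] [Module R P] [Module.Finite R P]

open IsLocalRing

/-- A decreasing sequence of cosets in a finite module over a complete local ring meets. -/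
theorem exists_mem_cosets [IsAdicComplete (maximalIdeal R) R] (N : ℕ → Submodule R P) (hN : Antitone N)
    (x : ℕ → P) (hx : ∀ n, x (n + 1) - x n ∈ N n) : ∃ y, ∀ n, y - x n ∈ N n := by
  classical
  set I := maximalIdeal R
  haveI : IsAdicComplete I P := CompleteLib.isAdicComplete_of_finite
  have hx' : ∀ {m n : ℕ}, m ≤ n → x n - x m ∈ N m := fun {m n} h => by
    induction h with
    | refl => simp
    | @step k hk ih =>
      rw [show x (k + 1) - x m = (x (k + 1) - x k) + (x k - x m) by abel]
      exact add_mem (hN hk (hx k)) ih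
  have hstab : ∀ j, ∃ n, ∀ n', n ≤ n' → N n ≤ N n' ⊔ I ^ j • ⊤ := fun j => by
    haveI : IsArtinianRing (R ⧸ I ^ j) := by
      rcases Nat.eq_zero_or_pos j with rfl | hj
      · haveI : Subsingleton (R ⧸ I ^ 0) := Ideal.Quotient.subsingleton_iff.2 (by simp)
        infer_instance
      · have hne : I ^ j ≠ ⊤ := ne_top_of_le_ne_top (maximalIdeal.isMaximal R).ne_top (Ideal.pow_le_self hj.ne')
        haveI : Nontrivial (R ⧸ I ^ j) := Ideal.Quotient.nontrivial_iff.2 hne
        haveI := IsLocalRing.of_surjective' (Ideal.Quotient.mk (I ^ j)) Ideal.Quotient.mk_surjective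
        rw [isArtinianRing_iff_isNilpotent_maximalIdeal]
        refine ⟨j, ?_⟩
        haveI := IsLocalHom.of_surjective (Ideal.Quotient.mk (I ^ j)) Ideal.Quotient.mk_surjective
        rw [← IsLocalRing.map_maximalIdeal_of_surjective (Ideal.Quotient.mk (I ^ j)) Ideal.Quotient.mk_surjective,
          ← Ideal.map_pow, Ideal.zero_eq_bot]
        exact Ideal.map_quotient_self _
    haveI : IsArtinian R (P ⧸ (I ^ j • ⊤ : Submodule R P)) :=
      isArtinian_of_surjective_algebraMap (R := R ⧸ I ^ j) (S := R) Ideal.Quotient.mk_surjective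
    obtain ⟨n, hn⟩ := IsArtinian.monotone_stabilizes
      (⟨fun n => OrderDual.toDual ((N n).map (Submodule.mkQ (I ^ j • ⊤))),
        fun a b h => Submodule.map_mono (hN h)⟩ : ℕ →o (Submodule R (P ⧸ (I ^ j • ⊤ : Submodule R P)))ᵒᵈ)
    refine ⟨n, fun n' h => ?_⟩
    have h1 : (N n).map (Submodule.mkQ (I ^ j • ⊤)) = (N n').map (Submodule.mkQ (I ^ j • ⊤)) := hn n' h
    rw [sup_comm, ← Submodule.comap_map_mkQ, ← h1]
    exact Submodule.le_comap_map _ _
  choose c hc using hstab
  let d : ℕ → ℕ := fun j => ∑ i ∈ Finset.range (j + 1), c i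
  have hd : Monotone d := fun a b h => Finset.sum_le_sum_of_subset (Finset.range_mono (by omega))
  have hcd : ∀ j, c j ≤ d j := fun j => Finset.single_le_sum (fun i _ => Nat.zero_le _) (Finset.self_mem_range_succ j)
  have step : ∀ (j : ℕ) (p : P), p - x (d j) ∈ N (d j) →
      ∃ p', p' - x (d (j + 1)) ∈ N (d (j + 1)) ∧ p' - p ∈ (I ^ j • ⊤ : Submodule R P) := by
    intro j p hp
    have h1 : p - x (d (j + 1)) ∈ N (c j) := by
      rw [show p - x (d (j + 1)) = (p - x (d j)) - (x (d (j + 1)) - x (d j)) by abel]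
      exact hN (hcd j) (sub_mem hp (hx' (hd (Nat.le_succ j))))
    obtain ⟨a, ha, b, hb, hab⟩ := Submodule.mem_sup.1 (hc j _ ((hcd j).trans (hd (Nat.le_succ j))) h1)
    refine ⟨p - b, ?_, by simpa using neg_mem hb⟩
    rw [show p - b - x (d (j + 1)) = (p - x (d (j + 1))) - b by abel, ← hab, add_sub_cancel_right]
    exact ha
  choose nx hnx hnxd using step
  let seq : ∀ j, {p : P // p - x (d j) ∈ N (d j)} := fun j =>
    Nat.rec (motive := fun j => {p : P // p - x (d j) ∈ N (d j)}) ⟨x (d 0), by simp⟩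
      (fun j p => ⟨nx j p.1 p.2, hnx j p.1 p.2⟩) j
  obtain ⟨y, hy⟩ := CompleteLib.exists_limit (I := I) (fun j => (seq j).1) (fun j => hnxd j _ (seq j).2)
  refine ⟨y, fun n => ?_⟩
  have key : ∀ j, y - x n ∈ N n ⊔ I ^ j • ⊤ := fun j => by
    obtain ⟨j', hj', hn'⟩ : ∃ j', j ≤ j' ∧ x (d j') - x n ∈ N n ⊔ I ^ j • ⊤ := by
      refine ⟨j, le_rfl, ?_⟩
      rcases le_total n (d j) with h | h
      · exact Submodule.mem_sup_left (hx' h)
      · rw [← neg_sub]
        refine neg_mem ?_
        exact hc j n ((hcd j).trans h) (hN (hcd j) (hx' h))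
    have hmem : (seq j').1 - x (d j') ∈ N n ⊔ I ^ j • ⊤ := by
      rcases le_total n (d j') with h | h
      · exact Submodule.mem_sup_left (hN h (seq j').2)
      · refine hc j n ((hcd j).trans ((hd hj').trans h)) (hN ((hcd j).trans (hd hj')) (seq j').2)
    rw [show y - x n = (y - (seq j').1) + (((seq j').1 - x (d j')) + (x (d j') - x n)) by abel]
    exact add_mem (Submodule.mem_sup_right (CompleteLib.pow_smul_top_anti hj' (hy j'))) (add_mem hmem hn')
  have h0 : Submodule.Quotient.mk (y - x n) ∈ (⨅ j, I ^ j • ⊤ : Submodule R (P ⧸ N n)) := by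
    rw [Submodule.mem_iInf]
    intro j
    obtain ⟨a, ha, b, hb, hab⟩ := Submodule.mem_sup.1 (key j)
    rw [← hab, Submodule.Quotient.mk_add, (Submodule.Quotient.mk_eq_zero _).2 ha, zero_add,
      ← Submodule.mkQ_apply]
    have h2 := Submodule.mem_map_of_mem (f := (N n).mkQ) hb
    rw [Submodule.map_smul''] at h2
    exact Submodule.smul_mono le_rfl le_top h2
  rw [Ideal.iInf_pow_smul_eq_bot_of_isLocalRing I (maximalIdeal.isMaximal R).ne_top, Submodule.mem_bot,
    Submodule.Quotient.mk_eq_zero] at h0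
  exact h0

end Limit

section Inv

variable {k : Type u} [Field k] {H : Type v} [CommRing H] [HopfAlgebra k H]
  {A : Type w} [CommRing A] [Algebra k A] [Comod k H A] [GLin.IsCoactAlg k H A]
  {M : Type w'} [AddCommGroup M] [Module k M] [Module A M] [IsScalarTower k A M] [Comod k H M]
  [TameAct.IsHopfMod k H A M]

theorem coact_smul_fixed (r : A) {y : M} (hy : y ∈ fixedPts k H M) :
    Comod.coact (k := k) (A := H) (r • y) =
      ((LinearMap.toSpanSingleton A M y).restrictScalars k).rTensor H (Comod.coact (k := k) (A := H) r) := by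
  rw [TameAct.IsHopfMod.coact_smul (k := k) (A := H),
    show Comod.coact (k := k) (A := H) y = y ⊗ₜ[k] (1 : H) from hy]
  generalize Comod.coact (k := k) (A := H) r = z
  induction z with
  | zero => simp
  | tmul a h => simp
  | add z z' hz hz' => simp only [map_add, LinearMap.add_apply, hz, hz']

theorem isComodHom_smul {y : M} (hy : y ∈ fixedPts k H M) :
    Hoch.IsComodHom H ((LinearMap.toSpanSingleton A M y).restrictScalars k) := by
  refine LinearMap.ext fun r => ?_
  exact (coact_smul_fixed r hy)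

theorem reynolds_smul_fixed (α : H →ₗ[k] k) (r : A) {y : M} (hy : y ∈ fixedPts k H M) :
    ComodLib.reynolds M α (r • y) = ComodLib.reynolds A α r • y :=
  (ComodLib.reynolds_natural α (isComodHom_smul hy) r).symm

theorem reynolds_mem_invariants {α : H →ₗ[k] k} (hα : ComodLib.IsInvariant α) (r : A) :
    ComodLib.reynolds A α r ∈ GLin.invariants k H A := ComodLib.reynolds_mem hα r

theorem smul_mem_fixedPts {r : A} (hr : r ∈ GLin.invariants k H A) {y : M} (hy : y ∈ fixedPts k H M) :
    r • y ∈ fixedPts k H M := by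
  show Comod.coact (k := k) (A := H) (r • y) = (r • y) ⊗ₜ[k] (1 : H)
  rw [coact_smul_fixed r hy, show Comod.coact (k := k) (A := H) r = r ⊗ₜ[k] (1 : H) from hr]
  rfl

variable (k H A M) in
/-- The invariants as a module over the invariant ring. -/
def invMod : Submodule (GLin.invariants k H A) M where
  carrier := fixedPts k H M
  add_mem' := fun h h' => (fixedPts k H M).add_mem h h'
  zero_mem' := (fixedPts k H M).zero_mem
  smul_mem' := fun c _ h => smul_mem_fixedPts c.2 h

theorem exists_fixed_gen [IsNoetherianRing A] [Module.Finite A M] (hG : IsLinearlyReductive k H) :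
    ∃ s : Finset M, (↑s : Set M) ⊆ (fixedPts k H M : Set M) ∧
      ∀ m ∈ fixedPts k H M, ∃ c : M → A,
        (∀ y ∈ s, c y ∈ GLin.invariants k H A) ∧ m = ∑ y ∈ s, c y • y := by
  classical
  obtain ⟨α, hα, h1⟩ := ComodLib.exists_invariant_of_isLinearlyReductive hG
  obtain ⟨s, hs, heq⟩ := Submodule.fg_span_iff_fg_span_finset_subset (R := A) (fixedPts k H M : Set M) |>.1
    (IsNoetherian.noetherian _)
  refine ⟨s, hs, fun m hm => ?_⟩
  have hmem : m ∈ Submodule.span A (↑s : Set M) := heq ▸ Submodule.subset_span hm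
  obtain ⟨c, -, hc⟩ := Submodule.mem_span_finset.1 hmem
  refine ⟨fun y => ComodLib.reynolds A α (c y), fun y _ => reynolds_mem_invariants hα _, ?_⟩
  conv_lhs => rw [← ComodLib.reynolds_fixed h1 hm, ← hc, map_sum]
  exact Finset.sum_congr rfl fun y hy => reynolds_smul_fixed α (c y) (hs hy)

theorem finite_invMod [IsNoetherianRing A] [Module.Finite A M] (hG : IsLinearlyReductive k H) :
    Module.Finite (GLin.invariants k H A) (invMod k H A M) := by
  classical
  obtain ⟨s, hs, h⟩ := exists_fixed_gen (A := A) (M := M) hG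
  refine Module.Finite.iff_fg.2 ⟨s, le_antisymm (Submodule.span_le.2 hs) fun m hm => ?_⟩
  obtain ⟨c, hc, rfl⟩ := h m hm
  exact Submodule.sum_mem _ fun y hy =>
    Submodule.smul_mem _ (⟨c y, hc y hy⟩ : GLin.invariants k H A) (Submodule.subset_span hy)

theorem reynolds_mem_of_isSubcomod (α : H →ₗ[k] k) {W : Submodule k M}
    (hW : IsSubcomod (k := k) (A := H) W) {x : M} (hx : x ∈ W) : ComodLib.reynolds M α x ∈ W :=
  ComodLib.slice_mem_of_mem_range W _ (hW x hx)

theorem fixed_separated_complete [IsNoetherianRing A] (hG : IsLinearlyReductive k H)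
    (m : Ideal A) (hm : m ≠ ⊤) (hms : IsSubcomod (k := k) (A := H) (m.restrictScalars k))
    [IsLocalRing ↥(GLin.invariants k H A)] [IsNoetherianRing ↥(GLin.invariants k H A)]
    [IsAdicComplete (IsLocalRing.maximalIdeal ↥(GLin.invariants k H A)) ↥(GLin.invariants k H A)]
    [Module.Finite A M] :
    (∀ x ∈ fixedPts k H M, (∀ n : ℕ, x ∈ (m ^ n • ⊤ : Submodule A M)) → x = 0) ∧
      ∀ x : ℕ → M, (∀ n, x n ∈ fixedPts k H M) →
        (∀ n, x (n + 1) - x n ∈ (m ^ n • ⊤ : Submodule A M)) →
          ∃ y ∈ fixedPts k H M, ∀ n, y - x n ∈ (m ^ n • ⊤ : Submodule A M) := by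
  classical
  constructor
  · intro x hx hall
    obtain ⟨α, hα, h1⟩ := ComodLib.exists_invariant_of_isLinearlyReductive hG
    obtain ⟨⟨r, hr⟩, hrx⟩ := (m.mem_iInf_smul_pow_eq_bot_iff x).1 (Submodule.mem_iInf _ |>.2 hall)
    let e : GLin.invariants k H A := ⟨ComodLib.reynolds A α r, reynolds_mem_invariants hα r⟩
    have he : (e : A) • x = x := by
      conv_rhs => rw [← ComodLib.reynolds_fixed h1 hx, ← hrx, reynolds_smul_fixed α _ hx]
    have hem : (e : A) ∈ m := reynolds_mem_of_isSubcomod α hms hr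
    have hu : IsUnit (1 - e) := IsLocalRing.isUnit_one_sub_self_of_mem_nonunits e fun hu =>
      hm (Ideal.eq_top_of_isUnit_mem m hem (hu.map (GLin.invariants k H A).val))
    have h0 : (1 - e) • x = 0 := by
      rw [sub_smul, one_smul]
      exact sub_eq_zero.2 he.symm
    exact hu.smul_eq_zero.1 h0
  · intro x hxf hx
    haveI := finite_invMod (A := A) (M := M) hG
    let N : ℕ → Submodule (GLin.invariants k H A) (invMod k H A M) := fun n =>
      ((m ^ n • ⊤ : Submodule A M).restrictScalars (GLin.invariants k H A)).comap (invMod k H A M).subtype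
    obtain ⟨y, hy⟩ := exists_mem_cosets N
      (fun a b h z hz => by
        have hz' : (z : M) ∈ (m ^ b • ⊤ : Submodule A M) := hz
        exact (Submodule.smul_mono_left (Ideal.pow_le_pow_right h) hz' : (z : M) ∈ (m ^ a • ⊤ : Submodule A M)))
      (fun n => ⟨x n, hxf n⟩) (fun n => hx n)
    exact ⟨y, y.2, hy⟩

end Inv

end GLinFinLib
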