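import Mathlib
import Groth.Agent.ComodLib.Reynolds

/-! # Tame actions: the averaging operator on the ring -/

set_option autoImplicit false

noncomputable section

open TensorProduct HopfRep

namespace GLinFinLib.Tame

universe u v w w'

variable {k : Type u} [CommRing k] {A : Type v} [CommRing A] [HopfAlgebra k A]
  {B : Type w} [CommRing B] [Algebra k B] [Comod k A B] [GLin.IsCoactAlg k A B]

instance selfHopfMod : TameAct.IsHopfMod k A B B := ⟨fun b m => by
  rw [smul_eq_mul, GLin.IsCoactAlg.coact_mul (k := k) (A := A)]
  generalize Comod.coact (k := k) (A := A) b = y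
  generalize Comod.coact (k := k) (A := A) m = z
  induction y with
  | zero => simp
  | add y y' hy hy' => simp only [add_mul, map_add, LinearMap.add_apply, hy, hy']
  | tmul c a =>
    induction z with
    | zero => simp
    | tmul d e => simp [Algebra.TensorProduct.tmul_mul_tmul]
    | add z z' hz hz' => simp only [mul_add, map_add, hz, hz']⟩

variable {M : Type w'} [AddCommGroup M] [Module k M] [Module B M] [IsScalarTower k B M] [Comod k A M]
  [TameAct.IsHopfMod k A B M]

theorem isComodHom_toSpanSingleton {m : M} (hm : m ∈ fixedPts k A M) :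
    Hoch.IsComodHom A ((LinearMap.toSpanSingleton B M m).restrictScalars k) := by
  refine LinearMap.ext fun b => ?_
  show Comod.coact (k := k) (A := A) (b • m) = _
  rw [TameAct.IsHopfMod.coact_smul (k := k) (A := A), show Comod.coact (k := k) (A := A) m = m ⊗ₜ[k] (1 : A) from hm]
  simp only [LinearMap.comp_apply]
  generalize Comod.coact (k := k) (A := A) b = y
  induction y with
  | zero => simp
  | add y y' hy hy' => simp only [map_add, LinearMap.add_apply, hy, hy']
  | tmul c a => simp

theorem reynolds_smul_fixed (α : A →ₗ[k] B) (b : B) {m : M} (hm : m ∈ fixedPts k A M) :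
    TameAct.reynolds k A B M α (b • m) = TameAct.reynolds k A B B α b • m :=
  (ComodLib.reynolds_natural' α (LinearMap.toSpanSingleton B M m) (isComodHom_toSpanSingleton hm) b).symm

omit [GLin.IsCoactAlg k A B] in
theorem reynolds_mem_of_isSubcomod (α : A →ₗ[k] B) {N : Submodule B B}
    (hN : IsSubcomod (k := k) (A := A) (N.restrictScalars k)) {v : B} (hv : v ∈ N) :
    TameAct.reynolds k A B B α v ∈ N := by
  obtain ⟨t, ht⟩ := hN v hv
  simp only [TameAct.reynolds, LinearMap.comp_apply]
  rw [← ht]
  clear ht
  induction t with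
  | zero => simp
  | add a b ha hb => rw [map_add, map_add]; exact add_mem ha hb
  | tmul q c =>
    rw [LinearMap.rTensor_tmul, TensorProduct.lift.tmul]
    exact N.smul_mem _ q.2

/-- The averaging operator as a map to the invariant ring. -/
def proj {α : A →ₗ[k] B} (hα : Hoch.IsComodHom A α) (b : B) : GLin.invariants k A B :=
  ⟨TameAct.reynolds k A B B α b, ComodLib.reynolds_mem_fixedPts hα b⟩

theorem proj_mem_of_mem_map {α : A →ₗ[k] B} (hα : Hoch.IsComodHom A α)
    (c : Ideal (GLin.invariants k A B)) {y : B} (hy : y ∈ c.map (algebraMap (GLin.invariants k A B) B)) :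
    proj hα y ∈ c := by
  have hy' : y ∈ Submodule.span B (algebraMap (GLin.invariants k A B) B '' (c : Set _)) := hy
  obtain ⟨n, f, g, h⟩ := Submodule.mem_span_set'.1 hy'
  choose z hz hzg using fun i => (g i).2
  have e : proj hα y = ∑ i, proj hα (f i) * z i := by
    apply Subtype.ext
    rw [AddSubmonoidClass.coe_finsetSum]
    show TameAct.reynolds k A B B α y = _
    rw [← h, map_sum]
    refine Finset.sum_congr rfl fun i _ => ?_
    rw [← hzg i]
    exact reynolds_smul_fixed α (f i) (z i).2
  rw [e]
  exact sum_mem fun i _ => Ideal.mul_mem_left _ _ (hz i)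

theorem proj_algebraMap {α : A →ₗ[k] B} (hα : Hoch.IsComodHom A α) (h1 : α 1 = 1)
    (u : GLin.invariants k A B) : proj hα (u : B) = u :=
  Subtype.ext (ComodLib.reynolds_eq_self h1 u.2)

theorem comap_map_eq {α : A →ₗ[k] B} (hα : Hoch.IsComodHom A α) (h1 : α 1 = 1)
    (c : Ideal (GLin.invariants k A B)) :
    (c.map (algebraMap (GLin.invariants k A B) B)).comap (algebraMap (GLin.invariants k A B) B) = c := by
  refine le_antisymm (fun u hu => ?_) Ideal.le_comap_map
  have := proj_mem_of_mem_map hα c hu
  rwa [show proj hα ((algebraMap (GLin.invariants k A B) B) u) = u from proj_algebraMap hα h1 u] at this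

end GLinFinLib.Tame
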