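import Mathlib
import Groth.Agent.ComodLib.LinRed
import Groth.Agent.GLinFinLib.Basic

/-! # Finite generation of invariants of a finitely generated equivariant algebra -/

set_option autoImplicit false

noncomputable section

open TensorProduct HopfRep MvPolynomial
open scoped ComodLib

namespace GLinFinLib

universe u v w x

variable {k : Type u} [Field k] {H : Type v} [CommRing H] [HopfAlgebra k H]

local notation "Δ" => Bialgebra.comulAlgHom k H

/-- A finite family closed under the coaction. -/
theorem exists_closed_family {V : Type x} [AddCommGroup V] [Module k V] [Comod k H V] (g : Finset V) :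
    ∃ (r : ℕ) (v : Fin r → V) (m : Fin r → Fin r → H),
      (∀ x ∈ g, x ∈ Submodule.span k (Set.range v)) ∧
      (∀ i, Comod.coact (k := k) (A := H) (v i) = ∑ j, v j ⊗ₜ[k] m j i) ∧
      (∀ j i, CoalgebraStruct.comul (R := k) (m j i) = ∑ l, m j l ⊗ₜ[k] m l i) ∧
      (∀ j i, CoalgebraStruct.counit (R := k) (m j i) = if j = i then (1 : k) else 0) := by
  classical
  let S' : Submodule (ComodLib.Dual' k H) V := ⨆ x : g, Submodule.span (ComodLib.Dual' k H) {(x : V)}
  let S : Submodule k V := S'.restrictScalars k
  have hS : IsSubcomod (k := k) (A := H) S := ComodLib.isSubcomod_restrictScalars S'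
  haveI : FiniteDimensional k S := by
    have h : S = ⨆ x : g, (Submodule.span (ComodLib.Dual' k H) {(x : V)}).restrictScalars k :=
      by simp only [S, S', Submodule.restrictScalars_iSup]
    haveI : ∀ x : g, FiniteDimensional k ↥((Submodule.span (ComodLib.Dual' k H) {(x : V)}).restrictScalars k) :=
      fun x => ComodLib.finite_span_singleton H (x : V)
    rw [h]
    infer_instance
  let b := Module.finBasis k S
  let v : Fin (Module.finrank k S) → V := fun i => (b i : V)
  have hm : ∀ i, ∃ m : Fin (Module.finrank k S) → H, Comod.coact (k := k) (A := H) (v i) = ∑ j, v j ⊗ₜ[k] m j := by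
    intro i
    obtain ⟨y, hy⟩ := hS (v i) (b i).2
    refine ⟨fun j => TensorProduct.equivFinsuppOfBasisLeft b y j, ?_⟩
    have h1 : y = ∑ j, b j ⊗ₜ[k] (TensorProduct.equivFinsuppOfBasisLeft b y j) := by
      conv_lhs => rw [← (TensorProduct.equivFinsuppOfBasisLeft b).symm_apply_apply y,
        TensorProduct.equivFinsuppOfBasisLeft_symm_apply, Finsupp.sum_fintype _ _ (fun i => TensorProduct.tmul_zero _ _)]
    rw [← hy]
    conv_lhs => rw [h1]
    simp [map_sum, v]
  choose m hm using hm
  have hli : LinearIndependent k v := b.linearIndependent.map' S.subtype S.ker_subtype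
  have hdual : ∀ j, ∃ f : V →ₗ[k] k, ∀ i, f (v i) = if j = i then 1 else 0 := fun j => by
    obtain ⟨π, hπ⟩ := LinearMap.exists_leftInverse_of_injective S.subtype S.ker_subtype
    refine ⟨b.coord j ∘ₗ π, fun i => ?_⟩
    rw [LinearMap.comp_apply, show π (v i) = b i from LinearMap.congr_fun hπ (b i)]
    simp [Module.Basis.coord, Finsupp.single_apply, eq_comm]
  choose f hf using hdual
  refine ⟨_, v, fun j i => m i j, fun x hx => ?_, hm, fun j i => ?_, fun j i => ?_⟩
  · have hxS : x ∈ S := Submodule.mem_iSup_of_mem (⟨x, hx⟩ : g) (Submodule.mem_span_singleton_self x)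
    have := Submodule.mem_map_of_mem (f := S.subtype) (b.mem_span ⟨x, hxS⟩)
    rw [Submodule.map_span, ← Set.range_comp] at this
    exact this
  · have h := ComodLib.coassoc_apply (k := k) (A := H) (V := V) (v i)
    rw [hm] at h
    simp only [map_sum, LinearMap.rTensor_tmul, hm, TensorProduct.sum_tmul, TensorProduct.assoc_tmul,
      LinearMap.lTensor_tmul] at h
    have h2 := congrArg (fun z => TensorProduct.lid k (H ⊗[k] H) ((f j).rTensor (H ⊗[k] H) z)) h
    simp only [map_sum, LinearMap.rTensor_tmul, hf, TensorProduct.lid_tmul, ite_smul, one_smul, zero_smul,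
      Finset.sum_ite_eq, Finset.mem_univ, if_true] at h2
    exact h2.symm
  · have h := ComodLib.slice_counit (k := k) (A := H) (V := V) (v i)
    rw [hm] at h
    simp only [map_sum, ComodLib.slice_tmul] at h
    have h2 := congrArg (f j) h
    simpa [map_sum, hf] using h2

variable (hG : IsLinearlyReductive k H) {A : Type w} [CommRing A] [Algebra k A]
  [Comod k H A] [GLin.IsCoactAlg k H A] {r : ℕ} (m : Fin r → Fin r → H)

local notation "P" => MvPolynomial (Fin r) A

/-- The constants. -/
def constHom (A : Type w) [CommRing A] [Algebra k A] (r : ℕ) : A →ₐ[k] MvPolynomial (Fin r) A :=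
  IsScalarTower.toAlgHom k A (MvPolynomial (Fin r) A)

/-- The coaction on the polynomial ring. -/
def polyCoact : P →ₐ[k] P ⊗[k] H :=
  { eval₂Hom (((Algebra.TensorProduct.map (constHom (k := k) A r) (AlgHom.id k H)).comp
        (GLin.coactAlgHom k H A) : A →ₐ[k] MvPolynomial (Fin r) A ⊗[k] H)).toRingHom
      (fun i => ∑ j, (X j : P) ⊗ₜ[k] m j i) with
    commutes' := fun c => by
      show eval₂ _ _ (algebraMap k P c) = _
      rw [IsScalarTower.algebraMap_apply k A P, MvPolynomial.algebraMap_eq, eval₂_C]
      exact ((Algebra.TensorProduct.map (constHom (k := k) A r) (AlgHom.id k H)).comp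
        (GLin.coactAlgHom k H A)).commutes c }

theorem polyCoact_C (a : A) : polyCoact (k := k) (A := A) m (C a) =
    Algebra.TensorProduct.map (constHom (k := k) A r) (AlgHom.id k H) (Comod.coact (k := k) (A := H) a) :=
  eval₂Hom_C _ _ _

theorem polyCoact_X (i : Fin r) : polyCoact (k := k) (A := A) m (X i) = ∑ j, (X j : P) ⊗ₜ[k] m j i :=
  eval₂Hom_X' _ _ _

variable (hmul : ∀ j i, CoalgebraStruct.comul (R := k) (m j i) = ∑ l, m j l ⊗ₜ[k] m l i)
  (hone : ∀ j i, CoalgebraStruct.counit (R := k) (m j i) = if j = i then (1 : k) else 0)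

omit [GLin.IsCoactAlg k H A] in
theorem algHom_ext_poly {B : Type x} [CommRing B] [Algebra k B] {f g : P →ₐ[k] B}
    (hC : ∀ a, f (C a) = g (C a)) (hX : ∀ i, f (X i) = g (X i)) : f = g :=
  AlgHom.ext fun x => RingHom.congr_fun (MvPolynomial.ringHom_ext (f := f.toRingHom) (g := g.toRingHom) hC hX) x

include hmul hone in
/-- The polynomial ring as a comodule. -/
@[reducible] def polyComod : Comod k H P where
  coact := (polyCoact (k := k) (A := A) m).toLinearMap
  coassoc := by
    have h : ((Algebra.TensorProduct.assoc k k k P H H).toAlgHom.comp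
        ((Algebra.TensorProduct.map (polyCoact (k := k) (A := A) m) (AlgHom.id k H)).comp (polyCoact (k := k) (A := A) m))) =
        (Algebra.TensorProduct.map (AlgHom.id k P) Δ).comp (polyCoact (k := k) (A := A) m) := by
      refine algHom_ext_poly (fun a => ?_) (fun i => ?_)
      · simp only [AlgHom.comp_apply, polyCoact_C]
        have hA := ComodLib.coassoc_apply (k := k) (A := H) (V := A) a
        have e1 : ∀ z : A ⊗[k] H, (Algebra.TensorProduct.assoc k k k P H H).toAlgHom
            (Algebra.TensorProduct.map (polyCoact (k := k) (A := A) m) (AlgHom.id k H)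
              (Algebra.TensorProduct.map (constHom (k := k) A r) (AlgHom.id k H) z)) =
            TensorProduct.map (constHom (k := k) A r).toLinearMap LinearMap.id
              (TensorProduct.assoc k A H H ((Comod.coact (k := k) (A := H)).rTensor H z)) := fun z => by
          induction z with
          | zero => simp
          | add z z' hz hz' => simp only [map_add, hz, hz']
          | tmul x h =>
            simp only [Algebra.TensorProduct.map_tmul, AlgHom.id_apply, LinearMap.rTensor_tmul,
              show constHom (k := k) A r x = C x from rfl, polyCoact_C]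
            generalize Comod.coact (k := k) (A := H) x = w
            induction w with
            | zero => simp [TensorProduct.zero_tmul]
            | add w w' hw hw' => simp only [map_add, TensorProduct.add_tmul, hw, hw']
            | tmul y h' => simp [constHom]
        have e2 : ∀ z : A ⊗[k] H, Algebra.TensorProduct.map (AlgHom.id k P) Δ
              (Algebra.TensorProduct.map (constHom (k := k) A r) (AlgHom.id k H) z) =
            TensorProduct.map (constHom (k := k) A r).toLinearMap LinearMap.id
              ((CoalgebraStruct.comul (R := k)).lTensor A z) := fun z => by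
          induction z with
          | zero => simp
          | add z z' hz hz' => simp only [map_add, hz, hz']
          | tmul x h => simp
        rw [e1, e2, hA]
      · simp only [AlgHom.comp_apply, polyCoact_X, map_sum, Algebra.TensorProduct.map_tmul, AlgHom.id_apply,
          TensorProduct.sum_tmul, Bialgebra.comulAlgHom_apply, hmul, TensorProduct.tmul_sum]
        rw [Finset.sum_comm]
        exact Finset.sum_congr rfl fun j _ => Finset.sum_congr rfl fun l _ => rfl
    exact LinearMap.ext fun x => AlgHom.congr_fun h x
  counit_comp := by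
    have h : (Algebra.TensorProduct.map (AlgHom.id k P) (Bialgebra.counitAlgHom k H)).comp (polyCoact (k := k) (A := A) m) =
        Algebra.TensorProduct.includeLeft := by
      refine algHom_ext_poly (fun a => ?_) (fun i => ?_)
      · simp only [AlgHom.comp_apply, polyCoact_C]
        have e1 : ∀ z : A ⊗[k] H, Algebra.TensorProduct.map (AlgHom.id k P) (Bialgebra.counitAlgHom k H)
            (Algebra.TensorProduct.map (constHom (k := k) A r) (AlgHom.id k H) z) =
            TensorProduct.map (constHom (k := k) A r).toLinearMap LinearMap.id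
              ((CoalgebraStruct.counit (R := k)).lTensor A z) := fun z => by
          induction z with
          | zero => simp
          | add z z' hz hz' => simp only [map_add, hz, hz']
          | tmul x h => simp
        rw [e1, show (CoalgebraStruct.counit (R := k)).lTensor A (Comod.coact (k := k) (A := H) a) = a ⊗ₜ[k] (1 : k) from
          LinearMap.congr_fun (Comod.counit_comp (k := k) (A := H) (V := A)) a]
        simp [constHom]
      · simp only [AlgHom.comp_apply, polyCoact_X, map_sum, Algebra.TensorProduct.map_tmul, AlgHom.id_apply,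
          Bialgebra.counitAlgHom_apply, Algebra.TensorProduct.includeLeft_apply]
        rw [Finset.sum_eq_single i (fun j _ hj => by rw [hone, if_neg hj, TensorProduct.tmul_zero])
          (fun h => absurd (Finset.mem_univ i) h), hone, if_pos rfl]
    exact LinearMap.ext fun x => AlgHom.congr_fun h x

/-- Scaling all variables by `T`. -/
def degHom : P →+* Polynomial P :=
  eval₂Hom (Polynomial.C.comp C) (fun i => Polynomial.C (X i) * Polynomial.X)

omit [GLin.IsCoactAlg k H A] in
theorem coeff_degHom (e : ℕ) (f : P) : (degHom f).coeff e = homogeneousComponent e f := by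
  induction f using MvPolynomial.induction_on' with
  | monomial d a =>
    have h : degHom (monomial d a : P) = Polynomial.C (monomial d a : P) * Polynomial.X ^ d.degree := by
      rw [degHom, eval₂Hom_monomial, monomial_eq, map_mul, RingHom.comp_apply, map_finsuppProd]
      simp only [mul_pow, Finsupp.prod_mul, map_pow]
      rw [← mul_assoc, Finsupp.prod, Finsupp.prod, Finset.prod_pow_eq_pow_sum]
      rfl
    rw [h, Polynomial.coeff_C_mul_X_pow]
    by_cases he : e = d.degree
    · subst he
      rw [if_pos rfl, homogeneousComponent_of_mem (n := d.degree) ((mem_homogeneousSubmodule _ _).2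
        (isHomogeneous_monomial a rfl)), if_pos rfl]
    · rw [if_neg he, homogeneousComponent_of_mem (n := d.degree) ((mem_homogeneousSubmodule _ _).2
        (isHomogeneous_monomial a rfl)), if_neg he]
  | add p q hp hq => rw [map_add, Polynomial.coeff_add, hp, hq, map_add]

theorem coact_homogeneousComponent (e : ℕ) (f : P) :
    polyCoact (k := k) (A := A) m (homogeneousComponent e f) =
      ((homogeneousComponent (R := A) (σ := Fin r) e).restrictScalars k).rTensor H (polyCoact (k := k) (A := A) m f) := by
  let Q : Polynomial P →+* Polynomial (P ⊗[k] H) := Polynomial.mapRingHom (polyCoact (k := k) (A := A) m).toRingHom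
  let ΦH : P ⊗[k] H →ₐ[k] Polynomial (P ⊗[k] H) := Algebra.TensorProduct.lift
    { (Polynomial.mapRingHom (Algebra.TensorProduct.includeLeft : P →ₐ[k] P ⊗[k] H).toRingHom).comp degHom with
      commutes' := fun c => by
        show Polynomial.map _ (degHom (algebraMap k P c)) = _
        rw [IsScalarTower.algebraMap_apply k A P, MvPolynomial.algebraMap_eq, degHom, eval₂Hom_C,
          RingHom.comp_apply, Polynomial.map_C, ← MvPolynomial.algebraMap_eq, ← IsScalarTower.algebraMap_apply k A P,
          Polynomial.algebraMap_apply]
        congr 1 }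
    { (Polynomial.C (R := P ⊗[k] H)).comp (Algebra.TensorProduct.includeRight : H →ₐ[k] P ⊗[k] H).toRingHom with
      commutes' := fun c => by
        show Polynomial.C ((Algebra.TensorProduct.includeRight : H →ₐ[k] P ⊗[k] H) (algebraMap k H c)) = _
        rw [AlgHom.commutes, Polynomial.algebraMap_apply] }
    (fun x y => by
      show _ * _ = _ * _
      exact mul_comm (G := Polynomial (MvPolynomial (Fin r) A ⊗[k] H)) _ _)
  have hΦ : ∀ (x : P) (h : H), ΦH (x ⊗ₜ h) =
      Polynomial.map (Algebra.TensorProduct.includeLeft : P →ₐ[k] P ⊗[k] H).toRingHom (degHom x) *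
        Polynomial.C ((1 : P) ⊗ₜ[k] h) := fun x h => Algebra.TensorProduct.lift_tmul _ _ _ _ _
  have hz : ∀ z, (ΦH z).coeff e = ((homogeneousComponent (R := A) (σ := Fin r) e).restrictScalars k).rTensor H z := fun z => by
    induction z with
    | zero => simp
    | add z z' hz hz' => rw [map_add, Polynomial.coeff_add, hz, hz', map_add]
    | tmul x h =>
      rw [hΦ, Polynomial.coeff_mul_C, Polynomial.coeff_map, coeff_degHom, LinearMap.rTensor_tmul]
      simp
  have heq : Q.comp degHom = ΦH.toRingHom.comp (polyCoact (k := k) (A := A) m).toRingHom := by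
    refine MvPolynomial.ringHom_ext (fun a => ?_) (fun i => ?_)
    · show Polynomial.map _ (degHom (C a)) = ΦH (polyCoact (k := k) (A := A) m (C a))
      rw [degHom, eval₂Hom_C, RingHom.comp_apply, Polynomial.map_C]
      show Polynomial.C (polyCoact (k := k) (A := A) m (C a)) = _
      rw [polyCoact_C]
      generalize Comod.coact (k := k) (A := H) a = z
      induction z with
      | zero => simp
      | add z z' hz hz' => simp only [map_add, hz, hz']
      | tmul x h =>
        rw [Algebra.TensorProduct.map_tmul, hΦ, show constHom (k := k) A r x = C x from rfl, degHom, eval₂Hom_C,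
          RingHom.comp_apply, Polynomial.map_C, ← map_mul]
        simp
    · show Polynomial.map _ (degHom (X i)) = ΦH (polyCoact (k := k) (A := A) m (X i))
      rw [degHom, eval₂Hom_X', Polynomial.map_mul, Polynomial.map_C, Polynomial.map_X]
      show Polynomial.C (polyCoact (k := k) (A := A) m (X i)) * _ = _
      rw [polyCoact_X, map_sum, map_sum, Finset.sum_mul]
      refine Finset.sum_congr rfl fun j _ => ?_
      rw [hΦ, degHom, eval₂Hom_X', Polynomial.map_mul, Polynomial.map_C, Polynomial.map_X]
      conv_rhs => rw [mul_assoc, Polynomial.X_mul_C, ← mul_assoc, ← map_mul]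
      simp
  have := congrArg (fun p => Polynomial.coeff p e) (RingHom.congr_fun heq f)
  simp only [RingHom.comp_apply, Q, Polynomial.coe_mapRingHom, Polynomial.coeff_map, coeff_degHom] at this
  exact this.trans (hz _)

omit [GLin.IsCoactAlg k H A] in
theorem hc_mul {d e : ℕ} (p : P) {a : P} (ha : a ∈ homogeneousSubmodule (Fin r) A e) :
    homogeneousComponent d (p * a) = if e ≤ d then homogeneousComponent (d - e) p * a else 0 := by
  have h1 : ∀ j, homogeneousComponent d (homogeneousComponent j p * a) =
      if j + e = d then homogeneousComponent j p * a else 0 := by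
    intro j
    rw [homogeneousComponent_of_mem ((homogeneousComponent_isHomogeneous j p).mul
      ((mem_homogeneousSubmodule _ _).1 ha))]
    by_cases h : d = j + e
    · rw [if_pos h, if_pos h.symm]
    · rw [if_neg h, if_neg fun h' => h h'.symm]
  conv_lhs => rw [← sum_homogeneousComponent p]
  rw [Finset.sum_mul, map_sum, Finset.sum_congr rfl fun j _ => h1 j]
  split_ifs with hed
  · rw [Finset.sum_eq_single (d - e) (fun j _ hj => if_neg (by omega))]
    · rw [if_pos (by omega)]
    · intro h
      rw [if_pos (by omega), homogeneousComponent_eq_zero _ _ (by simp at h; omega), zero_mul]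
  · exact Finset.sum_eq_zero fun j _ => if_neg (by omega)

include hG hmul hone in
theorem poly_invariants [IsNoetherianRing A] :
    ∃ t : Finset P, (∀ f ∈ t, polyCoact (k := k) (A := A) m f = f ⊗ₜ[k] (1 : H)) ∧
      ∀ f : P, polyCoact (k := k) (A := A) m f = f ⊗ₜ[k] (1 : H) →
        f ∈ Algebra.adjoin k ((C '' (↑(GLin.invariants k H A) : Set A)) ∪ (↑t : Set P)) := by
  classical
  letI := polyComod (k := k) (A := A) m hmul hone
  haveI : GLin.IsCoactAlg k H P := ⟨map_one (polyCoact (k := k) (A := A) m), map_mul (polyCoact (k := k) (A := A) m)⟩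
  obtain ⟨α, hα, h1⟩ := ComodLib.exists_invariant_of_isLinearlyReductive hG
  have hcFix : ∀ e, ∀ f : P, f ∈ fixedPts k H P → homogeneousComponent e f ∈ fixedPts k H P := by
    intro e f hf
    show polyCoact (k := k) (A := A) m (homogeneousComponent e f) = _
    rw [coact_homogeneousComponent, show polyCoact (k := k) (A := A) m f = f ⊗ₜ[k] (1 : H) from hf, LinearMap.rTensor_tmul]
    rfl
  have hR : ∀ (p a : P), a ∈ fixedPts k H P →
      ComodLib.reynolds P α (p * a) = ComodLib.reynolds P α p * a := by
    intro p a ha
    refine (ComodLib.reynolds_natural α (φ := LinearMap.mulRight k a) (LinearMap.ext fun f => ?_) p).symm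
    show polyCoact (k := k) (A := A) m (f * a) = (LinearMap.mulRight k a).rTensor H (polyCoact (k := k) (A := A) m f)
    rw [map_mul, show polyCoact (k := k) (A := A) m a = a ⊗ₜ[k] (1 : H) from ha]
    generalize polyCoact (k := k) (A := A) m f = z
    induction z with
    | zero => simp
    | add z z' hz hz' => rw [add_mul, map_add, hz, hz']
    | tmul x c => simp [Algebra.TensorProduct.tmul_mul_tmul]
  let G : Set P := {f | f ∈ fixedPts k H P ∧ ∃ d, 0 < d ∧ f ∈ homogeneousSubmodule (Fin r) A d}
  have hfg : (Ideal.span G).FG := IsNoetherian.noetherian _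
  obtain ⟨t, htG, ht⟩ := (Submodule.fg_span_iff_fg_span_finset_subset G).1 hfg
  refine ⟨t, fun f hf => (htG hf).1, ?_⟩
  have key : ∀ d, ∀ f ∈ fixedPts k H P, f ∈ homogeneousSubmodule (Fin r) A d →
      f ∈ Algebra.adjoin k ((C '' (↑(GLin.invariants k H A) : Set A)) ∪ (↑t : Set P)) := by
    intro d
    induction d using Nat.strong_induction_on with
    | _ d ih =>
      intro f hf hfd
      rcases Nat.eq_zero_or_pos d with rfl | hd
      · have hf' : f = C (coeff 0 f) := by
          rw [← homogeneousComponent_zero, homogeneousComponent_of_mem hfd, if_pos rfl]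
        refine Algebra.subset_adjoin (Or.inl ⟨coeff 0 f, ?_, hf'.symm⟩)
        show Comod.coact (k := k) (A := H) (coeff 0 f) = coeff 0 f ⊗ₜ[k] (1 : H)
        have h2 : polyCoact (k := k) (A := A) m (C (coeff 0 f)) = (C (coeff 0 f) : P) ⊗ₜ[k] (1 : H) := hf' ▸ hf
        rw [polyCoact_C] at h2
        have h3 := congrArg (TensorProduct.map ((lcoeff A (0 : Fin r →₀ ℕ)).restrictScalars k) LinearMap.id) h2
        rw [TensorProduct.map_tmul] at h3
        have h4 : ∀ z : A ⊗[k] H, TensorProduct.map ((lcoeff A (0 : Fin r →₀ ℕ)).restrictScalars k) LinearMap.id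
            (Algebra.TensorProduct.map (constHom (k := k) A r) (AlgHom.id k H) z) = z := fun z => by
          induction z with
          | zero => simp
          | add z z' hz hz' => simp only [map_add, hz, hz']
          | tmul x c => simp [constHom]
        rw [h4] at h3
        simpa using h3
      · have hfI : f ∈ Submodule.span P (t : Set P) := ht ▸ Submodule.subset_span ⟨hf, d, hd, hfd⟩
        obtain ⟨g, -, hg⟩ := Submodule.mem_span_finset.1 hfI
        have h2 : f = ∑ a ∈ t, homogeneousComponent d (ComodLib.reynolds P α (g a) * a) := by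
          conv_lhs => rw [← (if_pos rfl : (if d = d then f else 0) = f),
            ← homogeneousComponent_of_mem hfd, ← ComodLib.reynolds_fixed h1 hf, ← hg]
          rw [map_sum, map_sum]
          refine Finset.sum_congr rfl fun a ha => ?_
          rw [smul_eq_mul, hR _ _ (htG ha).1]
        rw [h2]
        refine Subalgebra.sum_mem _ fun a ha => ?_
        obtain ⟨-, e, he, hae⟩ := htG ha
        rw [hc_mul _ hae]
        split_ifs with hed
        · exact Subalgebra.mul_mem _ (ih (d - e) (by omega) _
            (hcFix _ _ (ComodLib.reynolds_mem hα _))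
            ((mem_homogeneousSubmodule _ _).2 (homogeneousComponent_isHomogeneous _ _)))
            (Algebra.subset_adjoin (Or.inr ha))
        · exact Subalgebra.zero_mem _
  intro f hf
  rw [← sum_homogeneousComponent f]
  exact Subalgebra.sum_mem _ fun j _ => key j _ (hcFix j f hf)
    ((mem_homogeneousSubmodule _ _).2 (homogeneousComponent_isHomogeneous _ _))

include hG in
theorem exists_finset_invariants_le_adjoin [IsNoetherianRing A] (C' : Type x) [CommRing C'] [Algebra k C']
    [Comod k H C'] [GLin.IsCoactAlg k H C'] [Algebra A C'] [IsScalarTower k A C'] [Algebra.FiniteType A C']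
    (hAC : Hoch.IsComodHom H (IsScalarTower.toAlgHom k A C').toLinearMap) :
    ∃ s : Finset C', (∀ f ∈ s, f ∈ fixedPts k H C') ∧
      GLin.invariants k H C' =
        Algebra.adjoin k (⇑(algebraMap A C') '' ↑(GLin.invariants k H A) ∪ ↑s) := by
  classical
  obtain ⟨g, hg⟩ := ‹Algebra.FiniteType A C'›.out
  obtain ⟨r, v, m, hgv, hv, hmul, hone⟩ := exists_closed_family (k := k) (H := H) g
  letI := polyComod (k := k) (A := A) m hmul hone
  let π : MvPolynomial (Fin r) A →ₐ[k] C' := (MvPolynomial.aeval v).restrictScalars k
  have hπ : Function.Surjective π := by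
    show Function.Surjective (MvPolynomial.aeval (R := A) v)
    rw [← AlgHom.range_eq_top, eq_top_iff, ← hg, Algebra.adjoin_le_iff, ← Algebra.adjoin_range_eq_range_aeval]
    intro x hx
    have h1 : Submodule.span k (Set.range v) ≤
        (Subalgebra.toSubmodule (Algebra.adjoin A (Set.range v))).restrictScalars k :=
      Submodule.span_le.2 fun y hy => Algebra.subset_adjoin hy
    exact h1 (hgv x hx)
  have hπC : ∀ a, π (C a) = algebraMap A C' a := fun a => MvPolynomial.aeval_C _ _
  have hπX : ∀ i, π (X i) = v i := fun i => MvPolynomial.aeval_X _ _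
  have hπc : Hoch.IsComodHom H π.toLinearMap := by
    have h : (GLin.coactAlgHom k H C').comp π =
        (Algebra.TensorProduct.map π (AlgHom.id k H)).comp (polyCoact (k := k) (A := A) m) := by
      refine algHom_ext_poly (fun a => ?_) (fun i => ?_)
      · rw [AlgHom.comp_apply, AlgHom.comp_apply, polyCoact_C, hπC, GLin.coactAlgHom_apply]
        refine (LinearMap.congr_fun hAC a).trans ?_
        show (IsScalarTower.toAlgHom k A C').toLinearMap.rTensor H (Comod.coact (k := k) (A := H) a) = _
        generalize Comod.coact (k := k) (A := H) a = z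
        induction z with
        | zero => simp
        | add z z' hz hz' => simp only [map_add, hz, hz']
        | tmul x c =>
          rw [LinearMap.rTensor_tmul, Algebra.TensorProduct.map_tmul, Algebra.TensorProduct.map_tmul,
            show constHom (k := k) A r x = C x from rfl, hπC]
          rfl
      · rw [AlgHom.comp_apply, AlgHom.comp_apply, polyCoact_X, hπX, GLin.coactAlgHom_apply, hv, map_sum]
        simp [hπX]
    refine LinearMap.ext fun x => ?_
    exact (AlgHom.congr_fun h x).trans rfl
  obtain ⟨t, ht1, ht2⟩ := poly_invariants (A := A) hG m hmul hone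
  obtain ⟨α, hα, h1⟩ := ComodLib.exists_invariant_of_isLinearlyReductive hG
  have hfix : ∀ f : MvPolynomial (Fin r) A, polyCoact (k := k) (A := A) m f = f ⊗ₜ[k] (1 : H) → π f ∈ fixedPts k H C' := fun f hf => by
    show Comod.coact (k := k) (A := H) (π f) = π f ⊗ₜ[k] (1 : H)
    refine (LinearMap.congr_fun hπc f).trans ?_
    show π.toLinearMap.rTensor H (polyCoact (k := k) (A := A) m f) = _
    rw [hf]; rfl
  refine ⟨t.image π, fun f hf => ?_, le_antisymm (fun f hf => ?_) (Algebra.adjoin_le ?_)⟩
  · obtain ⟨p, hp, rfl⟩ := Finset.mem_image.1 hf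
    exact hfix p (ht1 p hp)
  · obtain ⟨p, hp, rfl⟩ := ComodLib.exists_fixed_lift hα h1 hπc hπ (w := f) hf
    have := (Subalgebra.mem_map (f := π) (y := π.toLinearMap p)).2 ⟨p, ht2 p hp, rfl⟩
    rw [AlgHom.map_adjoin] at this
    refine Algebra.adjoin_mono ?_ this
    rintro _ ⟨q, hq, rfl⟩
    rcases hq with ⟨a, ha, rfl⟩ | hq
    · exact Or.inl ⟨a, ha, (hπC a).symm⟩
    · exact Or.inr (Finset.mem_coe.2 (Finset.mem_image_of_mem _ hq))
  · rintro _ (⟨a, ha, rfl⟩ | hs)
    · show Comod.coact (k := k) (A := H) (algebraMap A C' a) = algebraMap A C' a ⊗ₜ[k] (1 : H)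
      refine (LinearMap.congr_fun hAC a).trans ?_
      show (IsScalarTower.toAlgHom k A C').toLinearMap.rTensor H (Comod.coact (k := k) (A := H) a) = _
      rw [show Comod.coact (k := k) (A := H) a = a ⊗ₜ[k] (1 : H) from ha]; rfl
    · obtain ⟨p, hp, rfl⟩ := Finset.mem_image.1 (Finset.mem_coe.1 hs)
      exact hfix p (ht1 p hp)

end GLinFinLib
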