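import Mathlib
import Groth.Agent.GLinFinLib.Algebra
import Groth.Agent.ComodLib.Reynolds
import Groth.Prelude.Def_GLin

/-! # Points, orbits and invariants for linearly reductive groups acting on affine schemes -/

set_option autoImplicit false

noncomputable section

open TensorProduct HopfRep

namespace GLinFinLib

universe u

variable {k : Type u} [Field k] {A : Type u} [CommRing A] [HopfAlgebra k A]
  {R : Type u} [CommRing R] [Algebra k R] [Comod k A R] [GLin.IsCoactAlg k A R]

theorem orbitHom_apply (x : R →ₐ[k] k) (f : R) :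
    GLin.orbitHom k A x f =
      TensorProduct.lid k A (x.toLinearMap.rTensor A (Comod.coact (k := k) (A := A) f)) := by
  simp only [GLin.orbitHom, AlgHom.comp_apply, GLin.coactAlgHom_apply]
  generalize Comod.coact (k := k) (A := A) f = z
  induction z with
  | zero => simp
  | tmul r a => simp
  | add z z' hz hz' => simp only [map_add, hz, hz']

theorem isComodHom_orbitHom (x : R →ₐ[k] k) : Hoch.IsComodHom A (GLin.orbitHom k A x).toLinearMap := by
  refine LinearMap.ext fun f => ?_
  show CoalgebraStruct.comul (R := k) (GLin.orbitHom k A x f) =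
    (GLin.orbitHom k A x).toLinearMap.rTensor A (Comod.coact (k := k) (A := A) f)
  have e1 : ∀ z : R ⊗[k] A, (GLin.orbitHom k A x).toLinearMap.rTensor A z =
      TensorProduct.lid k (A ⊗[k] A) (x.toLinearMap.rTensor (A ⊗[k] A)
        (TensorProduct.assoc k R A A ((Comod.coact (k := k) (A := A)).rTensor A z))) := fun z => by
    induction z with
    | zero => simp
    | add z z' hz hz' => simp only [map_add, hz, hz']
    | tmul r a =>
      simp only [LinearMap.rTensor_tmul, AlgHom.toLinearMap_apply, orbitHom_apply]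
      generalize Comod.coact (k := k) (A := A) r = w
      induction w with
      | zero => simp [TensorProduct.zero_tmul]
      | add w w' hw hw' => simp only [map_add, TensorProduct.add_tmul, hw, hw']
      | tmul p q => simp [TensorProduct.smul_tmul']
  rw [e1, ComodLib.coassoc_apply (k := k) (A := A) (V := R) f, orbitHom_apply]
  generalize Comod.coact (k := k) (A := A) f = z
  induction z with
  | zero => simp
  | add z z' hz hz' => simp only [map_add, hz, hz']
  | tmul p q => simp

theorem isSubcomod_ker_orbitHom (x : R →ₐ[k] k) :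
    IsSubcomod (k := k) (A := A) ((RingHom.ker (GLin.orbitHom k A x)).restrictScalars k) := by
  have h : (RingHom.ker (GLin.orbitHom k A x)).restrictScalars k =
      LinearMap.ker (GLin.orbitHom k A x).toLinearMap := rfl
  rw [h]
  exact ComodLib.isSubcomod_ker_of_hom (isComodHom_orbitHom x)

theorem orbitHom_invariant (x : R →ₐ[k] k) {f : R} (hf : f ∈ GLin.invariants k A R) :
    GLin.orbitHom k A x f = algebraMap k A (x f) := by
  rw [orbitHom_apply, show Comod.coact (k := k) (A := A) f = f ⊗ₜ[k] (1 : A) from hf,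
    LinearMap.rTensor_tmul, TensorProduct.lid_tmul, Algebra.algebraMap_eq_smul_one]
  rfl

theorem counit_orbitHom (x : R →ₐ[k] k) (f : R) :
    CoalgebraStruct.counit (R := k) (GLin.orbitHom k A x f) = x f := by
  rw [orbitHom_apply]
  conv_rhs => rw [← ComodLib.slice_counit (k := k) (A := A) (V := R) f]
  generalize Comod.coact (k := k) (A := A) f = z
  induction z with
  | zero => simp
  | add z z' hz hz' => simp only [map_add, hz, hz']
  | tmul p q => simp [mul_comm]

theorem point_eq_of_inOrbitClosure {x y : R →ₐ[k] k} (h : GLin.InOrbitClosure k A x y)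
    {f : R} (hf : f ∈ GLin.invariants k A R) : y f = x f := by
  have h1 : f - algebraMap k R (x f) ∈ RingHom.ker (GLin.orbitHom k A x) := by
    rw [RingHom.mem_ker, map_sub, AlgHom.commutes, orbitHom_invariant x hf, sub_self]
  have h2 : y (f - algebraMap k R (x f)) = 0 := h h1
  rwa [map_sub, AlgHom.commutes, Algebra.algebraMap_self_apply, sub_eq_zero] at h2

theorem exists_point_of_le (k : Type u) [Field k] [IsAlgClosed k] {S : Type u} [CommRing S] [Algebra k S]
    [Algebra.FiniteType k S] {J : Ideal S} (hJ : J ≠ ⊤) :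
    ∃ z : S →ₐ[k] k, J ≤ RingHom.ker z := by
  obtain ⟨M, hM, hJM⟩ := Ideal.exists_le_maximal J hJ
  haveI := hM
  letI : Field (S ⧸ M) := Ideal.Quotient.field M
  haveI : Module.Finite k (S ⧸ M) := finite_of_finite_type_of_isJacobsonRing k (S ⧸ M)
  let e : k ≃ₐ[k] S ⧸ M := AlgEquiv.ofBijective (Algebra.ofId k (S ⧸ M))
    (IsAlgClosed.algebraMap_bijective_of_isIntegral)
  refine ⟨e.symm.toAlgHom.comp (Ideal.Quotient.mkₐ k M), fun s hs => ?_⟩
  show e.symm (Ideal.Quotient.mk M s) = 0
  rw [Ideal.Quotient.eq_zero_iff_mem.2 (hJM hs), map_zero]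

theorem reynolds_mul_invariant (α : A →ₗ[k] k) (r : R) {f : R} (hf : f ∈ GLin.invariants k A R) :
    ComodLib.reynolds R α (r * f) = ComodLib.reynolds R α r * f := by
  refine (ComodLib.reynolds_natural α (φ := LinearMap.mulRight k f) (LinearMap.ext fun g => ?_) r).symm
  show Comod.coact (k := k) (A := A) (g * f) = (LinearMap.mulRight k f).rTensor A (Comod.coact (k := k) (A := A) g)
  rw [GLin.IsCoactAlg.coact_mul (k := k) (A := A), show Comod.coact (k := k) (A := A) f = f ⊗ₜ[k] (1 : A) from hf]
  generalize Comod.coact (k := k) (A := A) g = z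
  induction z with
  | zero => simp
  | add z z' hz hz' => rw [add_mul, map_add, hz, hz']
  | tmul p q => simp [Algebra.TensorProduct.tmul_mul_tmul]

variable [IsAlgClosed k] [Algebra.FiniteType k R] (hG : IsLinearlyReductive k A)

include hG in
theorem exists_common_closure (x₁ x₂ : R →ₐ[k] k)
    (h : ∀ f ∈ GLin.invariants k A R, x₁ f = x₂ f) :
    ∃ z : R →ₐ[k] k, GLin.InOrbitClosure k A x₁ z ∧ GLin.InOrbitClosure k A x₂ z := by
  obtain ⟨α, hα, h1⟩ := ComodLib.exists_invariant_of_isLinearlyReductive hG
  let J₁ := RingHom.ker (GLin.orbitHom k A x₁)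
  let J₂ := RingHom.ker (GLin.orbitHom k A x₂)
  have hne : J₁ ⊔ J₂ ≠ ⊤ := fun htop => by
    obtain ⟨a, ha, b, hb, hab⟩ := Submodule.mem_sup.1 ((Ideal.eq_top_iff_one _).1 htop)
    have hea : ComodLib.reynolds R α a ∈ J₁ := reynolds_mem_of_isSubcomod α (isSubcomod_ker_orbitHom x₁) ha
    have heb : ComodLib.reynolds R α b ∈ J₂ := reynolds_mem_of_isSubcomod α (isSubcomod_ker_orbitHom x₂) hb
    have hsum : ComodLib.reynolds R α a + ComodLib.reynolds R α b = 1 := by
      rw [← map_add, hab, ComodLib.reynolds_fixed h1]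
      exact (GLin.invariants k A R).one_mem
    have hza : x₁ (ComodLib.reynolds R α a) = 0 := by
      have h0 := congrArg (CoalgebraStruct.counit (R := k)) (RingHom.mem_ker.1 hea)
      rwa [counit_orbitHom, map_zero] at h0
    have hzb : x₂ (ComodLib.reynolds R α b) = 0 := by
      have h0 := congrArg (CoalgebraStruct.counit (R := k)) (RingHom.mem_ker.1 heb)
      rwa [counit_orbitHom, map_zero] at h0
    have h2 := congrArg x₂ hsum
    rw [map_add, map_one, hzb, add_zero, ← h _ (ComodLib.reynolds_mem hα a), hza] at h2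
    exact zero_ne_one h2
  obtain ⟨z, hz⟩ := exists_point_of_le k hne
  exact ⟨z, le_trans le_sup_left hz, le_trans le_sup_right hz⟩

include hG in
theorem exists_point_over (y : GLin.invariants k A R →ₐ[k] k) :
    ∃ x : R →ₐ[k] k, x.comp (GLin.invariants k A R).val = y := by
  obtain ⟨α, hα, h1⟩ := ComodLib.exists_invariant_of_isLinearlyReductive hG
  let J : Ideal R := Ideal.span ((GLin.invariants k A R).val '' (↑(RingHom.ker y) : Set (GLin.invariants k A R)))
  have key : ∀ p ∈ J, ∀ r : R, ∃ q : GLin.invariants k A R, y q = 0 ∧ (q : R) = ComodLib.reynolds R α (r * p) := by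
    intro p hp
    induction hp using Submodule.span_induction with
    | mem p hp =>
      obtain ⟨q, hq, rfl⟩ := hp
      intro r
      refine ⟨⟨ComodLib.reynolds R α r, ComodLib.reynolds_mem hα r⟩ * q, ?_, ?_⟩
      · rw [map_mul, show y q = 0 from hq, mul_zero]
      · exact (reynolds_mul_invariant α r q.2).symm
    | zero => intro r; exact ⟨0, map_zero y, by simp⟩
    | add p p' _ _ hp hp' =>
      intro r
      obtain ⟨q, hq, hq'⟩ := hp r
      obtain ⟨q₂, hq₂, hq₂'⟩ := hp' r
      exact ⟨q + q₂, by rw [map_add, hq, hq₂, add_zero], by rw [mul_add, map_add, ← hq', ← hq₂']; rfl⟩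
    | smul c p _ hp =>
      intro r
      obtain ⟨q, hq, hq'⟩ := hp (r * c)
      exact ⟨q, hq, by rw [hq', smul_eq_mul, mul_assoc]⟩
  have hne : J ≠ ⊤ := fun htop => by
    obtain ⟨q, hq, hq'⟩ := key 1 ((Ideal.eq_top_iff_one _).1 htop) 1
    rw [mul_one, ComodLib.reynolds_fixed h1 (GLin.invariants k A R).one_mem] at hq'
    have : q = 1 := Subtype.ext hq'
    rw [this, map_one] at hq
    exact one_ne_zero hq
  obtain ⟨x, hx⟩ := exists_point_of_le k hne
  refine ⟨x, AlgHom.ext fun f => ?_⟩
  have h2 : x ((f - algebraMap k _ (y f) : GLin.invariants k A R) : R) = 0 :=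
    hx (Ideal.subset_span ⟨f - algebraMap k _ (y f), by
      show y (f - algebraMap k _ (y f)) = 0
      simp, rfl⟩)
  simpa [sub_eq_zero] using h2

omit [IsAlgClosed k] [Algebra.FiniteType k R] in
/-- Moving a point by a group element. -/
theorem orbitHom_actPt (g : A →ₐ[k] k) (x : R →ₐ[k] k) :
    GLin.orbitHom k A (GLin.actPt k g x) =
      ((Algebra.TensorProduct.lid k A).toAlgHom.comp
        ((Algebra.TensorProduct.map g (AlgHom.id k A)).comp (Bialgebra.comulAlgHom k A))).comp
        (GLin.orbitHom k A x) := by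
  refine AlgHom.ext fun f => ?_
  rw [AlgHom.comp_apply, AlgHom.comp_apply, AlgHom.comp_apply, Bialgebra.comulAlgHom_apply,
    show CoalgebraStruct.comul (R := k) (GLin.orbitHom k A x f) = _ from
      LinearMap.congr_fun (isComodHom_orbitHom x) f,
    orbitHom_apply]
  simp only [LinearMap.comp_apply]
  generalize Comod.coact (k := k) (A := A) f = z
  induction z with
  | zero => simp
  | add z z' hz hz' => simp only [map_add, hz, hz']
  | tmul p q => simp [GLin.actPt]

omit [IsAlgClosed k] [Algebra.FiniteType k R] in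
theorem actPt_inv (g : A →ₐ[k] k) (x : R →ₐ[k] k) :
    GLin.actPt k (g.comp (HopfAlgebra.antipodeAlgHom k A)) (GLin.actPt k g x) = x := by
  refine AlgHom.ext fun f => ?_
  show g (HopfAlgebra.antipodeAlgHom k A (GLin.orbitHom k A (GLin.actPt k g x) f)) = x f
  rw [orbitHom_actPt, ← counit_orbitHom (A := A) x f]
  simp only [AlgHom.comp_apply, Bialgebra.comulAlgHom_apply]
  generalize GLin.orbitHom k A x f = a
  have h := congrArg g (HopfAlgebra.mul_antipode_lTensor_comul_apply (R := k) a)
  rw [AlgHom.commutes, Algebra.algebraMap_self_apply] at h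
  rw [← h]
  generalize CoalgebraStruct.comul (R := k) a = t
  induction t with
  | zero => simp
  | add t t' ht ht' => simp only [map_add, ht, ht']
  | tmul p q => simp

variable [Algebra.FiniteType k A]

omit [Algebra.FiniteType k R] in
theorem exists_actPt_of_closure {x z : R →ₐ[k] k} (hx : GLin.IsClosedOrbit k A x)
    (hz : GLin.InOrbitClosure k A x z) : ∃ g : A →ₐ[k] k, GLin.actPt k g x = z := by
  let P : PrimeSpectrum R := ⟨RingHom.ker z.toRingHom, RingHom.ker_isPrime _⟩
  have hmem : P ∈ closure (Set.range (PrimeSpectrum.comap (GLin.orbitHom k A x).toRingHom)) := by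
    rw [PrimeSpectrum.closure_range_comap]
    exact hz
  rw [hx.closure_eq] at hmem
  obtain ⟨Q, hQ⟩ := hmem
  obtain ⟨g, hg⟩ := exists_point_of_le k (Q.2.ne_top)
  refine ⟨g, AlgHom.ext fun f => ?_⟩
  have h1 : GLin.orbitHom k A x (f - algebraMap k R (z f)) ∈ Q.asIdeal := by
    have : f - algebraMap k R (z f) ∈ P.asIdeal := by
      show z (f - algebraMap k R (z f)) = 0
      simp
    rwa [← hQ] at this
  have h2 := hg h1
  rw [RingHom.mem_ker, map_sub, map_sub, AlgHom.commutes, AlgHom.commutes, sub_eq_zero] at h2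
  exact h2

include hG in
theorem exists_actPt_of_eq_on_invariants (hcl : ∀ x : R →ₐ[k] k, GLin.IsClosedOrbit k A x)
    (x x' : R →ₐ[k] k) (h : ∀ f ∈ GLin.invariants k A R, x' f = x f) :
    ∃ g : A →ₐ[k] k, x' = GLin.actPt k g x := by
  obtain ⟨z, hz', hz⟩ := exists_common_closure hG x' x h
  obtain ⟨g', hg'⟩ := exists_actPt_of_closure (hcl x') hz'
  obtain ⟨g, hg⟩ := exists_actPt_of_closure (hcl x) hz
  refine ⟨(g'.comp (HopfAlgebra.antipodeAlgHom k A)).comp ((Algebra.TensorProduct.lid k A).toAlgHom.comp
        ((Algebra.TensorProduct.map g (AlgHom.id k A)).comp (Bialgebra.comulAlgHom k A))), ?_⟩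
  conv_lhs => rw [← actPt_inv (A := A) g' x', hg', ← hg]
  show (g'.comp (HopfAlgebra.antipodeAlgHom k A)).comp (GLin.orbitHom k A (GLin.actPt k g x)) = _
  rw [orbitHom_actPt]
  rfl

end GLinFinLib
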