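import Mathlib
import Groth.Agent.GLinFinLib.Points

/-! # Linear coactions on polynomial rings -/

set_option autoImplicit false

noncomputable section

open TensorProduct HopfRep MvPolynomial

namespace GLinFinLib

universe u

variable {k : Type u} [Field k] {A : Type u} [CommRing A] [HopfAlgebra k A] {ι : Type u} [Fintype ι]
  [Comod k A (MvPolynomial ι k)] [GLin.IsCoactAlg k A (MvPolynomial ι k)]

local notation "P" => MvPolynomial ι k

/-- Scaling all variables by `T`. -/
def degAlg : P →ₐ[k] Polynomial P :=
  MvPolynomial.aeval fun i => Polynomial.C (X i : P) * Polynomial.X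

theorem coeff_degAlg (e : ℕ) (f : P) : (degAlg f).coeff e = homogeneousComponent e f := by
  induction f using MvPolynomial.induction_on' with
  | monomial d a =>
    have h : degAlg (monomial d a : P) = Polynomial.C (monomial d a : P) * Polynomial.X ^ d.degree := by
      rw [degAlg, aeval_monomial, monomial_eq, map_mul, map_finsuppProd]
      simp only [mul_pow, Finsupp.prod_mul, map_pow]
      rw [← mul_assoc, Finsupp.prod, Finsupp.prod, Finset.prod_pow_eq_pow_sum]
      rfl
    rw [h, Polynomial.coeff_C_mul_X_pow]
    by_cases he : e = d.degree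
    · subst he
      rw [if_pos rfl, homogeneousComponent_of_mem (n := d.degree) ((mem_homogeneousSubmodule _ _).2
        (isHomogeneous_monomial a rfl)), if_pos rfl]
    · rw [if_neg he, homogeneousComponent_of_mem (n := d.degree) ((mem_homogeneousSubmodule _ _).2
        (isHomogeneous_monomial a rfl)), if_neg he]
  | add p q hp hq => rw [map_add, Polynomial.coeff_add, hp, hq, map_add]

theorem homogeneousComponent_mem_invariants (hlin : GLin.IsLinear k A ι) (e : ℕ) {f : P}
    (hf : f ∈ GLin.invariants k A P) : homogeneousComponent e f ∈ GLin.invariants k A P := by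
  let ρ := GLin.coactAlgHom k A P
  let ΦH : P ⊗[k] A →ₐ[k] Polynomial (P ⊗[k] A) := Algebra.TensorProduct.lift
    ((Polynomial.mapAlgHom (Algebra.TensorProduct.includeLeft : P →ₐ[k] P ⊗[k] A)).comp degAlg)
    ((Polynomial.CAlgHom : P ⊗[k] A →ₐ[k] Polynomial (P ⊗[k] A)).comp Algebra.TensorProduct.includeRight)
    (fun x y => by
      show _ * _ = _ * _
      exact mul_comm (G := Polynomial (MvPolynomial ι k ⊗[k] A)) _ _)
  have hΦ : ∀ (x : P) (h : A), ΦH (x ⊗ₜ h) =
      Polynomial.map (Algebra.TensorProduct.includeLeft : P →ₐ[k] P ⊗[k] A).toRingHom (degAlg x) *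
        Polynomial.C ((1 : P) ⊗ₜ[k] h) := fun x h => Algebra.TensorProduct.lift_tmul _ _ _ _ _
  have hz : ∀ z, (ΦH z).coeff e = (homogeneousComponent (R := k) (σ := ι) e).rTensor A z := fun z => by
    induction z with
    | zero => simp
    | add z z' hz hz' => rw [map_add, Polynomial.coeff_add, hz, hz', map_add]
    | tmul x h =>
      rw [hΦ, Polynomial.coeff_mul_C, Polynomial.coeff_map, coeff_degAlg, LinearMap.rTensor_tmul]
      simp
  have heq : (Polynomial.mapAlgHom ρ).comp degAlg = ΦH.comp ρ := by
    refine MvPolynomial.algHom_ext fun i => ?_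
    obtain ⟨m, hm⟩ := hlin i
    rw [AlgHom.comp_apply, AlgHom.comp_apply, show ρ (X i) = _ from hm, map_sum,
      show degAlg (X i : P) = Polynomial.C (X i : P) * Polynomial.X from aeval_X _ _]
    show Polynomial.map ρ.toRingHom (Polynomial.C (X i : P) * Polynomial.X) = _
    rw [Polynomial.map_mul, Polynomial.map_C, Polynomial.map_X, show ρ.toRingHom (X i) = _ from hm, map_sum,
      Finset.sum_mul]
    refine Finset.sum_congr rfl fun j _ => ?_
    rw [hΦ, show degAlg (X j : P) = Polynomial.C (X j : P) * Polynomial.X from aeval_X _ _,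
      Polynomial.map_mul, Polynomial.map_C, Polynomial.map_X]
    conv_rhs => rw [mul_assoc, Polynomial.X_mul_C, ← mul_assoc, ← map_mul]
    simp
  have h := congrArg (fun p => Polynomial.coeff p e) (AlgHom.congr_fun heq f)
  simp only [AlgHom.comp_apply] at h
  rw [hz, show ρ f = f ⊗ₜ[k] (1 : A) from hf, LinearMap.rTensor_tmul] at h
  have h2 : (Polynomial.mapAlgHom ρ (degAlg f)).coeff e = ρ (homogeneousComponent e f) := by
    rw [← coeff_degAlg]
    exact Polynomial.coeff_map _ _
  exact h2.symm.trans h

theorem orbitHom_origin (hlin : GLin.IsLinear k A ι) :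
    GLin.orbitHom k A (GLin.vecPt k ι fun _ => (0 : k)) =
      (Algebra.ofId k A).comp (GLin.vecPt k ι fun _ => (0 : k)) := by
  refine MvPolynomial.algHom_ext fun i => ?_
  obtain ⟨m, hm⟩ := hlin i
  rw [orbitHom_apply, hm, AlgHom.comp_apply]
  simp [map_sum]

end GLinFinLib
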