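import Mathlib
import Groth.Agent.GLinFinLib.Points
import Groth.Prelude.Def_W4bk6mukai47Inv

/-! # Orbit closures in terms of group points -/

set_option autoImplicit false

noncomputable section

open TensorProduct HopfRep

namespace GLinFinLib

universe u

variable {k : Type u} [Field k] {A : Type u} [CommRing A] [HopfAlgebra k A]
  {R : Type u} [CommRing R] [Algebra k R] [Comod k A R] [GLin.IsCoactAlg k A R]

theorem apply_act (x : R →ₐ[k] k) (g : A →ₐ[k] k) (f : R) :
    x (Comod.act k A R g f) = GLin.actPt k g x f := by
  show x (TensorProduct.rid k R (g.toLinearMap.lTensor R (Comod.coact (k := k) (A := A) f))) =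
    g (GLin.orbitHom k A x f)
  rw [orbitHom_apply]
  generalize Comod.coact (k := k) (A := A) f = z
  induction z with
  | zero => simp
  | add z z' hz hz' => simp only [map_add, hz, hz']
  | tmul p q => simp [mul_comm]

variable [IsAlgClosed k] [Algebra.FiniteType k A]

omit [GLin.IsCoactAlg k A R] in
/-- A function killed by all points is nilpotent. -/
theorem isNilpotent_of_forall_point {a : A} (h : ∀ g : A →ₐ[k] k, g a = 0) : IsNilpotent a := by
  haveI : IsJacobsonRing A := isJacobsonRing_of_finiteType (A := k)
  have hmem : a ∈ Ideal.jacobson (⊥ : Ideal A) := Ideal.mem_sInf.2 fun M hM => by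
    obtain ⟨g, hg⟩ := exists_point_of_le k hM.2.ne_top
    have : M = RingHom.ker g := hM.2.eq_of_le (RingHom.ker_ne_top _) hg
    rw [this]
    exact h g
  rw [← Ideal.radical_eq_jacobson] at hmem
  exact mem_nilradical.1 hmem

theorem inOrbitClosure_iff (x z : R →ₐ[k] k) :
    GLin.InOrbitClosure k A x z ↔
      ∀ f : R, (∀ g : A →ₐ[k] k, x (Comod.act k A R g f) = 0) → z f = 0 := by
  constructor
  · intro h f hf
    obtain ⟨n, hn⟩ := isNilpotent_of_forall_point (a := GLin.orbitHom k A x f)
      (fun g => (apply_act x g f).symm.trans (hf g))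
    have h0 : z (f ^ n) = 0 := h (by rw [RingHom.mem_ker, map_pow, hn])
    exact pow_eq_zero_iff'.1 (by rwa [map_pow] at h0) |>.1
  · intro h f hf
    refine h f fun g => ?_
    rw [apply_act]
    show g (GLin.orbitHom k A x f) = 0
    rw [RingHom.mem_ker.1 hf, map_zero]

end GLinFinLib
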