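import Mathlib
import Groth.Agent.GLinFinLib.InvQ
import Groth.Agent.WeilLib.Dim

/-! # Closed orbits and finite stabilisers -/

set_option autoImplicit false

noncomputable section

open TensorProduct HopfRep

namespace GLinFinLib

universe u

variable {k : Type u} [Field k] {A : Type u} [CommRing A] [HopfAlgebra k A]
  {R : Type u} [CommRing R] [Algebra k R] [Comod k A R] [GLin.IsCoactAlg k A R]

instance regularIsCoactAlg : GLin.IsCoactAlg k A A :=
  ⟨Bialgebra.comul_one, Bialgebra.comul_mul⟩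

theorem inOrbitClosure_refl (x : R →ₐ[k] k) : GLin.InOrbitClosure k A x x := fun f hf => by
  rw [RingHom.mem_ker, ← counit_orbitHom (A := A) x f, RingHom.mem_ker.1 hf, map_zero]

theorem inOrbitClosure_actPt (g : A →ₐ[k] k) (x : R →ₐ[k] k) :
    GLin.InOrbitClosure k A x (GLin.actPt k g x) := fun f hf => by
  show g (GLin.orbitHom k A x f) = 0
  rw [RingHom.mem_ker.1 hf, map_zero]

theorem ker_orbitHom_mono {y z : R →ₐ[k] k} (h : GLin.InOrbitClosure k A y z) :
    RingHom.ker (GLin.orbitHom k A y) ≤ RingHom.ker (GLin.orbitHom k A z) := by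
  intro f hf
  rw [RingHom.mem_ker, orbitHom_apply]
  obtain ⟨t, ht⟩ := isSubcomod_ker_orbitHom y f hf
  rw [← ht]
  clear ht
  induction t with
  | zero => simp
  | add a b ha hb => rw [map_add, map_add, map_add, ha, hb, add_zero]
  | tmul q a =>
    have hq : z (q : R) = 0 := h q.2
    simp [hq]

/-- Right translation by a point of the group, as an algebra endomorphism. -/
def translate (g : A →ₐ[k] k) : A →ₐ[k] A :=
  (Algebra.TensorProduct.lid k A).toAlgHom.comp
    ((Algebra.TensorProduct.map g (AlgHom.id k A)).comp (Bialgebra.comulAlgHom k A))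

theorem actPt_actPt (g h : A →ₐ[k] k) (x : R →ₐ[k] k) :
    GLin.actPt k h (GLin.actPt k g x) = GLin.actPt k (h.comp (translate g)) x := by
  show h.comp (GLin.orbitHom k A (GLin.actPt k g x)) = _
  rw [orbitHom_actPt]
  rfl

theorem exists_actPt_symm {g : A →ₐ[k] k} {x z : R →ₐ[k] k} (h : GLin.actPt k g x = z) :
    ∃ g' : A →ₐ[k] k, GLin.actPt k g' z = x :=
  ⟨_, h ▸ actPt_inv g x⟩

theorem ker_orbitHom_actPt (g : A →ₐ[k] k) (x : R →ₐ[k] k) :
    RingHom.ker (GLin.orbitHom k A (GLin.actPt k g x)) = RingHom.ker (GLin.orbitHom k A x) := by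
  refine le_antisymm ?_ (ker_orbitHom_mono (inOrbitClosure_actPt g x))
  obtain ⟨g', hg'⟩ := exists_actPt_symm (rfl : GLin.actPt k g x = GLin.actPt k g x)
  refine ker_orbitHom_mono ?_
  have := inOrbitClosure_actPt g' (GLin.actPt k g x)
  rwa [hg'] at this

variable [IsAlgClosed k] [Algebra.FiniteType k A] [Algebra.FiniteType k R]

theorem exists_nhd_in_range {S : Type u} [CommRing S] [Algebra k S] [Algebra.FiniteType k S]
    (f : R →ₐ[k] S) (Q : PrimeSpectrum R) (hQ : Q ∈ Set.range (PrimeSpectrum.comap f.toRingHom)) :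
    ∃ a : R, a ∉ Q.asIdeal ∧ ∀ P : PrimeSpectrum R, Q.asIdeal ≤ P.asIdeal → a ∉ P.asIdeal →
      P ∈ Set.range (PrimeSpectrum.comap f.toRingHom) := by
  haveI : IsNoetherianRing R := Algebra.FiniteType.isNoetherianRing k R
  have hft : f.toRingHom.FiniteType := by
    letI := f.toRingHom.toAlgebra
    haveI : IsScalarTower k R S := IsScalarTower.of_algebraMap_eq fun c => (f.commutes c).symm
    exact Algebra.FiniteType.of_restrictScalars_finiteType k R S
  obtain ⟨D, hD⟩ := PrimeSpectrum.exists_constructibleSetData_iff.2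
    (PrimeSpectrum.isConstructible_range_comap (RingHom.FinitePresentation.of_finiteType.1 hft))
  rw [← hD] at hQ ⊢
  simp only [PrimeSpectrum.ConstructibleSetData.toSet, Set.mem_iUnion] at hQ ⊢
  obtain ⟨C, hC, hQC⟩ := hQ
  refine ⟨C.f, ?_, fun P hP ha => ⟨C, hC, ?_⟩⟩
  · intro hf
    exact hQC.2 (Set.singleton_subset_iff.2 hf)
  · exact ⟨fun a ha' => hP (hQC.1 ha'), fun h => ha (Set.singleton_subset_iff.1 h)⟩

theorem exists_point_over_maximal {S : Type u} [CommRing S] [Algebra k S] [Algebra.FiniteType k S]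
    (f : R →ₐ[k] S) (M : PrimeSpectrum R) (hM : M.asIdeal.IsMaximal) (w : R →ₐ[k] k)
    (hw : M.asIdeal ≤ RingHom.ker w) (hr : M ∈ Set.range (PrimeSpectrum.comap f.toRingHom)) :
    ∃ g : S →ₐ[k] k, g.comp f = w := by
  obtain ⟨p, hp⟩ := hr
  obtain ⟨g, hg⟩ := exists_point_of_le k p.2.ne_top
  refine ⟨g, AlgHom.ext fun a => ?_⟩
  have heq : RingHom.ker w = M.asIdeal := (hM.eq_of_le (RingHom.ker_ne_top _) hw).symm
  have hmem : a - algebraMap k R (w a) ∈ M.asIdeal := by
    rw [← heq, RingHom.mem_ker, map_sub, AlgHom.commutes]; simp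
  rw [← hp] at hmem
  have h2 := hg hmem
  rw [RingHom.mem_ker] at h2
  simpa [sub_eq_zero] using h2

theorem exists_actPt_of_ker_eq {y z : R →ₐ[k] k}
    (h : RingHom.ker (GLin.orbitHom k A y) = RingHom.ker (GLin.orbitHom k A z)) :
    ∃ g : A →ₐ[k] k, GLin.actPt k g y = z := by
  haveI : IsJacobsonRing R := isJacobsonRing_of_finiteType (A := k)
  haveI : (RingHom.ker y).IsPrime := RingHom.ker_isPrime _
  obtain ⟨Q, hQ, -⟩ := Ideal.exists_minimalPrimes_le (show RingHom.ker (GLin.orbitHom k A y) ≤ RingHom.ker y from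
    inOrbitClosure_refl y)
  have hQp : Q.IsPrime := hQ.isPrime
  have hin : ∀ w : R →ₐ[k] k, Q ∈ (RingHom.ker (GLin.orbitHom k A w)).minimalPrimes →
      (⟨Q, hQp⟩ : PrimeSpectrum R) ∈ Set.range (PrimeSpectrum.comap (GLin.orbitHom k A w).toRingHom) := by
    intro w hw
    obtain ⟨p, hp, -, hpQ⟩ := Ideal.exists_comap_eq_of_mem_minimalPrimes (I := (⊥ : Ideal A))
      (GLin.orbitHom k A w).toRingHom Q hw
    exact ⟨⟨p, hp⟩, PrimeSpectrum.ext hpQ⟩
  obtain ⟨a, ha, hya⟩ := exists_nhd_in_range (GLin.orbitHom k A y) ⟨Q, hQp⟩ (hin y hQ)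
  obtain ⟨b, hb, hzb⟩ := exists_nhd_in_range (GLin.orbitHom k A z) ⟨Q, hQp⟩ (hin z (h ▸ hQ))
  obtain ⟨M, hM, hab⟩ : ∃ M : Ideal R, (Q ≤ M ∧ M.IsMaximal) ∧ a * b ∉ M := by
    by_contra hcon
    push Not at hcon
    have : a * b ∈ Q := by
      have hj : a * b ∈ Q.jacobson := Ideal.mem_sInf.2 fun M hM => hcon M hM
      rwa [← Ideal.radical_eq_jacobson, hQp.radical] at hj
    rcases hQp.mem_or_mem this with h' | h'
    exacts [ha h', hb h']
  obtain ⟨w, hw⟩ := exists_point_of_le k hM.2.ne_top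
  obtain ⟨g, hg⟩ := exists_point_over_maximal (GLin.orbitHom k A y) ⟨M, hM.2.isPrime⟩ hM.2 w hw
    (hya _ hM.1 fun h' => hab (M.mul_mem_right _ h'))
  obtain ⟨g', hg'⟩ := exists_point_over_maximal (GLin.orbitHom k A z) ⟨M, hM.2.isPrime⟩ hM.2 w hw
    (hzb _ hM.1 fun h' => hab (M.mul_mem_left _ h'))
  obtain ⟨g₂, hg₂⟩ := exists_actPt_symm (show GLin.actPt k g' z = w from hg')
  refine ⟨g₂.comp (translate g), ?_⟩
  rw [← actPt_actPt, show GLin.actPt k g y = w from hg, hg₂]

/-- The orbit is closed, in terms of points. -/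
def IsPointClosed (k : Type u) [Field k] (A : Type u) [CommRing A] [HopfAlgebra k A]
    {R : Type u} [CommRing R] [Algebra k R] [Comod k A R] [GLin.IsCoactAlg k A R] (x : R →ₐ[k] k) : Prop :=
  ∀ z : R →ₐ[k] k, GLin.InOrbitClosure k A x z → ∃ g : A →ₐ[k] k, GLin.actPt k g x = z

theorem eq_on_invariants_actPt (g : A →ₐ[k] k) (x : R →ₐ[k] k) {f : R} (hf : f ∈ GLin.invariants k A R) :
    GLin.actPt k g x f = x f :=
  point_eq_of_inOrbitClosure (inOrbitClosure_actPt g x) hf

theorem exists_closed_in_fibre (hG : IsLinearlyReductive k A) (x : R →ₐ[k] k) :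
    ∃ y : R →ₐ[k] k, (∀ f ∈ GLin.invariants k A R, y f = x f) ∧ IsPointClosed k A y ∧
      (∀ x' : R →ₐ[k] k, (∀ f ∈ GLin.invariants k A R, x' f = x f) → GLin.InOrbitClosure k A x' y) ∧
      ∀ y' : R →ₐ[k] k, (∀ f ∈ GLin.invariants k A R, y' f = x f) → IsPointClosed k A y' →
        ∃ g : A →ₐ[k] k, GLin.actPt k g y = y' := by
  haveI : IsNoetherianRing R := Algebra.FiniteType.isNoetherianRing k R
  let F : Set (Ideal R) := {J | ∃ y : R →ₐ[k] k, (∀ f ∈ GLin.invariants k A R, y f = x f) ∧
    RingHom.ker (GLin.orbitHom k A y) = J}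
  obtain ⟨J, ⟨y, hy, hyJ⟩, hmax⟩ := set_has_maximal_iff_noetherian.2 ‹_› F ⟨_, x, fun _ _ => rfl, rfl⟩
  have hclosed : IsPointClosed k A y := fun z hz => by
    refine exists_actPt_of_ker_eq ?_
    have hzF : RingHom.ker (GLin.orbitHom k A z) ∈ F :=
      ⟨z, fun f hf => (point_eq_of_inOrbitClosure hz hf).trans (hy f hf), rfl⟩
    have hle := ker_orbitHom_mono hz
    rcases hle.lt_or_eq with hlt | heq
    · exact absurd (hyJ ▸ hlt) (hmax _ hzF)
    · exact heq
  refine ⟨y, hy, hclosed, fun x' hx' => ?_, fun y' hy' hy'c => ?_⟩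
  · obtain ⟨w, hw, hw'⟩ := exists_common_closure hG y x' fun f hf => (hy f hf).trans (hx' f hf).symm
    obtain ⟨g, hg⟩ := hclosed w hw
    have hle := ker_orbitHom_mono hw'
    rw [← hg, ker_orbitHom_actPt] at hle
    exact hle.trans (inOrbitClosure_refl y)
  · obtain ⟨w, hw, hw'⟩ := exists_common_closure hG y y' fun f hf => (hy f hf).trans (hy' f hf).symm
    obtain ⟨g, hg⟩ := hclosed w hw
    obtain ⟨g', hg'⟩ := hy'c w hw'
    obtain ⟨g₂, hg₂⟩ := exists_actPt_symm hg'
    exact ⟨g₂.comp (translate g), by rw [← actPt_actPt, hg, hg₂]⟩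

theorem finite_fibre_of_finite_stab {x : R →ₐ[k] k}
    (hfin : {g : A →ₐ[k] k | GLin.actPt k g x = x}.Finite) (w : R →ₐ[k] k) :
    {g : A →ₐ[k] k | GLin.actPt k g x = w}.Finite := by
  rcases Set.eq_empty_or_nonempty {g : A →ₐ[k] k | GLin.actPt k g x = w} with he | ⟨g₀, hg₀⟩
  · rw [he]; exact Set.finite_empty
  obtain ⟨h, hh⟩ := exists_actPt_symm (show GLin.actPt k g₀ x = w from hg₀)
  -- `g ↦ h ∘ translate g` is injective
  refine Set.Finite.of_finite_image (f := fun g => h.comp (translate g)) (hfin.subset ?_) ?_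
  · rintro _ ⟨g, hg, rfl⟩
    show GLin.actPt k (h.comp (translate g)) x = x
    rw [← actPt_actPt, show GLin.actPt k g x = w from hg, hh]
  · intro g _ g' _ he
    have key : ∀ g : A →ₐ[k] k, (h.comp (translate g) : A →ₐ[k] k) = GLin.actPt k h (R := A) g := by
      intro g
      refine AlgHom.ext fun a => ?_
      show h (translate g a) = h (GLin.orbitHom k A g a)
      rw [orbitHom_apply]
      congr 1
    dsimp only at he
    rw [key, key] at he
    rw [← actPt_inv (R := A) h g, ← actPt_inv (R := A) h g', he]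

theorem exists_actPt_of_finite_stab {x y : R →ₐ[k] k} (hcl : IsPointClosed k A x)
    (hfin : {g : A →ₐ[k] k | GLin.actPt k g x = x}.Finite) (hxy : GLin.InOrbitClosure k A y x) :
    ∃ g : A →ₐ[k] k, GLin.actPt k g x = y := by
  haveI : IsNoetherianRing A := Algebra.FiniteType.isNoetherianRing k A
  haveI : IsJacobsonRing A := isJacobsonRing_of_finiteType (A := k)
  haveI : IsJacobsonRing R := isJacobsonRing_of_finiteType (A := k)
  haveI : Nontrivial A := RingHom.domain_nontrivial (Bialgebra.counitAlgHom k A).toRingHom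
  -- quasi-finiteness of the orbit map
  have hqf : ∀ p p' : PrimeSpectrum A, p.asIdeal ≤ p'.asIdeal →
      p.asIdeal.comap (GLin.orbitHom k A x).toRingHom = p'.asIdeal.comap (GLin.orbitHom k A x).toRingHom →
      p = p' := by
    intro p p' hle heq
    letI := (GLin.orbitHom k A x).toRingHom.toAlgebra
    haveI : IsScalarTower k R A := IsScalarTower.of_algebraMap_eq fun c => ((GLin.orbitHom k A x).commutes c).symm
    haveI : Algebra.FiniteType R A := Algebra.FiniteType.of_restrictScalars_finiteType k R A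
    obtain ⟨M, hM, hp'M⟩ := Ideal.exists_le_maximal p'.asIdeal p'.2.ne_top
    let q : PrimeSpectrum A := ⟨M, hM.isPrime⟩
    let m : PrimeSpectrum R := PrimeSpectrum.comap (algebraMap R A) q
    obtain ⟨g, hg⟩ := exists_point_of_le k hM.ne_top
    have hgM : RingHom.ker g = M := (hM.eq_of_le (RingHom.ker_ne_top _) hg).symm
    have hmmax : m.asIdeal.IsMaximal := by
      have hker : m.asIdeal = RingHom.ker (GLin.actPt k g x) := by
        ext a
        show GLin.orbitHom k A x a ∈ M ↔ _
        rw [← hgM]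
        rfl
      rw [hker]
      exact RingHom.ker_isMaximal_of_surjective _ fun c => ⟨algebraMap k R c, by simp⟩
    have hfib : (PrimeSpectrum.comap (algebraMap R A) ⁻¹' {m}).Finite ∧
        ∀ r ∈ PrimeSpectrum.comap (algebraMap R A) ⁻¹' {m}, r.asIdeal.IsMaximal := by
      have hmaxfin : {N : Ideal A | N.IsMaximal ∧ N.comap (algebraMap R A) = m.asIdeal}.Finite := by
        refine ((finite_fibre_of_finite_stab hfin (GLin.actPt k g x)).image fun g' => RingHom.ker g').subset ?_
        rintro N ⟨hN, hNm⟩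
        obtain ⟨g', hg'⟩ := exists_point_of_le k hN.ne_top
        have hgN : RingHom.ker g' = N := (hN.eq_of_le (RingHom.ker_ne_top _) hg').symm
        refine ⟨g', AlgHom.ext fun a => ?_, hgN⟩
        have hmem : a - algebraMap k R (GLin.actPt k g x a) ∈ m.asIdeal := by
          show GLin.orbitHom k A x (a - algebraMap k R (GLin.actPt k g x a)) ∈ M
          rw [← hgM, RingHom.mem_ker, map_sub, map_sub, AlgHom.commutes, AlgHom.commutes]
          simp [GLin.actPt]
        rw [← hNm, Ideal.mem_comap, ← hgN, RingHom.mem_ker] at hmem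
        change g' (GLin.orbitHom k A x (a - algebraMap k R (GLin.actPt k g x a))) = 0 at hmem
        show g' (GLin.orbitHom k A x a) = GLin.actPt k g x a
        simpa [sub_eq_zero] using hmem
      have hall : ∀ r ∈ PrimeSpectrum.comap (algebraMap R A) ⁻¹' {m}, r.asIdeal.IsMaximal := by
        intro r hr
        have hrm : r.asIdeal.comap (algebraMap R A) = m.asIdeal := congrArg PrimeSpectrum.asIdeal hr
        have hfinN : {N : Ideal A | r.asIdeal ≤ N ∧ N.IsMaximal}.Finite := by
          refine hmaxfin.subset ?_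
          rintro N ⟨hrN, hN⟩
          exact ⟨hN, (hmmax.eq_of_le (Ideal.comap_ne_top _ hN.ne_top) (hrm ▸ Ideal.comap_mono hrN)).symm⟩
        have hjac : r.asIdeal.jacobson = r.asIdeal := by rw [← Ideal.radical_eq_jacobson, r.2.radical]
        have hinf : hfinN.toFinset.inf id ≤ r.asIdeal := by
          conv_rhs => rw [← hjac]
          exact le_sInf fun N hN => Finset.inf_le (hfinN.mem_toFinset.2 hN)
        obtain ⟨N, hN, hNr⟩ := (Ideal.IsPrime.inf_le' r.2).1 hinf
        obtain ⟨hrN, hNmax⟩ := hfinN.mem_toFinset.1 hN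
        exact (le_antisymm hrN hNr).symm ▸ hNmax
      refine ⟨(hmaxfin.preimage (f := PrimeSpectrum.asIdeal) (fun _ _ _ _ h => PrimeSpectrum.ext h)).subset ?_, hall⟩
      intro r hr
      exact ⟨hall r hr, congrArg PrimeSpectrum.asIdeal hr⟩
    haveI : Algebra.QuasiFiniteAt R q.asIdeal := by
      refine Algebra.QuasiFiniteAt.of_isOpen_singleton_fiber q ?_
      haveI : Finite ↥(PrimeSpectrum.comap (algebraMap R A) ⁻¹' {m}) := hfib.1.to_subtype
      haveI : T1Space ↥(PrimeSpectrum.comap (algebraMap R A) ⁻¹' {m}) := ⟨fun r => by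
        have hc : IsClosed ({(r : PrimeSpectrum A)} : Set (PrimeSpectrum A)) :=
          (PrimeSpectrum.isClosed_singleton_iff_isMaximal _).2 (hfib.2 _ r.2)
        have := hc.preimage continuous_subtype_val
          (f := fun s : ↥(PrimeSpectrum.comap (algebraMap R A) ⁻¹' {m}) => (s : PrimeSpectrum A))
        convert this using 1
        ext s
        simp [Subtype.ext_iff]⟩
      exact isOpen_discrete _
    haveI : Algebra.QuasiFiniteAt R p'.asIdeal := Algebra.QuasiFiniteAt.of_le hp'M
    exact PrimeSpectrum.ext (Algebra.QuasiFiniteAt.eq_of_le_of_under_eq (R := R) hle heq)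
  -- a component of maximal dimension
  obtain ⟨p', hp', hpmax⟩ := (minimalPrimes.finite_of_isNoetherianRing A).exists_maximalFor
    (fun p => ringKrullDim (A ⧸ p)) (minimalPrimes A) (by
      obtain ⟨M₀, hM₀⟩ := Ideal.exists_maximal A
      haveI := hM₀.isPrime
      obtain ⟨p, hp, -⟩ := Ideal.exists_minimalPrimes_le (bot_le : (⊥ : Ideal A) ≤ M₀)
      exact ⟨p, hp⟩)
  haveI hp'p : p'.IsPrime := hp'.isPrime
  set P := p'.comap (GLin.orbitHom k A x).toRingHom with hP
  have hPx : RingHom.ker (GLin.orbitHom k A x) ≤ P := fun a ha => by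
    show GLin.orbitHom k A x a ∈ p'
    rw [RingHom.mem_ker.1 ha]; exact zero_mem _
  obtain ⟨Q, hQ, hQP⟩ := Ideal.exists_minimalPrimes_le ((ker_orbitHom_mono hxy).trans hPx)
  haveI hQp : Q.IsPrime := hQ.isPrime
  obtain ⟨p, hp, hpQ⟩ := Ideal.exists_minimalPrimes_comap_eq (I := (⊥ : Ideal A))
    (GLin.orbitHom k A y).toRingHom Q hQ
  haveI hpp : p.IsPrime := hp.isPrime
  have hd1 : ringKrullDim (A ⧸ p') ≤ ringKrullDim (R ⧸ P) := by
    refine Order.krullDim_le_of_strictMono
      (PrimeSpectrum.comap (Ideal.quotientMap p' (GLin.orbitHom k A x).toRingHom hP.le)) fun a b hab => ?_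
    refine lt_of_le_of_ne (Ideal.comap_mono hab.le) fun h => hab.ne ?_
    apply PrimeSpectrum.comap_injective_of_surjective _ Ideal.Quotient.mk_surjective
    refine hqf _ _ (Ideal.comap_mono hab.le) ?_
    have h' := congrArg (fun r => (PrimeSpectrum.comap (Ideal.Quotient.mk P) r).asIdeal) h
    exact h'
  have hd2 : ringKrullDim (R ⧸ Q) ≤ ringKrullDim (A ⧸ p) := by
    haveI : IsDomain (R ⧸ Q) := Ideal.Quotient.isDomain Q
    haveI : IsDomain (A ⧸ p) := Ideal.Quotient.isDomain p
    obtain ⟨s, hs, hs'⟩ := WeilLib.dim_eq_trdeg k (R ⧸ Q) (FractionRing (R ⧸ Q))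
    obtain ⟨t, ht, ht'⟩ := WeilLib.dim_eq_trdeg k (A ⧸ p) (FractionRing (A ⧸ p))
    let ι : R ⧸ Q →ₐ[k] A ⧸ p := Ideal.quotientMapₐ p (GLin.orbitHom k A y) hpQ.ge
    have hι : Function.Injective ι := Ideal.quotientMap_injective' (H := hpQ.ge) (h := hpQ.le)
    let ι' : FractionRing (R ⧸ Q) →ₐ[k] FractionRing (A ⧸ p) :=
      IsFractionRing.liftAlgHom (K := FractionRing (R ⧸ Q))
        (g := (IsScalarTower.toAlgHom k (A ⧸ p) (FractionRing (A ⧸ p))).comp ι)
        ((IsFractionRing.injective (A ⧸ p) (FractionRing (A ⧸ p))).comp hι)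
    have hle := trdeg_le_of_injective ι' ι'.toRingHom.injective
    rw [hs', ht', Nat.cast_le] at hle
    rw [hs, ht]
    exact_mod_cast hle
  have hPQ : P = Q := by
    by_contra hne
    haveI : IsDomain (R ⧸ Q) := Ideal.Quotient.isDomain Q
    obtain ⟨r, hrP, hrQ⟩ := SetLike.exists_of_lt (lt_of_le_of_ne hQP (Ne.symm hne))
    have hr0 : Ideal.Quotient.mk Q r ∈ nonZeroDivisors (R ⧸ Q) :=
      mem_nonZeroDivisors_of_ne_zero fun h => hrQ (Ideal.Quotient.eq_zero_iff_mem.1 h)
    have h1 := ringKrullDim_quotient_succ_le_of_nonZeroDivisor hr0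
    have h2 : ringKrullDim (R ⧸ P) ≤ ringKrullDim ((R ⧸ Q) ⧸ Ideal.span {Ideal.Quotient.mk Q r}) := by
      refine ringKrullDim_le_of_surjective (Ideal.Quotient.lift _ (Ideal.Quotient.factor hQP) ?_)
        (Ideal.Quotient.lift_surjective_of_surjective _ _ (Ideal.Quotient.factor_surjective hQP))
      intro a ha
      obtain ⟨c, rfl⟩ := Ideal.mem_span_singleton'.1 ha
      rw [map_mul, Ideal.Quotient.factor_mk, Ideal.Quotient.eq_zero_iff_mem.2 hrP, mul_zero]
    have h3 : ringKrullDim (A ⧸ p) ≤ ringKrullDim (A ⧸ p') := by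
      rcases le_total (ringKrullDim (A ⧸ p)) (ringKrullDim (A ⧸ p')) with h | h
      exacts [h, hpmax hp h]
    obtain ⟨s, hs, -⟩ := WeilLib.dim_eq_trdeg k (R ⧸ Q) (FractionRing (R ⧸ Q))
    have h4 : ringKrullDim (R ⧸ Q) + 1 ≤ ringKrullDim (R ⧸ Q) :=
      (add_le_add ((hd2.trans h3).trans (hd1.trans h2)) le_rfl).trans h1
    rw [hs] at h4
    have h5 : s + 1 ≤ s := by exact_mod_cast h4
    omega
  obtain ⟨g, hg⟩ := exists_point_of_le k hpp.ne_top
  have hclo : GLin.InOrbitClosure k A x (GLin.actPt k g y) := fun f hf => by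
    have : f ∈ Q := hPQ ▸ hPx hf
    rw [← hpQ] at this
    exact hg this
  obtain ⟨g', hg'⟩ := hcl _ hclo
  obtain ⟨g₂, hg₂⟩ := exists_actPt_symm (rfl : GLin.actPt k g y = GLin.actPt k g y)
  exact ⟨g₂.comp (translate g'), by rw [← actPt_actPt, hg', hg₂]⟩

theorem isPointClosed_iff (x : R →ₐ[k] k) :
    (∀ z : R →ₐ[k] k, (∀ f : R, (∀ g : A →ₐ[k] k, x (Comod.act k A R g f) = 0) → z f = 0) →
      ∃ g : A →ₐ[k] k, ∀ f : R, z f = x (Comod.act k A R g f)) ↔ IsPointClosed k A x := by
  constructor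
  · intro h z hz
    obtain ⟨g, hg⟩ := h z ((inOrbitClosure_iff x z).1 hz)
    exact ⟨g, AlgHom.ext fun f => ((hg f).trans (apply_act x g f)).symm⟩
  · intro h z hz
    obtain ⟨g, hg⟩ := h z ((inOrbitClosure_iff x z).2 hz)
    exact ⟨g, fun f => (AlgHom.congr_fun hg f).symm.trans (apply_act x g f).symm⟩

omit [IsAlgClosed k] [Algebra.FiniteType k A] [Algebra.FiniteType k R] in
theorem stab_eq (x : R →ₐ[k] k) :
    {g : A →ₐ[k] k | ∀ f : R, x (Comod.act k A R g f) = x f} = {g : A →ₐ[k] k | GLin.actPt k g x = x} := by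
  ext g
  exact ⟨fun h => AlgHom.ext fun f => (apply_act x g f).symm.trans (h f),
    fun h f => (apply_act x g f).trans (AlgHom.congr_fun h f)⟩

theorem exists_actPt_of_stable (hG : IsLinearlyReductive k A) {x y : R →ₐ[k] k} (hcl : IsPointClosed k A x)
    (hfin : {g : A →ₐ[k] k | GLin.actPt k g x = x}.Finite) (h : ∀ f ∈ GLin.invariants k A R, y f = x f) :
    ∃ g : A →ₐ[k] k, GLin.actPt k g x = y := by
  obtain ⟨z, hz, hz'⟩ := exists_common_closure hG x y fun f hf => (h f hf).symm
  obtain ⟨g, hg⟩ := hcl z hz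
  refine exists_actPt_of_finite_stab hcl hfin ?_
  have h1 := ker_orbitHom_mono hz'
  rw [← hg, ker_orbitHom_actPt] at h1
  exact h1.trans (inOrbitClosure_refl x)

theorem stable_iff_fibre (hG : IsLinearlyReductive k A) (x : R →ₐ[k] k) :
    (IsPointClosed k A x ∧ {g : A →ₐ[k] k | GLin.actPt k g x = x}.Finite) ↔
      ∀ z : R →ₐ[k] k, (∀ f ∈ GLin.invariants k A R, z f = x f) →
        {g : A →ₐ[k] k | GLin.actPt k g z = z}.Finite := by
  constructor
  · rintro ⟨hcl, hfin⟩ z hz
    obtain ⟨h, hh⟩ := exists_actPt_of_stable hG hcl hfin hz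
    refine Set.Finite.of_finite_image (f := fun g => g.comp (translate h))
      ((finite_fibre_of_finite_stab hfin z).subset ?_) ?_
    · rintro _ ⟨g, hg, rfl⟩
      show GLin.actPt k (g.comp (translate h)) x = z
      rw [← actPt_actPt, hh]; exact hg
    · intro g _ g' _ he
      have hsurj : Function.Surjective (translate h) := by
        have hS : (translate h).comp (translate (h.comp (HopfAlgebra.antipodeAlgHom k A))) = AlgHom.id k A := by
          refine AlgHom.ext fun a => ?_
          have key : ∀ (g : A →ₐ[k] k) (a : A), translate g a = GLin.orbitHom k A (R := A) g a := by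
            intro g a
            rw [orbitHom_apply]
            simp only [translate, AlgHom.comp_apply, Bialgebra.comulAlgHom_apply]
            generalize hz : CoalgebraStruct.comul (R := k) a = z
            clear hz
            induction z with
            | zero => simp
            | tmul p q => simp
            | add p q hp hq => simp only [map_add, hp, hq]
          have h2 : GLin.actPt k h (h.comp (HopfAlgebra.antipodeAlgHom k A)) = Bialgebra.counitAlgHom k A := by
            refine AlgHom.ext fun a => ?_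
            show h (GLin.orbitHom k A (h.comp (HopfAlgebra.antipodeAlgHom k A)) a) = CoalgebraStruct.counit (R := k) a
            have h3 := congrArg h (HopfAlgebra.mul_antipode_rTensor_comul_apply (R := k) a)
            rw [AlgHom.commutes, Algebra.algebraMap_self_apply] at h3
            rw [← h3, orbitHom_apply]
            show h (TensorProduct.lid k A ((h.comp (HopfAlgebra.antipodeAlgHom k A)).toLinearMap.rTensor A
              (CoalgebraStruct.comul (R := k) a))) = _
            generalize CoalgebraStruct.comul (R := k) a = z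
            induction z with
            | zero => simp
            | tmul p q => simp
            | add p q hp hq => simp only [map_add, hp, hq]
          rw [AlgHom.comp_apply, AlgHom.id_apply, key (h.comp (HopfAlgebra.antipodeAlgHom k A)),
            key h]
          have h4 := AlgHom.congr_fun (orbitHom_actPt (R := A) h (h.comp (HopfAlgebra.antipodeAlgHom k A))) a
          rw [h2] at h4
          refine Eq.trans ?_ ((h4.symm.trans ?_))
          · rw [← key h]; rfl
          · rw [orbitHom_apply]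
            show TensorProduct.lid k A ((CoalgebraStruct.counit (R := k)).rTensor A (CoalgebraStruct.comul (R := k) a)) = a
            rw [Coalgebra.rTensor_counit_comul]
            simp
        exact fun a => ⟨_, AlgHom.congr_fun hS a⟩
      refine AlgHom.ext fun a => ?_
      obtain ⟨b, rfl⟩ := hsurj a
      exact AlgHom.congr_fun he b
  · intro hall
    obtain ⟨y, hy, hyc, hyall, -⟩ := exists_closed_in_fibre hG x
    obtain ⟨g, hg⟩ := exists_actPt_of_finite_stab hyc (hall y hy) (hyall x fun _ _ => rfl)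
    refine ⟨fun z hz => ?_, hall x fun _ _ => rfl⟩
    have hzy : GLin.InOrbitClosure k A y z := by
      intro f hf
      rw [← ker_orbitHom_actPt g y, hg] at hf
      exact hz hf
    obtain ⟨g', hg'⟩ := hyc z hzy
    obtain ⟨g₂, hg₂⟩ := exists_actPt_symm hg
    exact ⟨g'.comp (translate g₂), by rw [← actPt_actPt, hg₂, hg']⟩

end GLinFinLib
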