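import Mathlib
import Groth.Agent.GLinFinLib.Points
import Groth.Agent.GLinFinLib.Orbits
import Groth.Agent.ComodLib.Reynolds

/-! # Free closed orbits: descent of Hopf modules -/

set_option autoImplicit false

noncomputable section

open TensorProduct HopfRep
open scoped ComodLib

namespace GLinFinLib

universe u

variable {k : Type u} [Field k] {A : Type u} [CommRing A] [HopfAlgebra k A]
  {R : Type u} [CommRing R] [Algebra k R] [Comod k A R] [GLin.IsCoactAlg k A R]
  {M : Type u} [AddCommGroup M] [Module k M] [Module R M] [IsScalarTower k R M] [Comod k A M]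
  [TameAct.IsHopfMod k A R M]

instance selfHopfMod : TameAct.IsHopfMod k A R R := ⟨fun b m => by
  rw [smul_eq_mul, GLin.IsCoactAlg.coact_mul (k := k) (A := A)]
  generalize Comod.coact (k := k) (A := A) b = y
  generalize Comod.coact (k := k) (A := A) m = z
  induction y with
  | zero => simp
  | add y y' hy hy' => simp only [add_mul, map_add, LinearMap.add_apply, hy, hy']
  | tmul c a =>
    induction z with
    | zero => simp
    | tmul d e => simp [Algebra.TensorProduct.tmul_mul_tmul]
    | add z z' hz hz' => simp only [mul_add, map_add, hz, hz']⟩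

/-- Products of stable submodules are stable. -/
theorem hmSMul_mem (I : Ideal R) (N : Submodule R M) {y : R ⊗[k] A} {z : M ⊗[k] A}
    (hy : y ∈ LinearMap.range ((I.restrictScalars k).subtype.rTensor A))
    (hz : z ∈ LinearMap.range ((N.restrictScalars k).subtype.rTensor A)) :
    TameAct.hmSMul k A R M y z ∈ LinearMap.range (((I • N).restrictScalars k).subtype.rTensor A) := by
  obtain ⟨y, rfl⟩ := hy
  obtain ⟨z, rfl⟩ := hz
  induction y with
  | zero => simp
  | add a b ha hb => rw [map_add, map_add, LinearMap.add_apply]; exact add_mem ha hb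
  | tmul a c =>
    induction z with
    | zero => simp
    | add u v hu hv => rw [map_add, map_add]; exact add_mem hu hv
    | tmul b c' =>
      have ha : (a : R) ∈ I := (Submodule.restrictScalars_mem k I a).1 a.2
      have hb : (b : M) ∈ N := (Submodule.restrictScalars_mem k N b).1 b.2
      have hm : (a : R) • (b : M) ∈ (I • N).restrictScalars k :=
        (Submodule.restrictScalars_mem k (I • N) _).2 (Submodule.smul_mem_smul ha hb)
      refine ⟨(⟨(a : R) • (b : M), hm⟩ : (I • N).restrictScalars k) ⊗ₜ (c * c'), ?_⟩
      simp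

theorem isSubcomod_smul (I : Ideal R) (hI : IsSubcomod (k := k) (A := A) (I.restrictScalars k))
    (N : Submodule R M) (hN : IsSubcomod (k := k) (A := A) (N.restrictScalars k)) :
    IsSubcomod (k := k) (A := A) ((I • N).restrictScalars k) := by
  intro v hv
  rw [Submodule.restrictScalars_mem] at hv
  have key : ∀ w ∈ I • N, Comod.coact (k := k) (A := A) w ∈
      LinearMap.range (((I • N).restrictScalars k).subtype.rTensor A) := by
    intro w hw
    induction hw using Submodule.smul_induction_on' with
    | smul a ha y hy =>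
      rw [TameAct.IsHopfMod.coact_smul (k := k) (A := A)]
      exact hmSMul_mem I N (hI a ha) (hN y hy)
    | add a _ b _ ha hb => rw [map_add]; exact add_mem ha hb
  exact key v hv

theorem coact_mem_top (v : M) :
    Comod.coact (k := k) (A := A) v ∈ LinearMap.range (((⊤ : Submodule R M).restrictScalars k).subtype.rTensor A) := by
  generalize Comod.coact (k := k) (A := A) v = z
  induction z with
  | zero => simp
  | add a b ha hb => exact add_mem ha hb
  | tmul a c => exact ⟨⟨a, trivial⟩ ⊗ₜ c, rfl⟩

theorem isSubcomod_top : IsSubcomod (k := k) (A := A) ((⊤ : Submodule R M).restrictScalars k) :=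
  fun v _ => coact_mem_top v

theorem isSubcomod_span_fixed (S : Set M) (hS : S ⊆ (fixedPts k A M : Set M)) :
    IsSubcomod (k := k) (A := A) ((Submodule.span R S).restrictScalars k) := by
  intro v hv
  have hv' : v ∈ Submodule.span R S := hv
  clear hv
  induction hv' using Submodule.span_induction with
  | mem y hy =>
    exact ⟨(⟨y, Submodule.subset_span hy⟩ : (Submodule.span R S).restrictScalars k) ⊗ₜ (1 : A),
      by simpa using (hS hy).symm⟩
  | zero => simp
  | add a b _ _ ha hb => rw [map_add]; exact add_mem ha hb
  | smul r y _ hy =>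
    rw [TameAct.IsHopfMod.coact_smul (k := k) (A := A)]
    have h := hmSMul_mem (⊤ : Ideal R) (Submodule.span R S) (coact_mem_top r) hy
    rwa [Submodule.top_smul] at h

/-- An element of `y ⊗ 1` lies in the `A`-span of the coaction of a stable submodule. -/
theorem tmul_one_eq (y : M) :
    TensorProduct.lift
      (LinearMap.mk₂ k (fun (m : M) (c : A) => (LinearMap.mulRight k (HopfAlgebra.antipode k c)).lTensor M
          (Comod.coact (k := k) (A := A) m))
        (fun m m' c => by rw [map_add, map_add]) (fun r m c => by rw [map_smul, map_smul])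
        (fun m c c' => by
          rw [map_add, show LinearMap.mulRight k (HopfAlgebra.antipode k c + HopfAlgebra.antipode k c') =
            LinearMap.mulRight k (HopfAlgebra.antipode k c) + LinearMap.mulRight k (HopfAlgebra.antipode k c') from
              LinearMap.ext fun x => by simp [mul_add], LinearMap.lTensor_add, LinearMap.add_apply])
        (fun r m c => by
          rw [map_smul, show LinearMap.mulRight k (r • HopfAlgebra.antipode k c) =
            r • LinearMap.mulRight k (HopfAlgebra.antipode k c) from LinearMap.ext fun x => by simp,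
            LinearMap.lTensor_smul, LinearMap.smul_apply]))
      (Comod.coact (k := k) (A := A) y) = y ⊗ₜ[k] (1 : A) := by
  set G := TensorProduct.lift
      (LinearMap.mk₂ k (fun (m : M) (c : A) => (LinearMap.mulRight k (HopfAlgebra.antipode k c)).lTensor M
          (Comod.coact (k := k) (A := A) m)) _ _ _ _)
  let G' : M ⊗[k] (A ⊗[k] A) →ₗ[k] M ⊗[k] A :=
    (LinearMap.mul' k A ∘ₗ (HopfAlgebra.antipode k (A := A)).lTensor A).lTensor M
  have key : ∀ z : M ⊗[k] A, G z =
      G' (TensorProduct.assoc k M A A ((Comod.coact (k := k) (A := A)).rTensor A z)) := fun z => by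
    induction z with
    | zero => simp
    | add a b ha hb => simp only [map_add, ha, hb]
    | tmul m c =>
      show (LinearMap.mulRight k (HopfAlgebra.antipode k c)).lTensor M (Comod.coact (k := k) (A := A) m) = _
      rw [LinearMap.rTensor_tmul]
      generalize Comod.coact (k := k) (A := A) m = w
      induction w with
      | zero => simp [TensorProduct.zero_tmul]
      | add a b ha hb => simp only [map_add, TensorProduct.add_tmul, ha, hb]
      | tmul p q => simp [G']
  rw [key, ComodLib.coassoc_apply (k := k) (A := A) (V := M) y, ← LinearMap.lTensor_comp_apply]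
  have e : (LinearMap.mul' k A ∘ₗ (HopfAlgebra.antipode k (A := A)).lTensor A) ∘ₗ CoalgebraStruct.comul =
      Algebra.linearMap k A ∘ₗ CoalgebraStruct.counit := by
    refine LinearMap.ext fun x => ?_
    simp [HopfAlgebra.mul_antipode_lTensor_comul_apply]
  rw [e, LinearMap.lTensor_comp_apply,
    show (CoalgebraStruct.counit (R := k)).lTensor M (Comod.coact (k := k) (A := A) y) = y ⊗ₜ[k] (1 : k) from
      LinearMap.congr_fun (Comod.counit_comp (k := k) (A := A) (V := M)) y]
  simp

/-- Transporters between stable submodules are stable. -/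
theorem isSubcomod_colon (L K : Submodule R M) (hL : IsSubcomod (k := k) (A := A) (L.restrictScalars k))
    (hK : IsSubcomod (k := k) (A := A) (K.restrictScalars k)) :
    IsSubcomod (k := k) (A := A) ((Submodule.colon L (K : Set M)).restrictScalars k) := by
  rw [ComodLib.isSubcomod_iff]
  intro f d hd
  rw [Submodule.restrictScalars_mem, Submodule.mem_colon] at hd ⊢
  intro y hy
  rw [ComodLib.smul_eq]
  have h1 : ∀ (z : R ⊗[k] A), ComodLib.slice f.ofConv z • y =
      ComodLib.slice f.ofConv (TameAct.hmSMul k A R M z (y ⊗ₜ[k] (1 : A))) := fun z => by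
    induction z with
    | zero => simp
    | add a b ha hb => simp only [map_add, add_smul, LinearMap.add_apply, ha, hb]
    | tmul a c => simp
  rw [h1]
  refine ComodLib.slice_mem_of_mem_range (L.restrictScalars k) _ ?_
  rw [← tmul_one_eq (k := k) (A := A) y]
  obtain ⟨t, ht⟩ := hK y hy
  rw [← ht]
  clear ht
  induction t with
  | zero => simp
  | add a b ha hb => rw [map_add, map_add, map_add]; exact add_mem ha hb
  | tmul q c =>
    rw [LinearMap.rTensor_tmul, TensorProduct.lift.tmul, LinearMap.mk₂_apply]
    have hcomm : ∀ (a : R ⊗[k] A) (w : M ⊗[k] A) (e : A),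
        TameAct.hmSMul k A R M a ((LinearMap.mulRight k e).lTensor M w) =
          (LinearMap.mulRight k e).lTensor M (TameAct.hmSMul k A R M a w) := fun a w e => by
      induction a with
      | zero => simp
      | add a b ha hb => simp only [map_add, LinearMap.add_apply, ha, hb]
      | tmul p p' =>
        induction w with
        | zero => simp
        | add a b ha hb => simp only [map_add, ha, hb]
        | tmul s s' => simp [mul_assoc]
    rw [Submodule.coe_subtype, hcomm, ← TameAct.IsHopfMod.coact_smul (k := k) (A := A)]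
    obtain ⟨s, hs⟩ := hL _ (hd (q : M) q.2)
    rw [← hs]
    exact ⟨(LinearMap.mulRight k (HopfAlgebra.antipode k c)).lTensor _ s, by
      rw [← LinearMap.comp_apply, LinearMap.rTensor_comp_lTensor, ← LinearMap.lTensor_comp_rTensor,
        LinearMap.comp_apply]⟩

/-- A comodule section of a surjective orbit map. -/
theorem exists_orbit_section (hG : IsLinearlyReductive k A) (x : R →ₐ[k] k)
    (hx : Function.Surjective (GLin.orbitHom k A x)) :
    ∃ α : A →ₗ[k] R, Hoch.IsComodHom A α ∧ ∀ a, GLin.orbitHom k A x (α a) = a := by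
  obtain ⟨β, hβ, h1⟩ := ComodLib.exists_invariant_of_isLinearlyReductive hG
  set o := (GLin.orbitHom k A x).toLinearMap with ho
  have hoc : Hoch.IsComodHom A o := isComodHom_orbitHom x
  obtain ⟨W, hW, hcompl⟩ := ComodLib.isSemisimpleComod_of_invariant (V := R) hβ h1 _
    (ComodLib.isSubcomod_ker_of_hom hoc)
  let oW : W →ₗ[k] A := o ∘ₗ W.subtype
  have hbij : Function.Bijective oW := by
    refine ⟨(injective_iff_map_eq_zero oW).2 fun w hw => ?_, fun a => ?_⟩
    · have : (w : R) ∈ LinearMap.ker o ⊓ W := ⟨hw, w.2⟩
      rw [hcompl.inf_eq_bot] at this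
      exact Subtype.ext this
    · obtain ⟨r, rfl⟩ := hx a
      obtain ⟨p, hp, q, hq, rfl⟩ := Submodule.mem_sup.1
        (hcompl.sup_eq_top ▸ Submodule.mem_top : r ∈ LinearMap.ker o ⊔ W)
      refine ⟨⟨q, hq⟩, ?_⟩
      rw [map_add, show GLin.orbitHom k A x p = 0 from hp, zero_add]
      rfl
  let e := LinearEquiv.ofBijective oW hbij
  refine ⟨W.subtype ∘ₗ e.symm.toLinearMap, (ComodLib.isComodHom_iff _).2 fun f a => ?_,
    fun a => e.apply_symm_apply a⟩
  show ((e.symm (f • a) : W) : R) = f • ((e.symm a : W) : R)
  have hmem : f • ((e.symm a : W) : R) ∈ W := (ComodLib.isSubcomod_iff _).1 hW f _ (e.symm a).2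
  have h2 : o (f • ((e.symm a : W) : R)) = f • a := by
    rw [(ComodLib.isComodHom_iff o).1 hoc f]
    exact congrArg (f • ·) (e.apply_symm_apply a)
  have : e.symm (f • a) = ⟨_, hmem⟩ := e.injective ((e.apply_symm_apply _).trans h2.symm)
  rw [this]

variable {x : R →ₐ[k] k} {α : A →ₗ[k] R}

/-- The averaging operator sends a stable submodule to itself. -/
theorem tameReynolds_mem (α : A →ₗ[k] R) {N : Submodule R M}
    (hN : IsSubcomod (k := k) (A := A) (N.restrictScalars k)) {v : M} (hv : v ∈ N) :
    TameAct.reynolds k A R M α v ∈ N := by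
  obtain ⟨t, ht⟩ := hN v hv
  simp only [TameAct.reynolds, LinearMap.comp_apply]
  rw [← ht]
  clear ht
  induction t with
  | zero => simp
  | add a b ha hb => rw [map_add, map_add]; exact add_mem ha hb
  | tmul q c =>
    rw [LinearMap.rTensor_tmul, TensorProduct.lift.tmul]
    exact N.smul_mem _ q.2

theorem orbit_tameReynolds (hsec : ∀ a, GLin.orbitHom k A x (α a) = a) (r : R) :
    GLin.orbitHom k A x (TameAct.reynolds k A R R α r) = algebraMap k A (x r) := by
  have h1 : ∀ z : R ⊗[k] A, GLin.orbitHom k A x (TensorProduct.lift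
      ((Algebra.lsmul k k R : R →ₐ[k] Module.End k R).toLinearMap ∘ₗ α ∘ₗ
        (HopfAlgebraStruct.antipode (R := k) (A := A))).flip z) =
      LinearMap.mul' k A ((HopfAlgebra.antipode k (A := A)).lTensor A
        ((GLin.orbitHom k A x).toLinearMap.rTensor A z)) := fun z => by
    induction z with
    | zero => simp
    | add a b ha hb => simp only [map_add, ha, hb]
    | tmul p c => simp [hsec, mul_comm]
  simp only [TameAct.reynolds, LinearMap.comp_apply]
  rw [h1, show (GLin.orbitHom k A x).toLinearMap.rTensor A (Comod.coact (k := k) (A := A) r) =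
      CoalgebraStruct.comul (R := k) (GLin.orbitHom k A x r) from
        (LinearMap.congr_fun (isComodHom_orbitHom x) r).symm,
    HopfAlgebra.mul_antipode_lTensor_comul_apply, counit_orbitHom]

/-- Every element of a stable submodule is, modulo the orbit ideal, a combination of invariants. -/
theorem mem_span_fixed_sup_smul (hα : Hoch.IsComodHom A α) (hsec : ∀ a, GLin.orbitHom k A x (α a) = a)
    (K : Submodule R M) (hK : IsSubcomod (k := k) (A := A) (K.restrictScalars k)) {m : M} (hm : m ∈ K) :
    m ∈ Submodule.span R ((K : Set M) ∩ (fixedPts k A M : Set M)) ⊔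
      RingHom.ker (GLin.orbitHom k A x) • K := by
  set I := RingHom.ker (GLin.orbitHom k A x) with hI
  let P := TameAct.reynolds k A R M α
  let L : M ⊗[k] A →ₗ[k] M :=
    TensorProduct.lift (((Algebra.lsmul k k M : R →ₐ[k] Module.End k M).toLinearMap ∘ₗ α).flip)
  let ψ : A →ₗ[k] R := LinearMap.mul' k R ∘ₗ TensorProduct.map (α ∘ₗ HopfAlgebraStruct.antipode (R := k) (A := A)) α ∘ₗ
    CoalgebraStruct.comul
  have hψ : ∀ c, ψ c - algebraMap k R (CoalgebraStruct.counit (R := k) c) ∈ I := fun c => by
    rw [hI, RingHom.mem_ker, map_sub, AlgHom.commutes, sub_eq_zero,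
      ← HopfAlgebra.mul_antipode_rTensor_comul_apply (R := k) c]
    simp only [ψ, LinearMap.comp_apply]
    generalize CoalgebraStruct.comul (R := k) c = z
    induction z with
    | zero => simp
    | add a b ha hb => simp only [map_add, ha, hb]
    | tmul p q => simp [hsec]
  have hΦ : L (P.rTensor A (Comod.coact (k := k) (A := A) m)) =
      TensorProduct.lift (((Algebra.lsmul k k M : R →ₐ[k] Module.End k M).toLinearMap ∘ₗ ψ).flip)
        (Comod.coact (k := k) (A := A) m) := by
    let L' : M ⊗[k] (A ⊗[k] A) →ₗ[k] M :=
      TensorProduct.lift (((Algebra.lsmul k k M : R →ₐ[k] Module.End k M).toLinearMap ∘ₗ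
        LinearMap.mul' k R ∘ₗ TensorProduct.map (α ∘ₗ HopfAlgebraStruct.antipode (R := k) (A := A)) α).flip)
    have e1 : ∀ z : M ⊗[k] A, L (P.rTensor A z) =
        L' (TensorProduct.assoc k M A A ((Comod.coact (k := k) (A := A)).rTensor A z)) := fun z => by
      induction z with
      | zero => simp
      | add a b ha hb => simp only [map_add, ha, hb]
      | tmul p c =>
        rw [LinearMap.rTensor_tmul, LinearMap.rTensor_tmul]
        simp only [P, TameAct.reynolds, LinearMap.comp_apply]
        generalize Comod.coact (k := k) (A := A) p = w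
        induction w with
        | zero => simp [TensorProduct.zero_tmul]
        | add a b ha hb => simp only [map_add, TensorProduct.add_tmul, ha, hb]
        | tmul s t => simp [L, L', smul_smul, mul_comm]
    rw [e1, ComodLib.coassoc_apply (k := k) (A := A) (V := M) m]
    generalize Comod.coact (k := k) (A := A) m = z
    induction z with
    | zero => simp
    | add a b ha hb => simp only [map_add, ha, hb]
    | tmul p c => simp [L', ψ]
  obtain ⟨t, ht⟩ := hK m hm
  have hmem : L (P.rTensor A (Comod.coact (k := k) (A := A) m)) ∈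
      Submodule.span R ((K : Set M) ∩ (fixedPts k A M : Set M)) := by
    rw [← ht]
    clear ht
    induction t with
    | zero => simp
    | add a b ha hb => rw [map_add, map_add, map_add]; exact add_mem ha hb
    | tmul q c =>
      rw [LinearMap.rTensor_tmul, LinearMap.rTensor_tmul]
      show α c • P (q : M) ∈ _
      exact Submodule.smul_mem _ _ (Submodule.subset_span
        ⟨tameReynolds_mem α hK q.2, ComodLib.reynolds_mem_fixedPts hα _⟩)
  rw [hΦ] at hmem
  have hdiff : TensorProduct.lift (((Algebra.lsmul k k M : R →ₐ[k] Module.End k M).toLinearMap ∘ₗ ψ).flip)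
        (Comod.coact (k := k) (A := A) m) - m ∈ I • K := by
    have h2 : ∀ t : (K.restrictScalars k) ⊗[k] A,
        TensorProduct.lift (((Algebra.lsmul k k M : R →ₐ[k] Module.End k M).toLinearMap ∘ₗ ψ).flip)
          ((K.restrictScalars k).subtype.rTensor A t) -
        ComodLib.slice (CoalgebraStruct.counit (R := k)) ((K.restrictScalars k).subtype.rTensor A t) ∈ I • K := by
      intro t
      induction t with
      | zero => simp
      | add a b ha hb => simp only [map_add]; rw [add_sub_add_comm]; exact add_mem ha hb
      | tmul q c =>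
        rw [LinearMap.rTensor_tmul, TensorProduct.lift.tmul, ComodLib.slice_tmul]
        show ψ c • (q : M) - CoalgebraStruct.counit (R := k) c • (q : M) ∈ _
        rw [← algebraMap_smul R (CoalgebraStruct.counit (R := k) c) (q : M), ← sub_smul]
        exact Submodule.smul_mem_smul (hψ c) q.2
    have h3 := h2 t
    rwa [ht, ComodLib.slice_counit] at h3
  have := sub_mem (Submodule.mem_sup_left (T := I • K) hmem) (Submodule.mem_sup_right hdiff)
  simpa using this

/-- Invariants independent modulo the orbit ideal are independent over the orbit. -/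
theorem coeff_mem_of_sum_mem (hα : Hoch.IsComodHom A α) (hsec : ∀ a, GLin.orbitHom k A x (α a) = a)
    (K : Submodule R M) (hK : IsSubcomod (k := k) (A := A) (K.restrictScalars k))
    {ι : Type*} [Fintype ι] [DecidableEq ι] (v : ι → M) (hv : ∀ i, v i ∈ fixedPts k A M) (hvK : ∀ i, v i ∈ K)
    (l : ι → M →ₗ[k] k) (hl : ∀ i, ∀ m ∈ RingHom.ker (GLin.orbitHom k A x) • K, l i m = 0)
    (hlv : ∀ i j, l i (v j) = if i = j then 1 else 0)
    (r : ι → R) (hsum : ∑ i, r i • v i ∈ RingHom.ker (GLin.orbitHom k A x) • K) (j : ι) :
    r j ∈ RingHom.ker (GLin.orbitHom k A x) := by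
  set I := RingHom.ker (GLin.orbitHom k A x) with hI
  let P := TameAct.reynolds k A R M α
  let Ψ : M →ₗ[k] A := TensorProduct.lid k A ∘ₗ (l j ∘ₗ P).rTensor A ∘ₗ Comod.coact (k := k) (A := A)
  have h0 : Ψ (∑ i, r i • v i) = 0 := by
    obtain ⟨t, ht⟩ := isSubcomod_smul I (isSubcomod_ker_orbitHom x) K hK _ hsum
    simp only [Ψ, LinearMap.comp_apply]
    rw [← ht]
    clear ht
    induction t with
    | zero => simp
    | add a b ha hb => simp only [map_add, ha, hb, add_zero]
    | tmul q c =>
      have hq : P (q : M) ∈ I • K := tameReynolds_mem α (isSubcomod_smul I (isSubcomod_ker_orbitHom x) K hK) q.2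
      simp [hl j _ hq]
  have hP : ∀ (s : R) (i : ι), l j (P (s • v i)) = if j = i then x s else 0 := fun s i => by
    have h1 : P (s • v i) = TameAct.reynolds k A R R α s • v i :=
      (ComodLib.reynolds_natural' α (LinearMap.toSpanSingleton R M (v i)) (isComodHom_smul (hv i)) s).symm
    have h2 : TameAct.reynolds k A R R α s - algebraMap k R (x s) ∈ I := by
      rw [hI, RingHom.mem_ker, map_sub, orbit_tameReynolds hsec, AlgHom.commutes, sub_self]
    have h3 := hl j _ (Submodule.smul_mem_smul h2 (hvK i))
    rw [sub_smul, map_sub, sub_eq_zero, algebraMap_smul R (x s) (v i), LinearMap.map_smul, smul_eq_mul, hlv] at h3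
    rw [h1, h3]
    simp
  have hΨ : ∀ i, Ψ (r i • v i) = if j = i then GLin.orbitHom k A x (r i) else 0 := fun i => by
    simp only [Ψ, LinearMap.comp_apply, coact_smul_fixed (r i) (hv i)]
    rw [orbitHom_apply]
    generalize Comod.coact (k := k) (A := A) (r i) = z
    induction z with
    | zero => simp
    | add a b ha hb => simp only [map_add, ha, hb]; split_ifs <;> simp
    | tmul p c =>
      simp only [LinearMap.rTensor_tmul, LinearMap.comp_apply, LinearEquiv.coe_coe, TensorProduct.lid_tmul]
      show l j (P (p • v i)) • c = _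
      rw [hP]
      split_ifs <;> simp
  rw [map_sum, Finset.sum_congr rfl fun i _ => hΨ i, Finset.sum_ite_eq, if_pos (Finset.mem_univ j)] at h0
  exact h0

/-- An invariant element congruent to one in a stable ideal comaximal with the orbit ideal. -/
theorem exists_invariant_mem_sub_one (hG : IsLinearlyReductive k A) (D I : Ideal R)
    (hD : IsSubcomod (k := k) (A := A) (D.restrictScalars k))
    (hI : IsSubcomod (k := k) (A := A) (I.restrictScalars k)) {b : R} (hb : b ∈ D) (hb1 : b - 1 ∈ I) :
    ∃ b' ∈ GLin.invariants k A R, b' ∈ D ∧ b' - 1 ∈ I := by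
  obtain ⟨β, hβ, h1⟩ := ComodLib.exists_invariant_of_isLinearlyReductive hG
  refine ⟨ComodLib.reynolds R β b, ComodLib.reynolds_mem hβ b, reynolds_mem_of_isSubcomod β hD hb, ?_⟩
  have := reynolds_mem_of_isSubcomod β hI hb1
  rwa [map_sub, ComodLib.reynolds_fixed h1 (GLin.invariants k A R).one_mem] at this

variable [IsAlgClosed k] [Algebra.FiniteType k R]

/-- When all orbits are free and closed, a stable submodule is spanned by its invariants. -/
theorem span_fixed_eq (hG : IsLinearlyReductive k A) (hfree : ∀ x : R →ₐ[k] k, Function.Surjective (GLin.orbitHom k A x))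
    (K : Submodule R M) (hK : IsSubcomod (k := k) (A := A) (K.restrictScalars k)) (hfg : K.FG) :
    Submodule.span R ((K : Set M) ∩ (fixedPts k A M : Set M)) = K := by
  set L := Submodule.span R ((K : Set M) ∩ (fixedPts k A M : Set M))
  refine le_antisymm (Submodule.span_le.2 Set.inter_subset_left) fun m hm => ?_
  suffices h : Submodule.colon L (K : Set M) = ⊤ by
    have h1 : (1 : R) ∈ Submodule.colon L (K : Set M) := h ▸ Submodule.mem_top
    simpa using Submodule.mem_colon.1 h1 m hm
  by_contra hne
  obtain ⟨z, hz⟩ := exists_point_of_le k hne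
  obtain ⟨α, hα, hsec⟩ := exists_orbit_section hG z (hfree z)
  have hle : K ≤ L ⊔ RingHom.ker z • K := fun w hw => by
    have h2 : L ⊔ RingHom.ker (GLin.orbitHom k A z) • K ≤ L ⊔ RingHom.ker z • K :=
      sup_le_sup_left (Submodule.smul_mono (inOrbitClosure_refl z) le_rfl) _
    exact h2 (mem_span_fixed_sup_smul hα hsec K hK hw)
  obtain ⟨r, hr, hrK⟩ := Submodule.exists_sub_one_mem_and_smul_le_of_fg_of_le_sup (I := RingHom.ker z)
    (N := L) (N' := K) (P := K) hfg le_rfl hle
  have hrz : r ∈ RingHom.ker z := hz (Submodule.mem_colon.2 fun w hw => hrK (Submodule.smul_mem_pointwise_smul w r K hw))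
  have : (1 : R) ∈ RingHom.ker z := by simpa using sub_mem hrz hr
  simp [RingHom.mem_ker] at this

end GLinFinLib
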