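import Mathlib
import Groth.Agent.ComodLib.LinRed
import Groth.Agent.GLinFinLib.Points
import Groth.Agent.UnitRigidLib.Tensor
import Groth.Agent.HopfFFLib.Consequences
import Groth.Agent.GrpSchLib.HopfReduced

/-! # Invariant fractions on factorial affine varieties -/

set_option autoImplicit false
set_option maxHeartbeats 1000000
set_option synthInstance.maxHeartbeats 400000

noncomputable section

open TensorProduct HopfRep WithConv UnitRigidLib

namespace GLinFinLib.Fraction

universe u

variable {k : Type u} [Field k] {A : Type u} [CommRing A] [HopfAlgebra k A]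
  {B : Type u} [CommRing B] [Algebra k B] [Comod k A B] [GLin.IsCoactAlg k A B]

theorem act_eq (φ : A →ₐ[k] k) (x : B) :
    Comod.act k A B φ x = spec₂ φ (GLin.coactAlgHom k A B x) := by
  show TensorProduct.rid k B (φ.toLinearMap.lTensor B (Comod.coact (k := k) (A := A) x)) = _
  rw [GLin.coactAlgHom_apply]
  generalize Comod.coact (k := k) (A := A) x = z
  induction z with
  | zero => simp
  | add a b ha hb => simp only [map_add, ha, hb]
  | tmul a b => simp [spec₂_tmul]

theorem act_mul (φ : A →ₐ[k] k) (x y : B) :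
    Comod.act k A B φ (x * y) = Comod.act k A B φ x * Comod.act k A B φ y := by
  rw [act_eq, act_eq, act_eq, map_mul, map_mul]

theorem act_inv (φ : A →ₐ[k] k) (x : B) :
    Comod.act k A B φ (Comod.act k A B (φ.comp (HopfAlgebra.antipodeAlgHom k A)) x) = x := by
  show ComodLib.slice φ.toLinearMap (Comod.coact (k := k) (A := A)
    (ComodLib.slice (φ.comp (HopfAlgebra.antipodeAlgHom k A)).toLinearMap
      (Comod.coact (k := k) (A := A) x))) = x
  have h := ComodLib.slice_coact_mul (k := k) (A := A) (V := B) (toConv φ.toLinearMap)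
    (toConv (φ.comp (HopfAlgebra.antipodeAlgHom k A)).toLinearMap) x
  simp only [ofConv_toConv] at h
  rw [h]
  have e : (toConv φ.toLinearMap * toConv (φ.comp (HopfAlgebra.antipodeAlgHom k A)).toLinearMap).ofConv =
      CoalgebraStruct.counit (R := k) (A := A) := by
    refine LinearMap.ext fun a => ?_
    have h2 := congrArg (fun F : WithConv (A →ₐ[k] k) => F a)
      (Groth.Agent.HopfFF.conv_mul_comp_antipode φ)
    simp only [AlgHom.convMul_apply] at h2
    rw [LinearMap.convMul_def]
    show LinearMap.mul' k k (TensorProduct.map φ.toLinearMap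
      (φ.comp (HopfAlgebra.antipodeAlgHom k A)).toLinearMap (CoalgebraStruct.comul (R := k) a)) = _
    refine Eq.trans ?_ (h2.trans ?_)
    · generalize CoalgebraStruct.comul (R := k) a = t
      induction t with
      | zero => simp
      | add p q hp hq => simp only [map_add, hp, hq]
      | tmul p q => simp
    · simp
  rw [e, ComodLib.slice_counit]

theorem act_ne_zero (φ : A →ₐ[k] k) {x : B} (hx : x ≠ 0) : Comod.act k A B φ x ≠ 0 := by
  intro h
  have h2 := act_inv (φ.comp (HopfAlgebra.antipodeAlgHom k A)) x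
  have e : (φ.comp (HopfAlgebra.antipodeAlgHom k A)).comp (HopfAlgebra.antipodeAlgHom k A) = φ := by
    refine AlgHom.ext fun a => ?_
    show φ (HopfAlgebra.antipodeAlgHom k A (HopfAlgebra.antipodeAlgHom k A a)) = φ a
    exact congrArg φ (Groth.Agent.HopfFF.antipode_antipode a)
  rw [e, h, map_zero] at h2
  exact hx h2.symm

variable [IsAlgClosed k] [Algebra.FiniteType k A] [IsDomain B]

omit [IsAlgClosed k] [Algebra.FiniteType k A] in
theorem isUnit_of_forall_dvd {g : B} (hg : g ≠ 0) (h : ∀ φ : A →ₐ[k] k, g ∣ Comod.act k A B φ g)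
    (φ : A →ₐ[k] k) {c : B} (hc : Comod.act k A B φ g = g * c) : IsUnit c := by
  obtain ⟨d, hd⟩ := h (φ.comp (HopfAlgebra.antipodeAlgHom k A))
  have h2 := act_inv φ g
  rw [hd, act_mul, hc, mul_assoc, mul_right_eq_self₀] at h2
  exact IsUnit.of_mul_eq_one _ (h2.resolve_right hg)

omit [IsAlgClosed k] [Algebra.FiniteType k A] in
/-- Invariant fractions in lowest terms have semi-invariant denominators. -/
theorem dvd_act [DecompositionMonoid B] {f g : B} (hrel : IsRelPrime f g) (φ : A →ₐ[k] k)
    (hinv : Comod.act k A B φ f * g = f * Comod.act k A B φ g) : g ∣ Comod.act k A B φ g :=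
  hrel.symm.dvd_of_dvd_mul_left ⟨Comod.act k A B φ f, by rw [← hinv, mul_comm]⟩

omit [IsDomain B] in
/-- Pointwise semi-invariance is semi-invariance. -/
theorem coact_eq [IsReduced A] {g : B} {χ : A} (h : ∀ φ : A →ₐ[k] k, Comod.act k A B φ g = φ χ • g) :
    Comod.coact (k := k) (A := A) g = g ⊗ₜ[k] χ := by
  obtain ⟨W, hW⟩ := exists_eq_mul_of_forall_dvd (K := k) (0 : B)
    (GLin.coactAlgHom k A B g - g ⊗ₜ[k] χ) fun φ => by
    rw [map_sub, ← act_eq, h, spec₂_tmul, sub_self]
  rw [TensorProduct.zero_tmul, zero_mul, GLin.coactAlgHom_apply, sub_eq_zero] at hW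
  exact hW

omit [IsAlgClosed k] [Algebra.FiniteType k A] [IsDomain B] in
/-- The weight of a nonzero semi-invariant is group-like. -/
theorem isGroupLike_weight {g : B} (hg : g ≠ 0) {χ : A}
    (h : Comod.coact (k := k) (A := A) g = g ⊗ₜ[k] χ) : IsGroupLikeElem k χ := by
  obtain ⟨l, hl⟩ := ComodLib.exists_dual_ne (k := k) hg
  constructor
  · have hc := ComodLib.slice_counit (k := k) (A := A) (V := B) g
    rw [h, ComodLib.slice_tmul] at hc
    have := congrArg l hc
    rw [map_smul, smul_eq_mul] at this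
    exact mul_right_cancel₀ hl (this.trans (one_mul _).symm)
  · have hc := ComodLib.coassoc_apply (k := k) (A := A) (V := B) g
    rw [h, LinearMap.rTensor_tmul, h, TensorProduct.assoc_tmul, LinearMap.lTensor_tmul] at hc
    have := congrArg (fun z => (l g)⁻¹ • ComodLib.sliceL l z) hc
    simpa [inv_smul_smul₀ hl] using this.symm

/-- Invariant fractions of a connected group without characters are ratios of invariants. -/
theorem exists_invariant_ratio [Algebra.FiniteType k B] [IsDomain A] [UniqueFactorizationMonoid B]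
    (hchar : ∀ a : A, IsGroupLikeElem k a → a = 1) (f g : B) (hg : g ≠ 0)
    (hinv : ∀ φ : A →ₐ[k] k, Comod.act k A B φ f * g = f * Comod.act k A B φ g) :
    ∃ f' g' : B, (∀ φ : A →ₐ[k] k, Comod.act k A B φ f' = f') ∧
      (∀ φ : A →ₐ[k] k, Comod.act k A B φ g' = g') ∧ g' ≠ 0 ∧ f * g' = f' * g := by
  obtain ⟨f', g', c, hrel, rfl, rfl⟩ :=
    UniqueFactorizationMonoid.exists_reduced_factors' f g hg
  have hc : c ≠ 0 := left_ne_zero_of_mul hg
  have hg' : g' ≠ 0 := right_ne_zero_of_mul hg
  have hinv' : ∀ φ : A →ₐ[k] k, Comod.act k A B φ f' * g' = f' * Comod.act k A B φ g' := by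
    intro φ
    have h := hinv φ
    rw [act_mul, act_mul] at h
    refine mul_left_cancel₀ (mul_ne_zero (act_ne_zero φ hc) hc) ?_
    linear_combination h
  haveI : DecompositionMonoid B := inferInstance
  haveI : Algebra.FiniteType k (B ⊗[k] A) :=
    Algebra.FiniteType.trans (inferInstance : Algebra.FiniteType k B) (inferInstance : Algebra.FiniteType B (B ⊗[k] A))
  have hdvd := fun φ => dvd_act hrel φ (hinv' φ)
  obtain ⟨W, hW⟩ := exists_eq_mul_of_forall_dvd (K := k) g' (GLin.coactAlgHom k A B g') fun φ => by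
    rw [← act_eq]; exact hdvd φ
  have hWφ : ∀ φ : A →ₐ[k] k, Comod.act k A B φ g' = g' * spec₂ φ W := fun φ => by
    rw [act_eq, hW, map_mul, spec₂_tmul, map_one, one_smul]
  have hWu : IsUnit W := by
    refine isUnit_of_forall_point (K := k) W fun χ => ?_
    let φ : A →ₐ[k] k := χ.comp Algebra.TensorProduct.includeRight
    let ψ : B →ₐ[k] k := χ.comp Algebra.TensorProduct.includeLeft
    have e : ∀ V, χ V = ψ (spec₂ φ V) := fun V => by
      induction V using TensorProduct.induction_on with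
      | zero => simp
      | tmul a b =>
        rw [spec₂_tmul, map_smul, smul_eq_mul, mul_comm]
        show χ (a ⊗ₜ[k] b) = χ (a ⊗ₜ[k] 1) * χ (1 ⊗ₜ[k] b)
        rw [← map_mul, Algebra.TensorProduct.tmul_mul_tmul, mul_one, one_mul]
      | add p q hp hq => simp only [map_add, hp, hq]
    rw [e]
    exact ((isUnit_of_forall_dvd hg' hdvd φ (hWφ φ)).map ψ).ne_zero
  obtain ⟨b, a, hab⟩ := exists_tmul_of_isUnit (K := k) hWu.unit
  rw [IsUnit.unit_spec] at hab
  have hb : CoalgebraStruct.counit (R := k) a • b = 1 := by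
    have h := ComodLib.slice_counit (k := k) (A := A) (V := B) g'
    rw [show Comod.coact (k := k) (A := A) g' = _ from hW, hab,
      Algebra.TensorProduct.tmul_mul_tmul, one_mul, ComodLib.slice_tmul, ← mul_smul_comm,
      mul_eq_left₀ hg'] at h
    exact h
  have hε : CoalgebraStruct.counit (R := k) a ≠ 0 := fun h => by simp [h] at hb
  have hcoact : Comod.coact (k := k) (A := A) g' =
      g' ⊗ₜ[k] ((CoalgebraStruct.counit (R := k) a)⁻¹ • a) := by
    rw [show Comod.coact (k := k) (A := A) g' = _ from hW, hab,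
      Algebra.TensorProduct.tmul_mul_tmul, one_mul, eq_inv_smul_iff₀ hε |>.2 hb,
      mul_smul_comm, mul_one, TensorProduct.smul_tmul]
  rw [hchar _ (isGroupLike_weight hg' hcoact)] at hcoact
  have hgfix : ∀ φ : A →ₐ[k] k, Comod.act k A B φ g' = g' := fun φ => by
    rw [act_eq, GLin.coactAlgHom_apply, hcoact, spec₂_tmul, map_one, one_smul]
  refine ⟨f', g', fun φ => ?_, hgfix, hg', by ring⟩
  have h := hinv' φ
  rw [hgfix φ] at h
  exact mul_right_cancel₀ hg' h

omit [IsDomain B] in
/-- A set of group-like elements lies in the group generated by finitely many of them. -/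
theorem exists_finset_closure (S : Set (GroupLike k A)) :
    ∃ T : Finset (GroupLike k A), (T : Set (GroupLike k A)) ⊆ S ∧
      S ⊆ Subgroup.closure (T : Set (GroupLike k A)) := by
  classical
  haveI : IsNoetherianRing A := Algebra.FiniteType.isNoetherianRing k A
  let ι := MonoidAlgebra.liftGroupLikeBialgHom (R := k) (A := A)
  have hι : Function.Injective ι := by
    have h : ∀ z, ι z = Finsupp.linearCombination k (GroupLike.val (R := k) (A := A)) z.coeff := by
      intro z
      induction z using MonoidAlgebra.induction_linear with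
      | zero => simp
      | add p q hp hq => simp [map_add, hp, hq]
      | single m c => simp [ι, MonoidAlgebra.liftGroupLikeBialgHom, Algebra.smul_def]
    intro p q hpq
    rw [h, h] at hpq
    exact MonoidAlgebra.coeff_injective (linearIndep_groupLikeVal hpq)
  let I : Finset (GroupLike k A) → Ideal A := fun T =>
    Ideal.span ((fun t : GroupLike k A => (t : A) - 1) '' (T : Set (GroupLike k A)))
  let F : Set (Ideal A) := {J | ∃ T : Finset (GroupLike k A), (T : Set (GroupLike k A)) ⊆ S ∧ I T = J}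
  obtain ⟨J, ⟨T, hTS, rfl⟩, hmax⟩ := set_has_maximal_iff_noetherian.2 ‹_› F ⟨_, ∅, by simp, rfl⟩
  refine ⟨T, hTS, fun g hg => ?_⟩
  have hle : I T ≤ I (insert g T) := Ideal.span_mono (Set.image_mono (by simp))
  have heq : I (insert g T) = I T := by
    by_contra hne
    exact hmax _ ⟨insert g T, by simp [Set.insert_subset_iff, hg, hTS], rfl⟩ (lt_of_le_of_ne hle (Ne.symm hne))
  have hgI : (g : A) - 1 ∈ I T := heq ▸ Ideal.subset_span ⟨g, by simp, rfl⟩
  -- descend to the group algebra
  let J₀ : Ideal (MonoidAlgebra k (GroupLike k A)) :=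
    Ideal.span ((fun t : GroupLike k A => (MonoidAlgebra.single t (1 : k) - 1 : MonoidAlgebra k (GroupLike k A))) ''
      (T : Set (GroupLike k A)))
  have hιs : ∀ t : GroupLike k A,
      ι (MonoidAlgebra.single t (1 : k) - 1 : MonoidAlgebra k (GroupLike k A)) = (t : A) - 1 := fun t => by
    rw [map_sub, map_one]
    simp [ι, MonoidAlgebra.liftGroupLikeBialgHom]
  have hmem : MonoidAlgebra.single g (1 : k) - 1 ∈ J₀ := by
    letI := (ι : MonoidAlgebra k (GroupLike k A) →+* A).toAlgebra
    haveI : Module.FaithfullyFlat (MonoidAlgebra k (GroupLike k A)) A :=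
      RingHom.faithfullyFlat_algebraMap_iff.1 (Groth.Agent.HopfFF.faithfullyFlat_of_injective ι hι)
    rw [← Ideal.comap_map_eq_self_of_faithfullyFlat (B := A) J₀, Ideal.mem_comap]
    show ι (MonoidAlgebra.single g (1 : k) - 1) ∈ J₀.map (ι : MonoidAlgebra k (GroupLike k A) →+* A)
    rw [hιs, Ideal.map_span, Set.image_image]
    simpa only [RingHom.coe_coe, hιs] using hgI
  let H := Subgroup.closure (T : Set (GroupLike k A))
  haveI : H.Normal := ⟨fun n hn g => by rwa [mul_comm g n, mul_assoc, mul_inv_cancel, mul_one]⟩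
  let π := MonoidAlgebra.mapDomainAlgHom k k (QuotientGroup.mk' H)
  have hπ : J₀ ≤ RingHom.ker π := by
    refine Ideal.span_le.2 ?_
    rintro _ ⟨t, ht, rfl⟩
    show π _ = 0
    have : (QuotientGroup.mk' H) t = 1 := (QuotientGroup.eq_one_iff t).2 (Subgroup.subset_closure ht)
    rw [map_sub, map_one, sub_eq_zero, MonoidAlgebra.one_def]
    simp only [π, MonoidAlgebra.mapDomainAlgHom_apply, MonoidAlgebra.mapDomain_single, this]
  have h0 : π (MonoidAlgebra.single g (1 : k) - 1) = 0 := hπ hmem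
  rw [map_sub, map_one, sub_eq_zero, MonoidAlgebra.one_def] at h0
  simp only [π, MonoidAlgebra.mapDomainAlgHom_apply, MonoidAlgebra.mapDomain_single] at h0
  exact (QuotientGroup.eq_one_iff g).1 (MonoidAlgebra.single_left_injective one_ne_zero h0)

/-- An invariant basic open subset on which invariant fractions are ratios of invariants. -/
theorem exists_stable_basicOpen [CharZero k] [UniqueFactorizationMonoid B]
    (hunits : ∀ u : Bˣ, ∃ c : k, algebraMap k B c = u) :
    ∃ h : B, h ≠ 0 ∧ (∀ φ : A →ₐ[k] k, ∃ (N : ℕ) (u : B), Comod.act k A B φ h * u = h ^ N) ∧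
      ∀ a b : B, b ≠ 0 → (∀ φ : A →ₐ[k] k, Comod.act k A B φ a * b = a * Comod.act k A B φ b) →
        ∃ (c d : B) (r t : ℕ), d ≠ 0 ∧
          (∀ φ : A →ₐ[k] k, Comod.act k A B φ c * h ^ r = c * (Comod.act k A B φ h) ^ r) ∧
          (∀ φ : A →ₐ[k] k, Comod.act k A B φ d * h ^ t = d * (Comod.act k A B φ h) ^ t) ∧
          a * d * h ^ r = b * c * h ^ t := by
  classical
  haveI : IsReduced A := Groth.Agent.GrpSchLib.HopfRed.isReduced_of_isAlgClosed (k := k)
  let SI : GroupLike k A → B → Prop := fun χ x =>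
    Comod.coact (k := k) (A := A) x = x ⊗ₜ[k] (χ : A)
  have hSI : ∀ χ χ' x y, SI χ x → SI χ' y → SI (χ * χ') (x * y) := by
    intro χ χ' x y hx hy
    show Comod.coact (k := k) (A := A) (x * y) = _
    rw [GLin.IsCoactAlg.coact_mul, hx, hy, Algebra.TensorProduct.tmul_mul_tmul, GroupLike.val_mul]
  have hSI1 : SI 1 1 := by
    show Comod.coact (k := k) (A := A) (1 : B) = _
    rw [GLin.IsCoactAlg.coact_one, Algebra.TensorProduct.one_def, GroupLike.val_one]
  have hact : ∀ χ x, SI χ x → ∀ φ : A →ₐ[k] k, Comod.act k A B φ x = φ (χ : A) • x := by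
    intro χ x hx φ
    rw [act_eq, GLin.coactAlgHom_apply, hx, spec₂_tmul]
  let S : Set (GroupLike k A) := {χ | ∃ x : B, x ≠ 0 ∧ SI χ x}
  obtain ⟨T, hTS, hST⟩ := exists_finset_closure S
  have hT' : ∀ t : T, ∃ x : B, x ≠ 0 ∧ SI (t : GroupLike k A) x := fun t => hTS t.2
  choose bt hbt hbtSI using hT'
  let h : B := ∏ t : T, bt t
  let χh : GroupLike k A := ∏ t : T, (t : GroupLike k A)
  have hhne : h ≠ 0 := Finset.prod_ne_zero_iff.2 fun t _ => hbt t
  have hprod : ∀ s : Finset T, SI (∏ t ∈ s, (t : GroupLike k A)) (∏ t ∈ s, bt t) := by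
    intro s
    induction s using Finset.induction_on with
    | empty => exact hSI1
    | insert t s hts ih =>
      rw [Finset.prod_insert hts, Finset.prod_insert hts]
      exact hSI _ _ _ _ (hbtSI t) ih
  have hh : SI χh h := hprod Finset.univ
  let P : GroupLike k A → Prop := fun χ => ∃ (N : ℕ) (q : B), q ≠ 0 ∧ SI (χ * χh ^ N) q
  have hP : ∀ χ ∈ Subgroup.closure (T : Set (GroupLike k A)), P χ ∧ P χ⁻¹ := by
    intro χ hχ
    induction hχ using Subgroup.closure_induction with
    | mem t ht =>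
      refine ⟨⟨0, bt ⟨t, ht⟩, hbt _, by simpa using hbtSI ⟨t, ht⟩⟩,
        ⟨1, ∏ s ∈ Finset.univ.erase (⟨t, ht⟩ : T), bt s,
          Finset.prod_ne_zero_iff.2 fun s _ => hbt s, ?_⟩⟩
      have e : t⁻¹ * χh ^ 1 = ∏ s ∈ Finset.univ.erase (⟨t, ht⟩ : T), (s : GroupLike k A) := by
        rw [pow_one, inv_mul_eq_iff_eq_mul]
        exact (Finset.mul_prod_erase Finset.univ (fun s : T => (s : GroupLike k A))
          (Finset.mem_univ (⟨t, ht⟩ : T))).symm
      rw [e]
      exact hprod _
    | one => exact ⟨⟨0, 1, one_ne_zero, by simpa using hSI1⟩, ⟨0, 1, one_ne_zero, by simpa using hSI1⟩⟩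
    | mul x y _ _ hx hy =>
      have hmul : ∀ x y, P x → P y → P (x * y) := by
        rintro x y ⟨N, q, hq, hqs⟩ ⟨N', q', hq', hqs'⟩
        refine ⟨N + N', q * q', mul_ne_zero hq hq', ?_⟩
        rw [pow_add, mul_mul_mul_comm]
        exact hSI _ _ _ _ hqs hqs'
      exact ⟨hmul _ _ hx.1 hy.1, by rw [mul_inv]; exact hmul _ _ hx.2 hy.2⟩
    | inv x _ hx => exact ⟨hx.2, by rw [inv_inv]; exact hx.1⟩
  refine ⟨h, hhne, fun φ => ⟨1, algebraMap k B (φ (χh : A))⁻¹, ?_⟩, ?_⟩
  · have hφ : φ (χh : A) ≠ 0 := ((χh.isGroupLikeElem_val.isUnit).map φ).ne_zero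
    rw [hact _ _ hh, pow_one, Algebra.smul_def, mul_comm, ← mul_assoc, ← map_mul, inv_mul_cancel₀ hφ,
      map_one, one_mul]
  intro a b hb hinv
  obtain ⟨a', b', e, hrel, rfl, rfl⟩ := UniqueFactorizationMonoid.exists_reduced_factors' a b hb
  have he : e ≠ 0 := left_ne_zero_of_mul hb
  have hb' : b' ≠ 0 := right_ne_zero_of_mul hb
  have hinv' : ∀ φ : A →ₐ[k] k, Comod.act k A B φ a' * b' = a' * Comod.act k A B φ b' := by
    intro φ
    have h := hinv φ
    rw [act_mul, act_mul] at h
    refine mul_left_cancel₀ (mul_ne_zero (act_ne_zero φ he) he) ?_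
    linear_combination h
  obtain ⟨l, hl⟩ := ComodLib.exists_dual_ne (k := k) hb'
  let χ₀ : A := (l b')⁻¹ • ComodLib.sliceL l (Comod.coact (k := k) (A := A) b')
  have hbχ : Comod.coact (k := k) (A := A) b' = b' ⊗ₜ[k] χ₀ := by
    refine coact_eq fun φ => ?_
    have hdvd := fun φ => dvd_act hrel φ (hinv' φ)
    obtain ⟨w, hw⟩ := hdvd φ
    obtain ⟨c, hc⟩ := hunits (isUnit_of_forall_dvd hb' hdvd φ hw).unit
    rw [IsUnit.unit_spec] at hc
    have hsc : Comod.act k A B φ b' = c • b' := by rw [hw, ← hc, Algebra.smul_def, mul_comm]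
    rw [hsc]
    congr 1
    have h2 : φ (ComodLib.sliceL l (Comod.coact (k := k) (A := A) b')) = l (Comod.act k A B φ b') :=
      (ComodLib.apply_slice l φ.toLinearMap _).symm
    show c = φ ((l b')⁻¹ • _)
    rw [map_smul, h2, hsc, map_smul, smul_eq_mul, smul_eq_mul, mul_comm c, ← mul_assoc,
      inv_mul_cancel₀ hl, one_mul]
  let χ : GroupLike k A := ⟨χ₀, isGroupLike_weight hb' hbχ⟩
  have hbSI : SI χ b' := hbχ
  have haSI : ∀ φ : A →ₐ[k] k, Comod.act k A B φ a' = φ (χ : A) • a' := fun φ => by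
    have := hinv' φ
    rw [hact _ _ hbSI, mul_smul_comm, ← smul_mul_assoc] at this
    exact mul_right_cancel₀ hb' this
  obtain ⟨N, q, hq, hqs⟩ := (hP χ (hST ⟨b', hb', hbSI⟩)).2
  have hweight : ∀ φ : A →ₐ[k] k, φ (χ : A) * φ ((χ⁻¹ * χh ^ N : GroupLike k A) : A) = φ (χh : A) ^ N := by
    intro φ
    rw [← map_mul, ← map_pow, ← GroupLike.val_mul, mul_inv_cancel_left, GroupLike.val_pow]
  refine ⟨a' * q, b' * q, N, N, mul_ne_zero hb' hq, fun φ => ?_, fun φ => ?_, by ring⟩
  · rw [act_mul, haSI, hact _ _ hqs, hact _ _ hh, smul_pow, smul_mul_smul_comm, hweight, mul_smul_comm,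
      smul_mul_assoc]
  · rw [act_mul, hact _ _ hbSI, hact _ _ hqs, hact _ _ hh, smul_pow, smul_mul_smul_comm, hweight,
      mul_smul_comm, smul_mul_assoc]

end GLinFinLib.Fraction

end
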