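import Mathlib
import Groth.Agent.GLinFinLib.Orbits

/-! # Openness of the stable locus -/

set_option autoImplicit false

noncomputable section

open TensorProduct HopfRep

namespace GLinFinLib

universe u

section QF

variable {R S : Type u} [CommRing R] [CommRing S] [Algebra R S] [Algebra.FiniteType R S]

theorem exists_notMem_forall_quasiFiniteAt (p : Ideal S) [p.IsPrime] [Algebra.QuasiFiniteAt R p] :
    ∃ r : S, r ∉ p ∧ ∀ q : Ideal S, ∀ _ : q.IsPrime, r ∉ q → Algebra.QuasiFiniteAt R q := by
  obtain ⟨S', hS', r, hrp, H⟩ := Algebra.QuasiFiniteAt.exists_fg_and_exists_notMem_and_awayMap_bijective (R := R) p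
  refine ⟨r.1, hrp, fun q _ hrq => ?_⟩
  have : Module.Finite R S' := ⟨(Submodule.fg_top _).mpr hS'⟩
  have : Algebra.QuasiFinite R (Localization.Away r) := .trans _ S' _
  have : Algebra.QuasiFinite R (Localization.Away r.1) :=
    .of_surjective_algHom (Localization.awayMapₐ S'.val r) H.2
  let f : Localization.Away r.1 →ₐ[S] Localization.AtPrime q :=
    IsLocalization.Away.liftAlgHom r.1 (f := Algebra.ofId _ _) <|
      IsLocalization.map_units (M := q.primeCompl) (Localization.AtPrime q) ⟨r, hrq⟩
  refine .of_forall_exists_mul_mem_range (f.restrictScalars R) fun x ↦ ?_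
  obtain ⟨x, ⟨s, hs⟩, rfl⟩ := IsLocalization.exists_mk'_eq q.primeCompl x
  exact ⟨algebraMap _ _ s, by simpa using IsLocalization.map_units _ ⟨s, hs⟩,
    algebraMap _ _ x, by simp⟩

theorem isClosed_not_quasiFiniteAt :
    IsClosed {q : PrimeSpectrum S | ¬ Algebra.QuasiFiniteAt R q.asIdeal} := by
  rw [← isOpen_compl_iff, isOpen_iff_forall_mem_open]
  intro q hq
  have : Algebra.QuasiFiniteAt R q.asIdeal := not_not.1 hq
  obtain ⟨r, hr, hall⟩ := exists_notMem_forall_quasiFiniteAt (R := R) q.asIdeal
  exact ⟨PrimeSpectrum.basicOpen r, fun q' hq' h => h (hall _ q'.2 hq'), (PrimeSpectrum.basicOpen r).isOpen, hr⟩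

variable {k : Type u} [Field k] [IsAlgClosed k] [Algebra k R] [Algebra k S] [IsScalarTower k R S]
  [Algebra.FiniteType k R] [Algebra.FiniteType k S]

theorem quasiFiniteAt_of_finite_points (w : R →ₐ[k] k)
    (hfin : {g : S →ₐ[k] k | g.comp (IsScalarTower.toAlgHom k R S) = w}.Finite)
    (q : PrimeSpectrum S) (hq : (PrimeSpectrum.comap (algebraMap R S) q).asIdeal = RingHom.ker w) :
    Algebra.QuasiFiniteAt R q.asIdeal := by
  haveI : IsJacobsonRing S := isJacobsonRing_of_finiteType (A := k)
  have hwmax : (RingHom.ker w).IsMaximal :=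
    RingHom.ker_isMaximal_of_surjective _ fun c => ⟨algebraMap k R c, by simp⟩
  let m : PrimeSpectrum R := PrimeSpectrum.comap (algebraMap R S) q
  have hmaxfin : {N : Ideal S | N.IsMaximal ∧ N.comap (algebraMap R S) = RingHom.ker w}.Finite := by
    refine (hfin.image fun g' => RingHom.ker g').subset ?_
    rintro N ⟨hN, hNm⟩
    obtain ⟨g, hg⟩ := exists_point_of_le k hN.ne_top
    have hgN : RingHom.ker g = N := (hN.eq_of_le (RingHom.ker_ne_top _) hg).symm
    refine ⟨g, AlgHom.ext fun a => ?_, hgN⟩
    have hmem : a - algebraMap k R (w a) ∈ RingHom.ker w := by simp [RingHom.mem_ker]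
    rw [← hNm, Ideal.mem_comap, ← hgN, RingHom.mem_ker, map_sub, map_sub,
      ← IsScalarTower.algebraMap_apply k R S, AlgHom.commutes, sub_eq_zero] at hmem
    simpa using hmem
  have hall : ∀ r ∈ PrimeSpectrum.comap (algebraMap R S) ⁻¹' {m}, r.asIdeal.IsMaximal := by
    intro r hr
    have hrm : r.asIdeal.comap (algebraMap R S) = RingHom.ker w :=
      (congrArg PrimeSpectrum.asIdeal hr).trans hq
    have hfinN : {N : Ideal S | r.asIdeal ≤ N ∧ N.IsMaximal}.Finite := by
      refine hmaxfin.subset ?_
      rintro N ⟨hrN, hN⟩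
      exact ⟨hN, (hwmax.eq_of_le (Ideal.comap_ne_top _ hN.ne_top) (hrm ▸ Ideal.comap_mono hrN)).symm⟩
    have hjac : r.asIdeal.jacobson = r.asIdeal := by rw [← Ideal.radical_eq_jacobson, r.2.radical]
    have hinf : hfinN.toFinset.inf id ≤ r.asIdeal := by
      conv_rhs => rw [← hjac]
      exact le_sInf fun N hN => Finset.inf_le (hfinN.mem_toFinset.2 hN)
    obtain ⟨N, hN, hNr⟩ := (Ideal.IsPrime.inf_le' r.2).1 hinf
    obtain ⟨hrN, hNmax⟩ := hfinN.mem_toFinset.1 hN
    exact (le_antisymm hrN hNr).symm ▸ hNmax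
  have hf : (PrimeSpectrum.comap (algebraMap R S) ⁻¹' {m}).Finite := by
    refine (hmaxfin.preimage (f := PrimeSpectrum.asIdeal) (fun _ _ _ _ h => PrimeSpectrum.ext h)).subset ?_
    intro r hr
    exact ⟨hall r hr, (congrArg PrimeSpectrum.asIdeal hr).trans hq⟩
  refine Algebra.QuasiFiniteAt.of_isOpen_singleton_fiber q ?_
  haveI : Finite ↥(PrimeSpectrum.comap (algebraMap R S) ⁻¹' {m}) := hf.to_subtype
  haveI : T1Space ↥(PrimeSpectrum.comap (algebraMap R S) ⁻¹' {m}) := ⟨fun r => by
    have hc : IsClosed ({(r : PrimeSpectrum S)} : Set (PrimeSpectrum S)) :=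
      (PrimeSpectrum.isClosed_singleton_iff_isMaximal _).2 (hall _ r.2)
    have := hc.preimage continuous_subtype_val
      (f := fun s : ↥(PrimeSpectrum.comap (algebraMap R S) ⁻¹' {m}) => (s : PrimeSpectrum S))
    convert this using 1
    ext s
    simp [Subtype.ext_iff]⟩
  exact isOpen_discrete _

end QF

variable {k : Type u} [Field k] {A : Type u} [CommRing A] [HopfAlgebra k A]
  {R : Type u} [CommRing R] [Algebra k R] [Comod k A R] [GLin.IsCoactAlg k A R]

theorem orbitHom_eq_translate (g : A →ₐ[k] k) : GLin.orbitHom k A (R := A) g = translate g := by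
  refine AlgHom.ext fun a => ?_
  rw [orbitHom_apply]
  simp only [translate, AlgHom.comp_apply, Bialgebra.comulAlgHom_apply]
  generalize hz : CoalgebraStruct.comul (R := k) a = z
  clear hz
  induction z with
  | zero => simp
  | tmul p q => simp
  | add p q hp hq => simp only [map_add, hp, hq]

theorem translate_counit : translate (Bialgebra.counitAlgHom k A) = AlgHom.id k A := by
  refine AlgHom.ext fun a => ?_
  show Algebra.TensorProduct.lid k A (Algebra.TensorProduct.map (Bialgebra.counitAlgHom k A) (AlgHom.id k A)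
    (CoalgebraStruct.comul (R := k) a)) = a
  have h : ∀ z : A ⊗[k] A, Algebra.TensorProduct.lid k A (Algebra.TensorProduct.map (Bialgebra.counitAlgHom k A) (AlgHom.id k A) z) =
      TensorProduct.lid k A ((CoalgebraStruct.counit (R := k)).rTensor A z) := fun z => by
    induction z with
    | zero => simp
    | tmul p q => simp
    | add p q hp hq => simp only [map_add, hp, hq]
  rw [h, Coalgebra.rTensor_counit_comul]
  simp

theorem actPt_counit_right (g : A →ₐ[k] k) : GLin.actPt k g (R := A) (Bialgebra.counitAlgHom k A) = g := by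
  show g.comp (GLin.orbitHom k A (Bialgebra.counitAlgHom k A)) = g
  rw [orbitHom_eq_translate, translate_counit, AlgHom.comp_id]

theorem translate_inv_comp (g : A →ₐ[k] k) :
    (translate (g.comp (HopfAlgebra.antipodeAlgHom k A))).comp (translate g) = AlgHom.id k A := by
  have h := actPt_inv (R := A) g (Bialgebra.counitAlgHom k A)
  rw [actPt_counit_right] at h
  have h2 := orbitHom_actPt (R := A) (g.comp (HopfAlgebra.antipodeAlgHom k A)) g
  rw [h, orbitHom_eq_translate, orbitHom_eq_translate, translate_counit] at h2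
  exact h2.symm

theorem comp_translate_inv (g : A →ₐ[k] k) :
    g.comp (translate (g.comp (HopfAlgebra.antipodeAlgHom k A))) = Bialgebra.counitAlgHom k A := by
  rw [← orbitHom_eq_translate]
  refine AlgHom.ext fun a => ?_
  have h3 := congrArg g (HopfAlgebra.mul_antipode_rTensor_comul_apply (R := k) a)
  rw [AlgHom.commutes, Algebra.algebraMap_self_apply] at h3
  show g (GLin.orbitHom k A (g.comp (HopfAlgebra.antipodeAlgHom k A)) a) = CoalgebraStruct.counit (R := k) a
  rw [← h3, orbitHom_apply]
  show g (TensorProduct.lid k A ((g.comp (HopfAlgebra.antipodeAlgHom k A)).toLinearMap.rTensor A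
    (CoalgebraStruct.comul (R := k) a))) = _
  generalize CoalgebraStruct.comul (R := k) a = z
  induction z with
  | zero => simp
  | tmul p q => simp
  | add p q hp hq => simp only [map_add, hp, hq]

variable (k A R) in
/-- The equations of the stabiliser scheme. -/
def stabRel : Ideal (R ⊗[k] A) :=
  Ideal.span (Set.range fun a : R => Comod.coact (k := k) (A := A) a - a ⊗ₜ[k] (1 : A))

variable (k A R) in
/-- The coordinate ring of the stabiliser scheme. -/
abbrev StabRing := (R ⊗[k] A) ⧸ stabRel k A R

theorem lift_coact (z : R →ₐ[k] k) (g : A →ₐ[k] k) (a : R) :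
    Algebra.TensorProduct.lift z g (fun _ _ => Commute.all _ _) (Comod.coact (k := k) (A := A) a) =
      GLin.actPt k g z a := by
  show _ = g (GLin.orbitHom k A z a)
  rw [orbitHom_apply]
  generalize Comod.coact (k := k) (A := A) a = t
  induction t with
  | zero => simp
  | tmul p q => simp
  | add p q hp hq => simp only [map_add, hp, hq]

/-- A point of the stabiliser scheme. -/
def stabPt (z : R →ₐ[k] k) (g : A →ₐ[k] k) (h : GLin.actPt k g z = z) : StabRing k A R →ₐ[k] k :=
  Ideal.Quotient.liftₐ _ (Algebra.TensorProduct.lift z g (fun _ _ => Commute.all _ _)) (by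
    intro t ht
    refine Submodule.span_induction ?_ (map_zero _) (fun a b _ _ ha hb => by rw [map_add, ha, hb, add_zero])
      (fun c a _ ha => by rw [smul_eq_mul, map_mul, ha, mul_zero]) ht
    rintro _ ⟨a, rfl⟩
    rw [map_sub, lift_coact, h, Algebra.TensorProduct.lift_tmul, map_one, mul_one, sub_self])

theorem stabPt_mk (z : R →ₐ[k] k) (g : A →ₐ[k] k) (h : GLin.actPt k g z = z) (t : R ⊗[k] A) :
    stabPt z g h (Ideal.Quotient.mk _ t) = Algebra.TensorProduct.lift z g (fun _ _ => Commute.all _ _) t := rfl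

theorem actPt_counit (z : R →ₐ[k] k) : GLin.actPt k (Bialgebra.counitAlgHom k A) z = z :=
  AlgHom.ext fun a => counit_orbitHom z a

variable (k A R) in
/-- The identity section of the stabiliser scheme. -/
def stabSection : StabRing k A R →ₐ[k] R :=
  Ideal.Quotient.liftₐ _ ((Algebra.TensorProduct.rid k k R).toAlgHom.comp
      (Algebra.TensorProduct.map (AlgHom.id k R) (Bialgebra.counitAlgHom k A))) (by
    intro t ht
    refine Submodule.span_induction ?_ (map_zero _) (fun a b _ _ ha hb => by rw [map_add, ha, hb, add_zero])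
      (fun c a _ ha => by rw [smul_eq_mul, map_mul, ha, mul_zero]) ht
    rintro _ ⟨a, rfl⟩
    rw [map_sub, sub_eq_zero]
    have e : ∀ z : R ⊗[k] A, (Algebra.TensorProduct.rid k k R).toAlgHom.comp
        (Algebra.TensorProduct.map (AlgHom.id k R) (Bialgebra.counitAlgHom k A)) z =
        ComodLib.slice (CoalgebraStruct.counit (R := k)) z := fun z => by
      induction z with
      | zero => simp
      | tmul p q => simp
      | add p q hp hq => simp only [map_add, hp, hq]
    rw [e, e, ComodLib.slice_counit, ComodLib.slice_tmul, Bialgebra.counit_one, one_smul])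

theorem comp_stabSection (z : R →ₐ[k] k) :
    z.comp (stabSection k A R) = stabPt z (Bialgebra.counitAlgHom k A) (actPt_counit z) := by
  refine AlgHom.ext fun s => ?_
  obtain ⟨t, rfl⟩ := Ideal.Quotient.mk_surjective s
  rw [stabPt_mk]
  show z (((Algebra.TensorProduct.rid k k R).toAlgHom.comp
      (Algebra.TensorProduct.map (AlgHom.id k R) (Bialgebra.counitAlgHom k A))) t) = _
  induction t with
  | zero => simp
  | tmul p q => simp [mul_comm]
  | add p q hp hq => simp only [map_add, hp, hq]

variable [IsAlgClosed k] [Algebra.FiniteType k A] [Algebra.FiniteType k R]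

instance : Algebra.FiniteType k (R ⊗[k] A) := Algebra.FiniteType.trans (S := R) inferInstance inferInstance

instance : Algebra.FiniteType k (StabRing k A R) :=
  Algebra.FiniteType.of_surjective (Ideal.Quotient.mkₐ k _) Ideal.Quotient.mk_surjective

instance : Algebra.FiniteType R (StabRing k A R) :=
  Algebra.FiniteType.of_restrictScalars_finiteType k R _

theorem finite_stab_iff_quasiFiniteAt (z : R →ₐ[k] k) :
    {g : A →ₐ[k] k | GLin.actPt k g z = z}.Finite ↔
      ∀ q : PrimeSpectrum (StabRing k A R),
        q.asIdeal = RingHom.ker (stabPt z (Bialgebra.counitAlgHom k A) (actPt_counit z)) →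
          Algebra.QuasiFiniteAt R q.asIdeal := by
  classical
  constructor
  · intro hfin q hq
    refine quasiFiniteAt_of_finite_points z ?_ q ?_
    · let inc : A →ₐ[k] StabRing k A R :=
        (Ideal.Quotient.mkₐ k _).comp Algebra.TensorProduct.includeRight
      refine Set.Finite.of_finite_image (f := fun φ => φ.comp inc) (hfin.subset ?_) ?_
      · rintro _ ⟨φ, hφ, rfl⟩
        refine AlgHom.ext fun a => ?_
        have hl : φ.comp (Ideal.Quotient.mkₐ k _) =
            Algebra.TensorProduct.lift z (φ.comp inc) (fun _ _ => Commute.all _ _) := by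
          refine Algebra.TensorProduct.ext (AlgHom.ext fun r => ?_) (AlgHom.ext fun b => ?_)
          · have := AlgHom.congr_fun hφ r
            simp only [AlgHom.comp_apply, AlgHom.coe_restrictScalars', Algebra.TensorProduct.includeLeft_apply, Algebra.TensorProduct.lift_tmul, map_one, mul_one]
            exact this
          · simp [inc]
        show GLin.actPt k (φ.comp inc) z a = z a
        rw [← lift_coact z (φ.comp inc) a, ← hl]
        have h0 : Ideal.Quotient.mk (stabRel k A R) (Comod.coact (k := k) (A := A) a) =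
            Ideal.Quotient.mk (stabRel k A R) (a ⊗ₜ[k] (1 : A)) :=
          Ideal.Quotient.eq.2 (Ideal.subset_span ⟨a, rfl⟩)
        show φ (Ideal.Quotient.mk _ _) = _
        rw [h0]
        exact AlgHom.congr_fun hφ a
      · intro φ hφ φ' hφ' he
        refine AlgHom.ext fun s => ?_
        obtain ⟨t, rfl⟩ := Ideal.Quotient.mk_surjective s
        induction t with
        | zero => simp
        | add p q hp hq => simp only [map_add, hp, hq]
        | tmul r b =>
          have e : Ideal.Quotient.mk (stabRel k A R) (r ⊗ₜ[k] b) =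
              algebraMap R (StabRing k A R) r * inc b := by
            show _ = Ideal.Quotient.mk (stabRel k A R) (r ⊗ₜ[k] (1 : A)) * Ideal.Quotient.mk (stabRel k A R) ((1 : R) ⊗ₜ[k] b)
            rw [← map_mul, Algebra.TensorProduct.tmul_mul_tmul, mul_one, one_mul]
          rw [e, map_mul, map_mul, show φ (algebraMap R (StabRing k A R) r) = z r from AlgHom.congr_fun hφ r,
            show φ' (algebraMap R (StabRing k A R) r) = z r from AlgHom.congr_fun hφ' r]
          congr 1
          exact AlgHom.congr_fun he b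
    · show q.asIdeal.comap (algebraMap R (StabRing k A R)) = RingHom.ker z
      rw [hq]
      ext r
      rw [Ideal.mem_comap, RingHom.mem_ker, RingHom.mem_ker]
      show stabPt z _ _ (Ideal.Quotient.mk _ (r ⊗ₜ[k] (1 : A))) = 0 ↔ _
      rw [stabPt_mk, Algebra.TensorProduct.lift_tmul, map_one, mul_one]
  · intro hqf
    set q : PrimeSpectrum (StabRing k A R) :=
      ⟨RingHom.ker (stabPt z (Bialgebra.counitAlgHom k A) (actPt_counit z)), RingHom.ker_isPrime _⟩
    haveI := hqf q rfl
    obtain ⟨U, hU, hUq⟩ := isOpen_induced_iff.1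
      ((Algebra.quasiFiniteAt_iff_isOpen_singleton_fiber (R := R) q).1 inferInstance)
    have hqU : q ∈ U := by
      have : (⟨q, rfl⟩ : ↥(PrimeSpectrum.comap (algebraMap R (StabRing k A R)) ⁻¹' {PrimeSpectrum.comap (algebraMap R (StabRing k A R)) q})) ∈
          Subtype.val ⁻¹' U := by rw [hUq]; rfl
      exact this
    obtain ⟨_, ⟨s, rfl⟩, hqs, hsU⟩ := PrimeSpectrum.isTopologicalBasis_basic_opens.exists_subset_of_mem_open hqU hU
    obtain ⟨t, rfl⟩ := Ideal.Quotient.mk_surjective s
    have hiso : ∀ (g : A →ₐ[k] k) (h : GLin.actPt k g z = z), stabPt z g h (Ideal.Quotient.mk _ t) ≠ 0 →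
        g = Bialgebra.counitAlgHom k A := by
      intro g h hne
      set q' : PrimeSpectrum (StabRing k A R) := ⟨RingHom.ker (stabPt z g h), RingHom.ker_isPrime _⟩
      have hmem : q' ∈ U := hsU hne
      have hcm : ∀ (g : A →ₐ[k] k) (h : GLin.actPt k g z = z),
          (RingHom.ker (stabPt z g h)).comap (algebraMap R (StabRing k A R)) = RingHom.ker z := by
        intro g h
        ext r
        rw [Ideal.mem_comap, RingHom.mem_ker, RingHom.mem_ker]
        show stabPt z g h (Ideal.Quotient.mk _ (r ⊗ₜ[k] (1 : A))) = 0 ↔ _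
        rw [stabPt_mk, Algebra.TensorProduct.lift_tmul, map_one, mul_one]
      have hfib : PrimeSpectrum.comap (algebraMap R (StabRing k A R)) q' =
          PrimeSpectrum.comap (algebraMap R (StabRing k A R)) q :=
        PrimeSpectrum.ext ((hcm g h).trans (hcm _ (actPt_counit z)).symm)
      have : (⟨q', hfib⟩ : ↥(PrimeSpectrum.comap (algebraMap R (StabRing k A R)) ⁻¹' {PrimeSpectrum.comap (algebraMap R (StabRing k A R)) q})) ∈
          Subtype.val ⁻¹' U := hmem
      rw [hUq, Set.mem_singleton_iff] at this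
      have heq : RingHom.ker (stabPt z g h) = RingHom.ker (stabPt z (Bialgebra.counitAlgHom k A) (actPt_counit z)) :=
        congrArg (fun p => (p : ↥(PrimeSpectrum.comap (algebraMap R (StabRing k A R)) ⁻¹' {PrimeSpectrum.comap (algebraMap R (StabRing k A R)) q})).1.asIdeal) this
      refine AlgHom.ext fun b => ?_
      have hb : Ideal.Quotient.mk (stabRel k A R) ((1 : R) ⊗ₜ[k] (b - algebraMap k A (g b))) ∈
          RingHom.ker (stabPt z g h) := by
        rw [RingHom.mem_ker, stabPt_mk, Algebra.TensorProduct.lift_tmul, map_sub, AlgHom.commutes]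
        simp
      rw [heq, RingHom.mem_ker, stabPt_mk, Algebra.TensorProduct.lift_tmul, map_sub, AlgHom.commutes, map_one,
        one_mul, sub_eq_zero, Algebra.algebraMap_self_apply] at hb
      exact hb.symm
    let a : A := TensorProduct.lid k A (z.toLinearMap.rTensor A t)
    have hga : ∀ (g : A →ₐ[k] k) (h : GLin.actPt k g z = z), stabPt z g h (Ideal.Quotient.mk _ t) = g a := by
      intro g h
      rw [stabPt_mk]
      simp only [a]
      generalize t = t'
      induction t' with
      | zero => simp
      | tmul p q => simp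
      | add p q hp hq => simp only [map_add, hp, hq]
    have hεa : Bialgebra.counitAlgHom k A a ≠ 0 := by
      rw [← hga _ (actPt_counit z)]; exact hqs
    let rels : Set A := Set.range fun r : R => GLin.orbitHom k A z r - algebraMap k A (z r)
    let tr : (A →ₐ[k] k) → A := fun h => translate (h.comp (HopfAlgebra.antipodeAlgHom k A)) a
    have htop : Ideal.span (rels ∪ tr '' {h | GLin.actPt k h z = z}) = ⊤ := by
      by_contra hne
      obtain ⟨g, hg⟩ := exists_point_of_le k hne
      have hgz : GLin.actPt k g z = z := AlgHom.ext fun r => by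
        have := hg (Ideal.subset_span (Or.inl ⟨r, rfl⟩))
        rw [RingHom.mem_ker, map_sub, AlgHom.commutes, sub_eq_zero] at this
        exact this
      have h2 : g (tr g) = 0 := hg (Ideal.subset_span (Or.inr ⟨g, hgz, rfl⟩))
      exact hεa ((AlgHom.congr_fun (comp_translate_inv g) a).symm.trans h2)
    obtain ⟨T, hT, hT1⟩ := Submodule.mem_span_finite_of_mem_span
      (show (1 : A) ∈ Submodule.span A (rels ∪ tr '' {h | GLin.actPt k h z = z}) from (Ideal.eq_top_iff_one _).1 htop)
    have hsel : ∀ e ∈ T, ∃ h : A →ₐ[k] k, GLin.actPt k h z = z ∧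
        ∀ g : A →ₐ[k] k, GLin.actPt k g z = z → g e ≠ 0 → g = h := by
      intro e he
      rcases hT he with ⟨r, rfl⟩ | ⟨h, hh, rfl⟩
      · refine ⟨_, actPt_counit z, fun g hg hne => absurd ?_ hne⟩
        rw [map_sub, AlgHom.commutes, sub_eq_zero]
        exact AlgHom.congr_fun hg r
      · refine ⟨h, hh, fun g hg hne => ?_⟩
        let g' := g.comp (translate (h.comp (HopfAlgebra.antipodeAlgHom k A)))
        have hinv : GLin.actPt k (h.comp (HopfAlgebra.antipodeAlgHom k A)) z = z := by
          have h5 := actPt_inv (R := R) h z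
          rwa [show GLin.actPt k h z = z from hh] at h5
        have hg' : GLin.actPt k g' z = z := by
          show GLin.actPt k (g.comp (translate (h.comp (HopfAlgebra.antipodeAlgHom k A)))) z = z
          rw [← actPt_actPt, hinv, hg]
        have : g' = Bialgebra.counitAlgHom k A := hiso g' hg' (by rw [hga]; exact hne)
        calc g = g'.comp (translate h) := by rw [AlgHom.comp_assoc, translate_inv_comp, AlgHom.comp_id]
          _ = h := by
            rw [this, ← orbitHom_eq_translate]
            exact actPt_counit (R := A) h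
    choose hsel' hsel'' hsel''' using hsel
    refine ((T.attach.image fun e => hsel' e.1 e.2).finite_toSet).subset fun g hg => ?_
    obtain ⟨e, he, hne⟩ : ∃ e ∈ T, g e ≠ 0 := by
      by_contra hcon
      push Not at hcon
      have : Submodule.span A (T : Set A) ≤ RingHom.ker g := Submodule.span_le.2 hcon
      exact one_ne_zero ((map_one g).symm.trans (this hT1))
    exact Finset.mem_coe.2 (Finset.mem_image.2 ⟨⟨e, he⟩, Finset.mem_attach _ _, (hsel''' e he g hg hne).symm⟩)

variable (k A R) in
theorem exists_ideal_infinite_stab :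
    ∃ I : Ideal R, IsSubcomod (k := k) (A := A) (I.restrictScalars k) ∧
      ∀ z : R →ₐ[k] k, I ≤ RingHom.ker z ↔ ¬ {g : A →ₐ[k] k | GLin.actPt k g z = z}.Finite := by
  haveI : IsNoetherianRing A := Algebra.FiniteType.isNoetherianRing k A
  let Z : Set (R →ₐ[k] k) := {z | ¬ {g : A →ₐ[k] k | GLin.actPt k g z = z}.Finite}
  let I : Ideal R := ⨅ z : Z, RingHom.ker (GLin.orbitHom k A (z : R →ₐ[k] k))
  obtain ⟨J, hJ⟩ := (PrimeSpectrum.isClosed_iff_zeroLocus_ideal _).1
    (isClosed_not_quasiFiniteAt (R := R) (S := StabRing k A R))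
  have hI0 : ∀ z : R →ₐ[k] k, J.map (stabSection k A R) ≤ RingHom.ker z ↔ z ∈ Z := by
    intro z
    rw [Ideal.map_le_iff_le_comap]
    show J ≤ Ideal.comap _ (RingHom.ker z) ↔ ¬ _
    rw [finite_stab_iff_quasiFiniteAt z]
    have e : Ideal.comap (stabSection k A R) (RingHom.ker z) =
        RingHom.ker (stabPt z (Bialgebra.counitAlgHom k A) (actPt_counit z)) := by
      rw [← comp_stabSection z]; rfl
    rw [e]
    constructor
    · intro hle hall
      have hmem : (⟨_, RingHom.ker_isPrime _⟩ : PrimeSpectrum (StabRing k A R)) ∈ PrimeSpectrum.zeroLocus (J : Set (StabRing k A R)) := hle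
      rw [← hJ] at hmem
      exact hmem (hall ⟨_, RingHom.ker_isPrime _⟩ rfl)
    · intro hn
      push Not at hn
      obtain ⟨q, hq, hqn⟩ := hn
      have hmem : q ∈ PrimeSpectrum.zeroLocus (J : Set (StabRing k A R)) := by rw [← hJ]; exact hqn
      exact hq ▸ hmem
  refine ⟨I, ?_, fun z => ⟨fun hz => ?_, fun hz => ?_⟩⟩
  · have hR : I.restrictScalars k = ⨅ z : Z, (RingHom.ker (GLin.orbitHom k A (z : R →ₐ[k] k))).restrictScalars k :=
      Submodule.restrictScalars_iInf _ _
    rw [hR, ComodLib.isSubcomod_iff]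
    intro f v hv
    rw [Submodule.mem_iInf] at hv ⊢
    exact fun i => (ComodLib.isSubcomod_iff _).1 (isSubcomod_ker_orbitHom (i : R →ₐ[k] k)) f v (hv i)
  · refine (hI0 z).1 fun f hf => ?_
    obtain ⟨N, hN⟩ := IsNoetherianRing.isNilpotent_nilradical A
    have hpow : f ^ N ∈ I := Submodule.mem_iInf _ |>.2 fun w => by
      have hnil : GLin.orbitHom k A (w : R →ₐ[k] k) f ∈ nilradical A := by
        refine mem_nilradical.2 (isNilpotent_of_forall_point (k := k) fun g => ?_)
        have hgw : GLin.actPt k g (w : R →ₐ[k] k) ∈ Z := by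
          intro hfin
          apply w.2
          refine Set.Finite.of_finite_image
            (f := fun g' : A →ₐ[k] k => g'.comp (translate (g.comp (HopfAlgebra.antipodeAlgHom k A))))
            ((finite_fibre_of_finite_stab hfin (w : R →ₐ[k] k)).subset ?_) ?_
          · rintro _ ⟨g', hg', rfl⟩
            show GLin.actPt k (g'.comp (translate (g.comp (HopfAlgebra.antipodeAlgHom k A))))
              (GLin.actPt k g (w : R →ₐ[k] k)) = w
            rw [← actPt_actPt, actPt_inv]
            exact hg'
          · intro p _ p' _ he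
            have := congrArg (fun φ : A →ₐ[k] k => φ.comp (translate g)) he
            simpa only [AlgHom.comp_assoc, translate_inv_comp, AlgHom.comp_id] using this
        exact ((hI0 _).2 hgw hf : GLin.actPt k g (w : R →ₐ[k] k) f = 0)
      rw [RingHom.mem_ker, map_pow]
      have := Ideal.pow_mem_pow hnil N
      rwa [hN] at this
    have := hz hpow
    rw [RingHom.mem_ker, map_pow] at this
    rw [RingHom.mem_ker]
    exact pow_eq_zero_iff'.1 this |>.1
  · exact (iInf_le _ (⟨z, hz⟩ : Z)).trans (inOrbitClosure_refl z)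

theorem exists_point_over_vanishing (hG : IsLinearlyReductive k A) (I : Ideal R)
    (hI : IsSubcomod (k := k) (A := A) (I.restrictScalars k)) (x : R →ₐ[k] k)
    (h : ∀ f ∈ GLin.invariants k A R, f ∈ I → x f = 0) :
    ∃ z : R →ₐ[k] k, I ≤ RingHom.ker z ∧ ∀ f ∈ GLin.invariants k A R, z f = x f := by
  obtain ⟨α, hα, h1⟩ := ComodLib.exists_invariant_of_isLinearlyReductive hG
  let J : Ideal R := I ⊔ Ideal.span {f : R | f ∈ GLin.invariants k A R ∧ x f = 0}
  have key : ∀ p ∈ Ideal.span {f : R | f ∈ GLin.invariants k A R ∧ x f = 0}, ∀ r : R,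
      x (ComodLib.reynolds R α (r * p)) = 0 := by
    intro p hp
    induction hp using Submodule.span_induction with
    | mem p hp => intro r; rw [reynolds_mul_invariant α r hp.1, map_mul, hp.2, mul_zero]
    | zero => intro r; simp
    | add p p' _ _ hp hp' => intro r; rw [mul_add, map_add, map_add, hp r, hp' r, add_zero]
    | smul c p _ hp => intro r; rw [smul_eq_mul, ← mul_assoc]; exact hp (r * c)
  have hne : J ≠ ⊤ := fun htop => by
    obtain ⟨a, ha, b, hb, hab⟩ := Submodule.mem_sup.1 ((Ideal.eq_top_iff_one _).1 htop)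
    have hkb := key b hb 1
    rw [one_mul] at hkb
    have h2 := congrArg (fun t => x (ComodLib.reynolds R α t)) hab
    simp only [map_add] at h2
    rw [hkb, add_zero, h _ (ComodLib.reynolds_mem hα a) (reynolds_mem_of_isSubcomod α hI ha),
      ComodLib.reynolds_fixed h1 (GLin.invariants k A R).one_mem, map_one] at h2
    exact zero_ne_one h2
  obtain ⟨z, hz⟩ := exists_point_of_le k hne
  refine ⟨z, le_sup_left.trans hz, fun f hf => ?_⟩
  have h2 : z (f - algebraMap k R (x f)) = 0 :=
    hz (Ideal.mem_sup_right (Ideal.subset_span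
      ⟨sub_mem hf (Subalgebra.algebraMap_mem _ (x f)), by simp⟩))
  rwa [map_sub, AlgHom.commutes, Algebra.algebraMap_self_apply, sub_eq_zero] at h2

variable (k A R) in
theorem exists_invariants_stable_locus (hG : IsLinearlyReductive k A) :
    ∃ S : Set R, S ⊆ (GLin.invariants k A R : Set R) ∧ ∀ x : R →ₐ[k] k,
      (IsPointClosed k A x ∧ {g : A →ₐ[k] k | GLin.actPt k g x = x}.Finite) ↔ ∃ f ∈ S, x f ≠ 0 := by
  obtain ⟨I, hI, hIz⟩ := exists_ideal_infinite_stab k A R
  refine ⟨(I : Set R) ∩ (GLin.invariants k A R : Set R), Set.inter_subset_right, fun x => ?_⟩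
  rw [stable_iff_fibre hG x]
  constructor
  · intro hall
    by_contra hcon
    push Not at hcon
    obtain ⟨z, hzI, hz⟩ := exists_point_over_vanishing hG I hI x fun f hf hfI => hcon f ⟨hfI, hf⟩
    exact (hIz z).1 hzI (hall z hz)
  · rintro ⟨f, ⟨hfI, hf⟩, hne⟩ z hz
    by_contra hinf
    exact hne ((hz f hf).symm.trans ((hIz z).2 hinf hfI))

theorem isClosedOrbit_iff (x : R →ₐ[k] k) : GLin.IsClosedOrbit k A x ↔ IsPointClosed k A x := by
  refine ⟨fun h z hz => exists_actPt_of_closure h hz, fun h => ?_⟩
  haveI : IsNoetherianRing R := Algebra.FiniteType.isNoetherianRing k R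
  haveI : IsJacobsonRing R := isJacobsonRing_of_finiteType (A := k)
  set f := (GLin.orbitHom k A x).toRingHom
  have hft : f.FiniteType := by
    letI := f.toAlgebra
    haveI : IsScalarTower k R A := IsScalarTower.of_algebraMap_eq fun c => ((GLin.orbitHom k A x).commutes c).symm
    exact Algebra.FiniteType.of_restrictScalars_finiteType k R A
  show IsClosed (Set.range (PrimeSpectrum.comap f))
  refine closure_subset_iff_isClosed.1 fun P hP => ?_
  by_contra hPn
  rw [PrimeSpectrum.closure_range_comap] at hP
  obtain ⟨D, hD⟩ := PrimeSpectrum.exists_constructibleSetData_iff.2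
    ((PrimeSpectrum.isConstructible_range_comap (RingHom.FinitePresentation.of_finiteType.1 hft)).compl)
  have hPD : P ∈ D.toSet := by rw [hD]; exact hPn
  simp only [PrimeSpectrum.ConstructibleSetData.toSet, Set.mem_iUnion] at hPD
  obtain ⟨C, hC, hPC⟩ := hPD
  obtain ⟨M, ⟨hPM, hM⟩, hfM⟩ : ∃ M : Ideal R, (P.asIdeal ≤ M ∧ M.IsMaximal) ∧ C.f ∉ M := by
    by_contra hcon
    push Not at hcon
    have hj : C.f ∈ P.asIdeal.jacobson := Ideal.mem_sInf.2 fun M hM => hcon M hM
    rw [← Ideal.radical_eq_jacobson, P.2.radical] at hj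
    exact hPC.2 (Set.singleton_subset_iff.2 hj)
  have hMD : (⟨M, hM.isPrime⟩ : PrimeSpectrum R) ∈ D.toSet := by
    simp only [PrimeSpectrum.ConstructibleSetData.toSet, Set.mem_iUnion]
    exact ⟨C, hC, fun a ha => hPM (hPC.1 ha), fun h => hfM (Set.singleton_subset_iff.1 h)⟩
  rw [hD] at hMD
  obtain ⟨z, hz⟩ := exists_point_of_le k hM.ne_top
  have hzM : RingHom.ker z = M := (hM.eq_of_le (RingHom.ker_ne_top _) hz).symm
  obtain ⟨g, hg⟩ := h z fun a ha => hz (hPM (hP ha))
  refine hMD ⟨⟨RingHom.ker g, RingHom.ker_isPrime _⟩, PrimeSpectrum.ext ?_⟩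
  show (RingHom.ker g).comap f = M
  rw [← hzM, ← hg]
  rfl

theorem hasFiniteStab_iff (x : R →ₐ[k] k) :
    GLin.HasFiniteStab k A x ↔ {g : A →ₐ[k] k | GLin.actPt k g x = x}.Finite := by
  have hle : ∀ g : A →ₐ[k] k, GLin.stabIdeal k A x ≤ RingHom.ker g ↔ GLin.actPt k g x = x := by
    intro g
    rw [GLin.stabIdeal, Ideal.map_le_iff_le_comap]
    constructor
    · intro h
      refine AlgHom.ext fun a => ?_
      have h2 : g (GLin.orbitHom k A x (a - algebraMap k R (x a))) = 0 := h (by simp [RingHom.mem_ker])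
      rw [map_sub, map_sub, AlgHom.commutes, AlgHom.commutes, sub_eq_zero] at h2
      exact h2
    · intro h a ha
      show g (GLin.orbitHom k A x a) = 0
      exact (AlgHom.congr_fun h a).trans ha
  constructor
  · intro hfin
    haveI : Module.Finite k (A ⧸ GLin.stabIdeal k A x) := hfin
    haveI : IsArtinianRing (A ⧸ GLin.stabIdeal k A x) := IsArtinianRing.of_finite k _
    let S := A ⧸ GLin.stabIdeal k A x
    have hpts : Finite (S →ₐ[k] k) := by
      refine Finite.of_injective (fun φ => (⟨RingHom.ker φ, RingHom.ker_isPrime _⟩ : PrimeSpectrum S)) ?_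
      intro φ ψ he
      have hker : RingHom.ker φ = RingHom.ker ψ := congrArg PrimeSpectrum.asIdeal he
      refine AlgHom.ext fun a => ?_
      have : a - algebraMap k S (φ a) ∈ RingHom.ker φ := by simp [RingHom.mem_ker]
      rw [hker, RingHom.mem_ker, map_sub, AlgHom.commutes, sub_eq_zero] at this
      exact this.symm
    refine (Set.finite_range fun φ : S →ₐ[k] k => φ.comp (Ideal.Quotient.mkₐ k _)).subset fun g hg => ?_
    exact ⟨Ideal.Quotient.liftₐ _ g (fun a ha => (hle g).2 hg ha), AlgHom.ext fun a => rfl⟩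
  · intro hfin
    show Module.Finite k (A ⧸ GLin.stabIdeal k A x)
    set S := A ⧸ GLin.stabIdeal k A x
    haveI : Algebra.FiniteType k S := Algebra.FiniteType.of_surjective (Ideal.Quotient.mkₐ k _) Ideal.Quotient.mk_surjective
    haveI : IsJacobsonRing S := isJacobsonRing_of_finiteType (A := k)
    haveI : IsNoetherianRing S := Algebra.FiniteType.isNoetherianRing k S
    have hmax : {N : Ideal S | N.IsMaximal}.Finite := by
      refine (hfin.image fun g => (RingHom.ker g).map (Ideal.Quotient.mk (GLin.stabIdeal k A x))).subset fun N hN => ?_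
      obtain ⟨φ, hφ⟩ := exists_point_of_le k hN.ne_top
      have hN' : RingHom.ker φ = N := (hN.eq_of_le (RingHom.ker_ne_top _) hφ).symm
      refine ⟨φ.comp (Ideal.Quotient.mkₐ k _), (hle _).1 fun a ha => ?_, ?_⟩
      · show φ (Ideal.Quotient.mk _ a) = 0
        rw [Ideal.Quotient.eq_zero_iff_mem.2 ha, map_zero]
      · rw [← hN']
        exact (Ideal.map_comap_of_surjective _ Ideal.Quotient.mk_surjective (RingHom.ker φ))
    haveI : Ring.KrullDimLE 0 S := Ring.krullDimLE_zero_iff.2 fun P hP => by
      have hfinN : {N : Ideal S | P ≤ N ∧ N.IsMaximal}.Finite := hmax.subset fun N hN => hN.2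
      have hjac : P.jacobson = P := by rw [← Ideal.radical_eq_jacobson, hP.radical]
      have hinf : hfinN.toFinset.inf id ≤ P := by
        conv_rhs => rw [← hjac]
        exact le_sInf fun N hN => Finset.inf_le (hfinN.mem_toFinset.2 hN)
      obtain ⟨N, hN, hNr⟩ := (Ideal.IsPrime.inf_le' hP).1 hinf
      obtain ⟨hrN, hNmax⟩ := hfinN.mem_toFinset.1 hN
      exact (le_antisymm hrN hNr).symm ▸ hNmax
    haveI : IsArtinianRing S := isArtinianRing_iff_isNoetherianRing_krullDimLE_zero.2 ⟨inferInstance, inferInstance⟩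
    exact (Module.finite_iff_isArtinianRing k S).2 inferInstance

end GLinFinLib
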