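import Mathlib
import Groth.Agent.GLinFinLib.StableLocus
import Groth.Agent.CommAlgDim.Integral

/-! # Orbits and finite equivariant morphisms -/

set_option autoImplicit false

noncomputable section

open TensorProduct HopfRep

namespace GLinFinLib

universe u

variable {k : Type u} [Field k] {A : Type u} [CommRing A] [HopfAlgebra k A]
  {R : Type u} [CommRing R] [Algebra k R] [Comod k A R] [GLin.IsCoactAlg k A R]
  [IsAlgClosed k] [Algebra.FiniteType k A] [Algebra.FiniteType k R]

/-- Orbits whose closures share a component coincide. -/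
theorem exists_actPt_of_minimalPrimes {y z : R →ₐ[k] k} {Q : Ideal R}
    (hQ : Q ∈ (RingHom.ker (GLin.orbitHom k A y)).minimalPrimes)
    (hQ' : Q ∈ (RingHom.ker (GLin.orbitHom k A z)).minimalPrimes) :
    ∃ g : A →ₐ[k] k, GLin.actPt k g y = z := by
  haveI : IsJacobsonRing R := isJacobsonRing_of_finiteType (A := k)
  have hQp : Q.IsPrime := hQ.isPrime
  have hin : ∀ w : R →ₐ[k] k, Q ∈ (RingHom.ker (GLin.orbitHom k A w)).minimalPrimes →
      (⟨Q, hQp⟩ : PrimeSpectrum R) ∈ Set.range (PrimeSpectrum.comap (GLin.orbitHom k A w).toRingHom) := by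
    intro w hw
    obtain ⟨p, hp, -, hpQ⟩ := Ideal.exists_comap_eq_of_mem_minimalPrimes (I := (⊥ : Ideal A))
      (GLin.orbitHom k A w).toRingHom Q hw
    exact ⟨⟨p, hp⟩, PrimeSpectrum.ext hpQ⟩
  obtain ⟨a, ha, hya⟩ := exists_nhd_in_range (GLin.orbitHom k A y) ⟨Q, hQp⟩ (hin y hQ)
  obtain ⟨b, hb, hzb⟩ := exists_nhd_in_range (GLin.orbitHom k A z) ⟨Q, hQp⟩ (hin z hQ')
  obtain ⟨M, hM, hab⟩ : ∃ M : Ideal R, (Q ≤ M ∧ M.IsMaximal) ∧ a * b ∉ M := by
    by_contra hcon
    push Not at hcon
    have : a * b ∈ Q := by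
      have hj : a * b ∈ Q.jacobson := Ideal.mem_sInf.2 fun M hM => hcon M hM
      rwa [← Ideal.radical_eq_jacobson, hQp.radical] at hj
    rcases hQp.mem_or_mem this with h' | h'
    exacts [ha h', hb h']
  obtain ⟨w, hw⟩ := exists_point_of_le k hM.2.ne_top
  obtain ⟨g, hg⟩ := exists_point_over_maximal (GLin.orbitHom k A y) ⟨M, hM.2.isPrime⟩ hM.2 w hw
    (hya _ hM.1 fun h' => hab (M.mul_mem_right _ h'))
  obtain ⟨g', hg'⟩ := exists_point_over_maximal (GLin.orbitHom k A z) ⟨M, hM.2.isPrime⟩ hM.2 w hw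
    (hzb _ hM.1 fun h' => hab (M.mul_mem_left _ h'))
  obtain ⟨g₂, hg₂⟩ := exists_actPt_symm (show GLin.actPt k g' z = w from hg')
  refine ⟨g₂.comp (translate g), ?_⟩
  rw [← actPt_actPt, show GLin.actPt k g y = w from hg, hg₂]


omit [Algebra.FiniteType k A] [IsAlgClosed k] in
/-- The dimension of a finitely generated algebra is finite. -/
theorem exists_ringKrullDim_eq_nat (B : Type u) [CommRing B] [Algebra k B] [Algebra.FiniteType k B] [Nontrivial B] :
    ∃ d : ℕ, ringKrullDim B = (d : WithBot ℕ∞) := by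
  obtain ⟨s, g, hinj, hfin⟩ := exists_finite_inj_algHom_of_fg k B
  letI := g.toRingHom.toAlgebra
  haveI : Module.Finite (MvPolynomial (Fin s) k) B := hfin
  refine ⟨s, ?_⟩
  rw [CommAlgDim.ringKrullDim_eq_of_integral (MvPolynomial (Fin s) k) B hinj,
    MvPolynomial.ringKrullDim_of_isNoetherianRing, ringKrullDim_eq_zero_of_field]
  simp

/-- Orbit maps of equivariant homomorphisms. -/
theorem orbitHom_comp {S : Type u} [CommRing S] [Algebra k S] [Comod k A S] [GLin.IsCoactAlg k A S]
    [Algebra S R] [IsScalarTower k S R]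
    (hequiv : ∀ s : S, Comod.coact (k := k) (A := A) (algebraMap S R s) =
      Algebra.TensorProduct.map (IsScalarTower.toAlgHom k S R) (AlgHom.id k A) (Comod.coact (k := k) (A := A) s))
    (x : R →ₐ[k] k) (s : S) :
    GLin.orbitHom k A (x.comp (IsScalarTower.toAlgHom k S R)) s = GLin.orbitHom k A x (algebraMap S R s) := by
  rw [orbitHom_apply, orbitHom_apply, hequiv]
  generalize Comod.coact (k := k) (A := A) s = z
  induction z with
  | zero => simp
  | add z z' hz hz' => simp only [map_add, hz, hz']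
  | tmul p q => simp

end GLinFinLib
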