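import Mathlib
import Groth.Agent.GLinFinLib.Algebra
import Groth.Agent.GLinFinLib.StableLocus

/-! # Characters trivial on the stabiliser of a point with closed orbit -/

set_option autoImplicit false
set_option maxHeartbeats 1000000
set_option synthInstance.maxHeartbeats 400000

noncomputable section

open TensorProduct HopfRep MvPolynomial
open scoped ComodLib

namespace GLinFinLib.SemiInv

universe u

variable {k : Type u} [Field k] {A : Type u} [CommRing A] [HopfAlgebra k A]

/-- A group-like element as a unit. -/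
def unit {χ : A} (hχ : IsGroupLikeElem k χ) : Aˣ :=
  ⟨χ, HopfAlgebraStruct.antipode (R := k) χ, hχ.mul_antipode_cancel, hχ.antipode_mul_cancel⟩

theorem apply_slice {R : Type u} [CommRing R] [Algebra k R] [Comod k A R] [GLin.IsCoactAlg k A R]
    (x : R →ₐ[k] k) (c : A →ₗ[k] k) (r : R) :
    x (ComodLib.slice c (Comod.coact (k := k) (A := A) r)) = c (GLin.orbitHom k A x r) := by
  rw [GLinFinLib.orbitHom_apply]
  generalize Comod.coact (k := k) (A := A) r = z
  induction z with
  | zero => simp
  | add a b ha hb => simp only [map_add, ha, hb]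
  | tmul a b => simp [mul_comm]

/-- A group-like element of a power, and of a negative power. -/
theorem isGroupLike_zpow {χ : A} (hχ : IsGroupLikeElem k χ) (n : ℤ) :
    IsGroupLikeElem k ((unit hχ ^ n : Aˣ) : A) := by
  obtain ⟨m, rfl | rfl⟩ := n.eq_nat_or_neg
  · rw [zpow_natCast, Units.val_pow_eq_pow_val]
    exact hχ.pow (n := m)
  · rw [zpow_neg, zpow_natCast, ← inv_pow, Units.val_pow_eq_pow_val]
    exact hχ.antipode.pow (n := m)

variable {χ : A} (hχ : IsGroupLikeElem k χ)
  {R : Type u} [CommRing R] [Algebra k R] [Comod k A R] [GLin.IsCoactAlg k A R]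

local notation "P" => MvPolynomial (Fin 2) R

/-- The matrix of the torus coordinates `T`, `T⁻¹`. -/
def wt : Fin 2 → Fin 2 → A := fun j i =>
  if j = i then ![((unit hχ ^ (1 : ℤ) : Aˣ) : A), ((unit hχ ^ (-1 : ℤ) : Aˣ) : A)] i else 0

theorem isGroupLike_wt (i : Fin 2) :
    IsGroupLikeElem k (![((unit hχ ^ (1 : ℤ) : Aˣ) : A), ((unit hχ ^ (-1 : ℤ) : Aˣ) : A)] i) := by
  fin_cases i
  · exact isGroupLike_zpow hχ 1
  · exact isGroupLike_zpow hχ (-1)

theorem wt_comul (j i : Fin 2) : CoalgebraStruct.comul (R := k) (wt hχ j i) =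
    ∑ l, wt hχ j l ⊗ₜ[k] wt hχ l i := by
  by_cases h : j = i
  · subst h
    rw [Finset.sum_eq_single j (fun l _ hl => by simp [wt, hl, Ne.symm hl])
      (fun h => absurd (Finset.mem_univ j) h)]
    simp only [wt, if_true]
    exact (isGroupLike_wt hχ j).comul_eq_tmul_self
  · rw [wt, if_neg h, map_zero, Finset.sum_eq_zero fun l _ => ?_]
    by_cases hl : j = l
    · subst hl; simp [wt, h]
    · simp [wt, hl]

theorem wt_counit (j i : Fin 2) : CoalgebraStruct.counit (R := k) (wt hχ j i) = if j = i then (1 : k) else 0 := by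
  by_cases h : j = i
  · subst h
    simp only [wt, if_true]
    exact (isGroupLike_wt hχ j).counit_eq_one
  · simp [wt, h]

/-- `R[T, T⁻¹]` before dividing, as a comodule. -/
@[reducible] def torusComod : Comod k A P := polyComod (wt hχ) (wt_comul hχ) (wt_counit hχ)

theorem torus_isCoactAlg : letI := torusComod (R := R) hχ; GLin.IsCoactAlg k A P :=
  letI := torusComod (R := R) hχ
  { coact_one := map_one (polyCoact (k := k) (A := R) (wt hχ))
    coact_mul := map_mul (polyCoact (k := k) (A := R) (wt hχ)) }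

/-- The weight of a monomial. -/
def mw (d : Fin 2 →₀ ℕ) : A := ((unit hχ ^ ((d 0 : ℤ) - d 1) : Aˣ) : A)

theorem mw_eq (d : Fin 2 →₀ ℕ) :
    mw hχ d = ((unit hχ ^ (1 : ℤ) : Aˣ) : A) ^ d 0 * ((unit hχ ^ (-1 : ℤ) : Aˣ) : A) ^ d 1 := by
  rw [mw, ← Units.val_pow_eq_pow_val, ← Units.val_pow_eq_pow_val, ← Units.val_mul, ← zpow_natCast,
    ← zpow_natCast, ← zpow_mul, ← zpow_mul, ← zpow_add]
  congr 2
  ring

theorem monomial_eq_prod (d : Fin 2 →₀ ℕ) (r : R) :
    (monomial d r : P) = C r * ((X 0 : P) ^ d 0 * (X 1 : P) ^ d 1) := by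
  rw [monomial_eq, Finsupp.prod_fintype _ _ (fun i => pow_zero _), Fin.prod_univ_two]

theorem polyCoact_monomial (d : Fin 2 →₀ ℕ) (r : R) :
    polyCoact (k := k) (wt hχ) (monomial d r : P) =
      Algebra.TensorProduct.map (constHom (k := k) R 2) (AlgHom.id k A) (Comod.coact (k := k) (A := A) r) *
        ((monomial d (1 : R) : P) ⊗ₜ[k] mw hχ d) := by
  have hX : ∀ i : Fin 2, polyCoact (k := k) (A := R) (wt hχ) (X i : P) = (X i : P) ⊗ₜ[k] wt hχ i i := by
    intro i
    rw [polyCoact_X, Finset.sum_eq_single i (fun l _ hl => by simp [wt, hl])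
      (fun h => absurd (Finset.mem_univ i) h)]
  rw [monomial_eq_prod d r, map_mul, map_mul, map_pow, map_pow, polyCoact_C, hX, hX,
    Algebra.TensorProduct.tmul_pow, Algebra.TensorProduct.tmul_pow, Algebra.TensorProduct.tmul_mul_tmul,
    monomial_eq_prod d 1, MvPolynomial.C_1, one_mul, mw_eq]
  simp [wt]

/-- Coefficient extraction twists by the weight. -/
theorem coeff_coact (d : Fin 2 →₀ ℕ) (f : P) :
    (((lcoeff R d).restrictScalars k).rTensor A) (polyCoact (k := k) (wt hχ) f) =
      Comod.coact (k := k) (A := A) (coeff d f) * ((1 : R) ⊗ₜ[k] mw hχ d) := by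
  induction f using MvPolynomial.induction_on' with
  | add p q hp hq => rw [map_add, map_add, hp, hq, coeff_add, map_add, add_mul]
  | monomial e r =>
    rw [polyCoact_monomial, coeff_monomial]
    have key : ∀ z : R ⊗[k] A, (((lcoeff R d).restrictScalars k).rTensor A)
        (Algebra.TensorProduct.map (constHom (k := k) R 2) (AlgHom.id k A) z *
          ((monomial e (1 : R) : P) ⊗ₜ[k] mw hχ e)) =
        if e = d then z * ((1 : R) ⊗ₜ[k] mw hχ d) else 0 := by
      intro z
      induction z with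
      | zero => simp
      | add a b ha hb =>
        rw [map_add, add_mul, map_add, ha, hb]
        split_ifs <;> simp [add_mul]
      | tmul a b =>
        rw [Algebra.TensorProduct.map_tmul, AlgHom.id_apply, Algebra.TensorProduct.tmul_mul_tmul,
          LinearMap.rTensor_tmul, LinearMap.restrictScalars_apply, lcoeff_apply,
          show constHom (k := k) R 2 a = C a from rfl, C_mul_monomial, mul_one, coeff_monomial]
        split_ifs with h
        · subst h; simp
        · simp
    rw [key]
    split_ifs <;> simp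

/-- The point `(x, s, s⁻¹)`. -/
def pt (x : R →ₐ[k] k) (s : k) : P →ₐ[k] k :=
  { eval₂Hom x.toRingHom ![s, s⁻¹] with
    commutes' := fun c => by
      show eval₂ _ _ (algebraMap k P c) = _
      rw [IsScalarTower.algebraMap_apply k R P, MvPolynomial.algebraMap_eq, eval₂_C]
      exact x.commutes c }

theorem pt_C (x : R →ₐ[k] k) (s : k) (r : R) : pt x s (C r) = x r := eval₂Hom_C _ _ _

theorem pt_X (x : R →ₐ[k] k) (s : k) (i : Fin 2) : pt x s (X i) = ![s, s⁻¹] i := eval₂Hom_X' _ _ _

theorem orbitHom_pt_C (x : R →ₐ[k] k) (y : P →ₐ[k] k) (hy : ∀ r, y (C r) = x r) (r : R) :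
    letI := torusComod (R := R) hχ
    letI := torus_isCoactAlg (R := R) hχ
    GLin.orbitHom k A y (C r) = GLin.orbitHom k A x r := by
  letI := torusComod (R := R) hχ
  letI := torus_isCoactAlg (R := R) hχ
  rw [orbitHom_apply, orbitHom_apply]
  show TensorProduct.lid k A (y.toLinearMap.rTensor A (polyCoact (k := k) (wt hχ) (C r : P))) = _
  rw [polyCoact_C]
  generalize Comod.coact (k := k) (A := A) r = z
  induction z with
  | zero => simp
  | add a b ha hb => simp only [map_add, ha, hb]
  | tmul a b => simp [show constHom (k := k) R 2 a = C a from rfl, hy]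

theorem orbitHom_pt_X (y : P →ₐ[k] k) (i : Fin 2) :
    letI := torusComod (R := R) hχ
    letI := torus_isCoactAlg (R := R) hχ
    GLin.orbitHom k A y (X i) = y (X i) • wt hχ i i := by
  letI := torusComod (R := R) hχ
  letI := torus_isCoactAlg (R := R) hχ
  rw [orbitHom_apply]
  show TensorProduct.lid k A (y.toLinearMap.rTensor A (polyCoact (k := k) (wt hχ) (X i : P))) = _
  rw [polyCoact_X, Finset.sum_eq_single i (fun l _ hl => by simp [wt, hl])
    (fun h => absurd (Finset.mem_univ i) h)]
  simp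

theorem orbitHom_pt_monomial (x : R →ₐ[k] k) (s : k) (d : Fin 2 →₀ ℕ) (r : R) :
    letI := torusComod (R := R) hχ
    letI := torus_isCoactAlg (R := R) hχ
    GLin.orbitHom k A (pt x s) (monomial d r) =
      (s ^ d 0 * s⁻¹ ^ d 1) • (GLin.orbitHom k A x r * mw hχ d) := by
  letI := torusComod (R := R) hχ
  letI := torus_isCoactAlg (R := R) hχ
  rw [monomial_eq_prod, map_mul, map_mul, map_pow, map_pow,
    orbitHom_pt_C hχ x _ (fun a => pt_C x s a), orbitHom_pt_X, orbitHom_pt_X, pt_X, pt_X, mw_eq]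
  simp only [wt, if_true, Matrix.cons_val_zero, Matrix.cons_val_one, smul_pow, mul_smul_comm,
    smul_mul_assoc, smul_smul]
  rw [mul_comm (s⁻¹ ^ d 1)]

/-- Scaling the torus coordinate. -/
def scale (a : k) : P →ₐ[k] P :=
  { eval₂Hom (C : R →+* P) ![a • X 0, a⁻¹ • X 1] with
    commutes' := fun c => by
      show eval₂ _ _ (algebraMap k P c) = _
      rw [IsScalarTower.algebraMap_apply k R P c, MvPolynomial.algebraMap_eq, eval₂_C] }

theorem scale_C (a : k) (r : R) : scale (R := R) a (C r) = C r := eval₂Hom_C _ _ _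

theorem scale_X (a : k) (i : Fin 2) :
    scale (R := R) a (X i) = ![a • X 0, a⁻¹ • X 1] i := eval₂Hom_X' _ _ _

theorem scale_surjective {a : k} (ha : a ≠ 0) : Function.Surjective (scale (R := R) a) := by
  have h : (scale (R := R) a).comp (scale (R := R) a⁻¹) = AlgHom.id k P := by
    refine algHom_ext_poly (fun r => ?_) (fun i => ?_)
    · rw [AlgHom.comp_apply, scale_C, scale_C, AlgHom.id_apply]
    · rw [AlgHom.comp_apply, scale_X, AlgHom.id_apply]
      fin_cases i <;> simp [scale_X, smul_smul, ha]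
  exact fun p => ⟨_, AlgHom.congr_fun h p⟩

theorem orbitHom_scale (y : P →ₐ[k] k) (a : k) :
    letI := torusComod (R := R) hχ
    letI := torus_isCoactAlg (R := R) hχ
    GLin.orbitHom k A (y.comp (scale (R := R) a)) = (GLin.orbitHom k A y).comp (scale (R := R) a) := by
  letI := torusComod (R := R) hχ
  letI := torus_isCoactAlg (R := R) hχ
  let x : R →ₐ[k] k := y.comp (constHom (k := k) R 2)
  refine algHom_ext_poly (fun r => ?_) (fun i => ?_)
  · rw [AlgHom.comp_apply, scale_C, orbitHom_pt_C hχ x y (fun _ => rfl),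
      orbitHom_pt_C hχ x (y.comp (scale (R := R) a)) (fun b => by rw [AlgHom.comp_apply, scale_C]; rfl)]
  · rw [AlgHom.comp_apply, orbitHom_pt_X, AlgHom.comp_apply, scale_X]
    fin_cases i <;>
      simp [orbitHom_pt_X, smul_smul]

theorem pt_scale (x : R →ₐ[k] k) {s : k} (a : k) (hs : s ≠ 0) :
    (pt x s).comp (scale (R := R) a) = pt x (a * s) := by
  refine algHom_ext_poly (fun r => ?_) (fun i => ?_)
  · rw [AlgHom.comp_apply, scale_C, pt_C, pt_C]
  · rw [AlgHom.comp_apply, scale_X, pt_X]
    fin_cases i <;> simp [pt_X, mul_comm]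

variable [IsAlgClosed k] [Algebra.FiniteType k A] [Algebra.FiniteType k R]

omit [IsAlgClosed k] [Algebra.FiniteType k A] in
/-- An ideal contained in its image under a surjective endomorphism is equal to it. -/
theorem comap_eq_of_le {S : Type u} [CommRing S] [IsNoetherianRing S] (σ : S →+* S)
    (hσ : Function.Surjective σ) {I : Ideal S} (h : I ≤ I.comap σ) : I.comap σ = I := by
  let F : Ideal S → Ideal S := Ideal.comap σ
  have hmono : Monotone F := fun _ _ hh => Ideal.comap_mono hh
  have hchain : Monotone fun n => F^[n] I := monotone_nat_of_le_succ fun n => by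
    show F^[n] I ≤ F^[n + 1] I
    rw [Function.iterate_succ_apply]
    exact hmono.iterate n h
  obtain ⟨N, hN⟩ := monotone_stabilizes_iff_noetherian.2 ‹_› ⟨_, hchain⟩
  have hN' := hN (N + 1) (Nat.le_succ N)
  simp only [OrderHom.coe_mk, Function.iterate_succ_apply] at hN'
  exact ((Ideal.comap_injective_of_surjective σ hσ).iterate N hN').symm

/-- Orbits in `X × G_m` over a closed orbit on whose stabiliser the character is trivial. -/
theorem closed_pt (x : R →ₐ[k] k) (hx : GLin.IsClosedOrbit k A x)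
    (hstab : ∀ g : A →ₐ[k] k, GLin.actPt k g x = x → g χ = 1) {s : k} (hs : s ≠ 0) :
    letI := torusComod (R := R) hχ
    letI := torus_isCoactAlg (R := R) hχ
    IsPointClosed k A (pt x s) ∧
      ∀ t : k, (∃ g : A →ₐ[k] k, GLin.actPt k g (pt x s) = pt x t) → t = s := by
  letI := torusComod (R := R) hχ
  haveI := torus_isCoactAlg (R := R) hχ
  haveI : Algebra.FiniteType k P := Algebra.FiniteType.trans (inferInstance : Algebra.FiniteType k R)
    (inferInstance : Algebra.FiniteType R P)
  haveI : IsNoetherianRing P := Algebra.FiniteType.isNoetherianRing k P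
  have hcomp : ∀ (g : A →ₐ[k] k) (r : R) (y : P →ₐ[k] k) (x' : R →ₐ[k] k), (∀ a, y (C a) = x' a) →
      GLin.actPt k g y (C r) = GLin.actPt k g x' r := fun g r y x' hy =>
    congrArg g (orbitHom_pt_C hχ x' y hy r)
  constructor
  · intro z hz
    let z₀ : R →ₐ[k] k := z.comp (constHom (k := k) R 2)
    have hz₀ : GLin.InOrbitClosure k A x z₀ := fun r hr => hz (by
      show GLin.orbitHom k A (pt x s) (C r) = 0
      rw [orbitHom_pt_C hχ x (pt x s) (fun a => pt_C x s a)]
      exact hr)
    obtain ⟨g, hg⟩ := exists_actPt_of_closure hx hz₀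
    obtain ⟨h, hh⟩ := exists_actPt_symm hg
    let w := GLin.actPt k h z
    have hwx : ∀ r, w (C r) = x r := fun r => by
      rw [hcomp h r z z₀ (fun a => rfl), hh]
    have hker := ker_orbitHom_mono hz
    rw [← ker_orbitHom_actPt h z] at hker
    have hw : GLin.InOrbitClosure k A (pt x s) w := hker.trans (inOrbitClosure_refl w)
    have hTU : w (X 0) * w (X 1) = 1 := by
      have e : (X 0 * X 1 - 1 : P) ∈ RingHom.ker (GLin.orbitHom k A (pt x s)) := by
        rw [RingHom.mem_ker, map_sub, map_mul, map_one, orbitHom_pt_X, orbitHom_pt_X, pt_X, pt_X]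
        simp [wt, smul_mul_smul_comm, hs, ← Units.val_mul]
      have := hw e
      rw [RingHom.mem_ker, map_sub, map_mul, map_one, sub_eq_zero] at this
      exact this
    set t := w (X 0) with ht
    have ht0 : t ≠ 0 := left_ne_zero_of_mul_eq_one hTU
    have hwt : w = pt x t := by
      refine algHom_ext_poly (fun r => ?_) (fun i => ?_)
      · rw [pt_C, hwx]
      · rw [pt_X]
        fin_cases i
        · simp [ht]
        · simpa using eq_inv_of_mul_eq_one_right hTU
    have hscale : pt x t = (pt x s).comp (scale (R := R) (t * s⁻¹)) := by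
      rw [pt_scale x _ hs, mul_assoc, inv_mul_cancel₀ hs, mul_one]
    have heq : RingHom.ker (GLin.orbitHom k A (pt x t)) = RingHom.ker (GLin.orbitHom k A (pt x s)) := by
      have hle : RingHom.ker (GLin.orbitHom k A (pt x s)) ≤
          RingHom.ker (GLin.orbitHom k A (pt x t)) := hwt ▸ ker_orbitHom_mono hw
      have e : RingHom.ker (GLin.orbitHom k A (pt x t)) =
          (RingHom.ker (GLin.orbitHom k A (pt x s))).comap (scale (R := R) (t * s⁻¹)).toRingHom := by
        rw [hscale, orbitHom_scale]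
        ext; rfl
      rw [e] at hle ⊢
      exact comap_eq_of_le _ (scale_surjective (mul_ne_zero ht0 (inv_ne_zero hs))) hle
    obtain ⟨g₁, hg₁⟩ := exists_actPt_of_ker_eq heq.symm
    obtain ⟨g₂, hg₂⟩ := exists_actPt_symm (rfl : GLin.actPt k h z = w)
    exact ⟨g₂.comp (translate g₁), by rw [← actPt_actPt, hg₁, ← hwt, hg₂]⟩
  · rintro t ⟨g, hg⟩
    have hgx : GLin.actPt k g x = x := AlgHom.ext fun r => by
      rw [← hcomp g r (pt x s) x (fun a => pt_C x s a), hg, pt_C]
    have h := AlgHom.congr_fun hg (X 0)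
    rw [pt_X] at h
    change g (GLin.orbitHom k A (pt x s) (X 0)) = _ at h
    rw [orbitHom_pt_X, map_smul, pt_X] at h
    simp [wt] at h
    rw [show ((unit hχ : Aˣ) : A) = χ from rfl, hstab g hgx, mul_one] at h
    exact h.symm

variable (hG : IsLinearlyReductive k A) [CharZero k]

/-- The weights of semi-invariants not vanishing at `x`. -/
def weights (x : R →ₐ[k] k) : Set ℤ :=
  {n | ∃ f : R, Comod.coact (k := k) (A := A) f = f ⊗ₜ[k] ((unit hχ ^ n : Aˣ) : A) ∧ x f ≠ 0}

include hG in
/-- A character trivial on the stabiliser of a closed orbit is the weight of a semi-invariant not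
vanishing there. -/
theorem one_mem_weights (x : R →ₐ[k] k) (hx : GLin.IsClosedOrbit k A x)
    (hstab : ∀ g : A →ₐ[k] k, GLin.actPt k g x = x → g χ = 1) :
    (1 : ℤ) ∈ weights hχ x ∧ (-1 : ℤ) ∈ weights hχ x := by
  classical
  letI := torusComod (R := R) hχ
  haveI := torus_isCoactAlg (R := R) hχ
  haveI : Algebra.FiniteType k P := Algebra.FiniteType.trans (inferInstance : Algebra.FiniteType k R)
    (inferInstance : Algebra.FiniteType R P)
  obtain ⟨α, hα, h1⟩ := ComodLib.exists_invariant_of_isLinearlyReductive hG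
  -- coefficients of invariants are semi-invariants
  have hsemi : ∀ p ∈ GLin.invariants k A P, ∀ d : Fin 2 →₀ ℕ,
      Comod.coact (k := k) (A := A) (coeff d p) =
        coeff d p ⊗ₜ[k] ((unit hχ ^ (-((d 0 : ℤ) - d 1)) : Aˣ) : A) := by
    intro p hp d
    have h := coeff_coact hχ d p
    rw [show polyCoact (k := k) (wt hχ) p = p ⊗ₜ[k] (1 : A) from hp, LinearMap.rTensor_tmul,
      LinearMap.restrictScalars_apply, lcoeff_apply] at h
    have h2 := congrArg (· * ((1 : R) ⊗ₜ[k] ((unit hχ ^ (-((d 0 : ℤ) - d 1)) : Aˣ) : A))) h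
    simp only [Algebra.TensorProduct.tmul_mul_tmul, mul_one, one_mul, mul_assoc] at h2
    rw [h2, mw, ← Units.val_mul, ← zpow_add, add_neg_cancel, zpow_zero, Units.val_one,
      ← Algebra.TensorProduct.one_def, mul_one]
  have hzero : (0 : ℤ) ∈ weights hχ x := ⟨1, by simp [GLin.IsCoactAlg.coact_one, Algebra.TensorProduct.one_def], by simp⟩
  have hadd : ∀ a b, a ∈ weights hχ x → b ∈ weights hχ x → a + b ∈ weights hχ x := by
    rintro a b ⟨f, hf, hxf⟩ ⟨g, hg, hxg⟩
    refine ⟨f * g, ?_, by simp [hxf, hxg]⟩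
    rw [GLin.IsCoactAlg.coact_mul, hf, hg, Algebra.TensorProduct.tmul_mul_tmul, ← Units.val_mul,
      ← zpow_add]
  have hneg : ∀ a, a ∈ weights hχ x → -a ∈ weights hχ x := by
    rintro a ⟨f, hf, hxf⟩
    have horb : GLin.orbitHom k A x f = x f • ((unit hχ ^ a : Aˣ) : A) := by
      rw [orbitHom_apply, hf]; simp
    obtain ⟨c, hc⟩ : ∃ c : R, GLin.orbitHom k A x c * GLin.orbitHom k A x f = 1 := by
      by_cases htop : RingHom.ker (GLin.orbitHom k A x) ⊔ Ideal.span {f} = ⊤
      · obtain ⟨p, hp, q, hq, hpq⟩ := Submodule.mem_sup.1 ((Ideal.eq_top_iff_one _).1 htop)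
        obtain ⟨c, rfl⟩ := Ideal.mem_span_singleton'.1 hq
        refine ⟨c, ?_⟩
        have := congrArg (GLin.orbitHom k A x) hpq
        rwa [map_add, RingHom.mem_ker.1 hp, zero_add, map_mul, map_one] at this
      · exfalso
        obtain ⟨z, hz⟩ := exists_point_of_le k htop
        obtain ⟨g, hg⟩ := exists_actPt_of_closure hx (le_sup_left.trans hz)
        have : z f = 0 := hz (Ideal.mem_sup_right (Ideal.mem_span_singleton_self f))
        rw [← hg] at this
        change g (GLin.orbitHom k A x f) = 0 at this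
        rw [horb, map_smul, smul_eq_mul] at this
        exact mul_ne_zero hxf (((unit hχ ^ a).isUnit.map g).ne_zero) this
    let d : Fin 2 →₀ ℕ := Finsupp.equivFunOnFinite.symm ![a.toNat, (-a).toNat]
    have hd : (d 0 : ℤ) - d 1 = a := by
      simp [d]
    let p := ComodLib.reynolds P α (monomial d c)
    have hp : p ∈ GLin.invariants k A P := ComodLib.reynolds_mem hα _
    have hval : pt x 1 p = (x f)⁻¹ := by
      show pt x 1 (ComodLib.slice (α ∘ₗ HopfAlgebra.antipode k)
        (Comod.coact (k := k) (A := A) (monomial d c : P))) = _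
      rw [apply_slice, orbitHom_pt_monomial, mw, hd]
      simp only [inv_one, one_pow, one_mul, one_smul]
      have : GLin.orbitHom k A x c * ((unit hχ ^ a : Aˣ) : A) = (x f)⁻¹ • (1 : A) := by
        rw [← hc, horb, mul_smul_comm, smul_smul, inv_mul_cancel₀ hxf, one_smul]
      rw [this, map_smul, LinearMap.comp_apply, HopfAlgebra.antipode_one, h1, smul_eq_mul, mul_one]
    have hsupp : ∀ e, e ≠ d → coeff e p = 0 := by
      intro e he
      show (lcoeff R e).restrictScalars k (ComodLib.slice (α ∘ₗ HopfAlgebra.antipode k)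
        (polyCoact (k := k) (wt hχ) (monomial d c : P))) = 0
      rw [← ComodLib.slice_rTensor, coeff_coact, coeff_monomial, if_neg (Ne.symm he), map_zero,
        zero_mul, map_zero]
    have hpm : p = monomial d (coeff d p) := by
      refine MvPolynomial.ext _ _ fun e => ?_
      rw [coeff_monomial]
      split_ifs with h
      · rw [h]
      · exact hsupp e (Ne.symm h)
    refine ⟨coeff d p, by rw [hsemi p hp d, hd], ?_⟩
    rw [hpm, monomial_eq_prod, map_mul, pt_C, map_mul, map_pow, map_pow, pt_X, pt_X] at hval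
    simp only [Matrix.cons_val_zero, Matrix.cons_val_one, inv_one, one_pow, mul_one] at hval
    rw [hval]
    exact inv_ne_zero hxf
  let H : AddSubgroup ℤ :=
    { carrier := weights hχ x
      zero_mem' := hzero
      add_mem' := fun {a b} => hadd a b
      neg_mem' := fun {a} => hneg a }
  -- every `s ≠ 1` is moved by some weight
  have hsep : ∀ s : k, s ≠ 0 → s ≠ 1 → ∃ n ∈ H, s ^ (-n) ≠ 1 := by
    intro s hs hs1
    by_contra! hall
    obtain ⟨hc1, ho1⟩ := closed_pt hχ x hx hstab (s := 1) one_ne_zero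
    obtain ⟨hcs, -⟩ := closed_pt hχ x hx hstab hs
    have hinv : ∀ p ∈ GLin.invariants k A P, pt x 1 p = pt x s p := by
      intro p hp
      have e := p.as_sum
      rw [e, map_sum, map_sum]
      refine Finset.sum_congr rfl fun d _ => ?_
      rw [monomial_eq_prod]
      simp only [map_mul, map_pow, pt_C, pt_X, Matrix.cons_val_zero, Matrix.cons_val_one, inv_one,
        one_pow, mul_one]
      by_cases hxd : x (coeff d p) = 0
      · rw [hxd, zero_mul]
      · have hn : -((d 0 : ℤ) - d 1) ∈ H := ⟨coeff d p, hsemi p hp d, hxd⟩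
        have h := hall _ hn
        rw [neg_neg, zpow_sub₀ hs, zpow_natCast, zpow_natCast, div_eq_mul_inv, ← inv_pow] at h
        rw [h, mul_one]
    obtain ⟨z, hz, hz'⟩ := exists_common_closure hG (pt x 1) (pt x s) hinv
    obtain ⟨g, hg⟩ := hc1 z hz
    obtain ⟨g', hg'⟩ := hcs z hz'
    obtain ⟨g₂, hg₂⟩ := exists_actPt_symm hg'
    exact hs1 (ho1 s ⟨g₂.comp (translate g), by rw [← actPt_actPt, hg, hg₂]⟩)
  obtain ⟨m, hm⟩ := Int.subgroup_cyclic H
  rw [← AddSubgroup.zmultiples_eq_closure] at hm
  have hm1 : m.natAbs = 1 := by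
    by_contra hne
    rcases Nat.eq_zero_or_pos m.natAbs with h0 | hpos
    · obtain ⟨n, hn, hn2⟩ := hsep 2 two_ne_zero (by norm_num)
      rw [hm, Int.natAbs_eq_zero.1 h0, AddSubgroup.zmultiples_zero_eq_bot, AddSubgroup.mem_bot] at hn
      exact hn2 (by rw [hn, neg_zero, zpow_zero])
    · haveI : NeZero (m.natAbs : k) := ⟨Nat.cast_ne_zero.2 hpos.ne'⟩
      obtain ⟨ζ, hζ⟩ := HasEnoughRootsOfUnity.exists_primitiveRoot k m.natAbs
      obtain ⟨n, hn, hn2⟩ := hsep ζ (hζ.ne_zero hpos.ne') (hζ.ne_one (by omega))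
      rw [hm, AddSubgroup.mem_zmultiples_iff] at hn
      obtain ⟨j, rfl⟩ := hn
      refine hn2 ((hζ.zpow_eq_one_iff_dvd _).2 ?_)
      rw [dvd_neg, smul_eq_mul]
      exact (Int.natAbs_dvd.2 dvd_rfl).mul_left j
  have hmem : (1 : ℤ) ∈ H := by
    rw [hm, AddSubgroup.mem_zmultiples_iff]
    rcases Int.natAbs_eq m with h | h <;> rw [hm1, Nat.cast_one] at h
    · exact ⟨1, by rw [h, one_smul]⟩
    · exact ⟨-1, by rw [h]; norm_num⟩
  exact ⟨hmem, H.neg_mem hmem⟩

include hχ hG in
/-- Products of opposite semi-invariants detect the triviality of the character on stabilisers of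
closed orbits. -/
theorem exists_invariants_cutting_out :
    ∃ E : Set R, E ⊆ GLin.invariants k A R ∧
      ∀ x : R →ₐ[k] k, GLin.IsClosedOrbit k A x →
        (χ - 1 ∈ GLin.stabIdeal k A x ↔ ∃ f ∈ E, x f ≠ 0) := by
  refine ⟨{f | ∃ p q : R, Comod.coact (k := k) (A := A) p = p ⊗ₜ[k] ((unit hχ ^ (1 : ℤ) : Aˣ) : A) ∧
    Comod.coact (k := k) (A := A) q = q ⊗ₜ[k] ((unit hχ ^ (-1 : ℤ) : Aˣ) : A) ∧ f = p * q}, ?_, ?_⟩
  · rintro _ ⟨p, q, hp, hq, rfl⟩
    show Comod.coact (k := k) (A := A) (p * q) = (p * q) ⊗ₜ[k] (1 : A)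
    rw [GLin.IsCoactAlg.coact_mul, hp, hq, Algebra.TensorProduct.tmul_mul_tmul, ← Units.val_mul,
      ← zpow_add, add_neg_cancel, zpow_zero, Units.val_one]
  intro x hx
  constructor
  · intro h
    obtain ⟨⟨p, hp, hxp⟩, q, hq, hxq⟩ := one_mem_weights hχ hG x hx fun g hg => by
      have hle : GLin.stabIdeal k A x ≤ RingHom.ker g :=
        Ideal.map_le_iff_le_comap.2 fun a ha => by
          show g (GLin.orbitHom k A x a) = 0
          exact (AlgHom.congr_fun hg a).trans ha
      have := hle h
      rwa [RingHom.mem_ker, map_sub, map_one, sub_eq_zero] at this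
    exact ⟨p * q, ⟨p, q, hp, hq, rfl⟩, by simp [hxp, hxq]⟩
  · rintro ⟨_, ⟨p, q, hp, -, rfl⟩, hne⟩
    have hxp : x p ≠ 0 := fun h => hne (by simp [h])
    have h : GLin.orbitHom k A x (p - algebraMap k R (x p)) ∈ GLin.stabIdeal k A x :=
      Ideal.mem_map_of_mem _ (by simp [RingHom.mem_ker])
    rw [map_sub, AlgHom.commutes, orbitHom_apply, hp] at h
    have e : χ - 1 = algebraMap k A (x p)⁻¹ *
        (TensorProduct.lid k A (x.toLinearMap.rTensor A (p ⊗ₜ[k] ((unit hχ ^ (1 : ℤ) : Aˣ) : A))) -
          algebraMap k A (x p)) := by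
      simp [Algebra.smul_def, mul_sub, ← mul_assoc, ← map_mul, hxp, unit]
    rw [e]
    exact Ideal.mul_mem_left _ _ h

end GLinFinLib.SemiInv

end
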