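import Mathlib
import Groth.Agent.GLinFinLib.Algebra
import Groth.Agent.ComodLib.Reynolds

/-! # A Noetherian algebra is of finite type over its invariants -/

set_option autoImplicit false

noncomputable section

open TensorProduct HopfRep

namespace GLinFinLib

universe u v w

variable {k : Type u} [Field k] {H : Type v} [CommRing H] [HopfAlgebra k H]
  {A : Type w} [CommRing A] [Algebra k A] [Comod k H A] [GLin.IsCoactAlg k H A]

local notation "ρA" => GLin.coactAlgHom k H A
local notation "incL" => (Algebra.TensorProduct.includeLeft : A →ₐ[k] A ⊗[k] H)
local notation "incR" => (Algebra.TensorProduct.includeRight : H →ₐ[k] A ⊗[k] H)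

/-- The diagonal coaction on `A ⊗ H`. -/
def twistCoact : A ⊗[k] H →ₐ[k] (A ⊗[k] H) ⊗[k] H :=
  Algebra.TensorProduct.lift ((Algebra.TensorProduct.map incL (AlgHom.id k H)).comp ρA)
    ((Algebra.TensorProduct.map incR (AlgHom.id k H)).comp (Bialgebra.comulAlgHom k H))
    (fun x y => by
      show _ * _ = _ * _
      exact mul_comm (G := (A ⊗[k] H) ⊗[k] H) _ _)

theorem twistCoact_tmul (a : A) (h : H) : twistCoact (a ⊗ₜ[k] h) =
    Algebra.TensorProduct.map incL (AlgHom.id k H) (Comod.coact (k := k) (A := H) a) *
      Algebra.TensorProduct.map incR (AlgHom.id k H) (CoalgebraStruct.comul (R := k) h) :=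
  Algebra.TensorProduct.lift_tmul _ _ _ _ _

theorem twistCoact_left (a : A) : twistCoact (k := k) (H := H) (a ⊗ₜ[k] (1 : H)) =
    Algebra.TensorProduct.map incL (AlgHom.id k H) (Comod.coact (k := k) (A := H) a) := by
  rw [twistCoact_tmul, Bialgebra.comul_one, map_one, mul_one]

theorem twistCoact_right (h : H) : twistCoact (k := k) (A := A) ((1 : A) ⊗ₜ[k] h) =
    Algebra.TensorProduct.map incR (AlgHom.id k H) (CoalgebraStruct.comul (R := k) h) := by
  rw [twistCoact_tmul, GLin.IsCoactAlg.coact_one (k := k) (A := H) (R := A), map_one, one_mul]

/-- `A ⊗ H` as a comodule. -/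
@[reducible] def twistComod : Comod k H (A ⊗[k] H) where
  coact := (twistCoact (k := k) (H := H) (A := A)).toLinearMap
  coassoc := by
    have h : (Algebra.TensorProduct.assoc k k k (A ⊗[k] H) H H).toAlgHom.comp
          ((Algebra.TensorProduct.map (twistCoact (k := k) (H := H) (A := A)) (AlgHom.id k H)).comp (twistCoact (k := k) (H := H) (A := A))) =
        (Algebra.TensorProduct.map (AlgHom.id k (A ⊗[k] H)) (Bialgebra.comulAlgHom k H)).comp
          (twistCoact (k := k) (H := H) (A := A)) := by
      refine Algebra.TensorProduct.ext (AlgHom.ext fun a => ?_) (AlgHom.ext fun b => ?_)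
      · simp only [AlgHom.comp_apply, AlgHom.coe_restrictScalars', Algebra.TensorProduct.includeLeft_apply,
          twistCoact_left]
        have e1 : ∀ z : A ⊗[k] H, (Algebra.TensorProduct.assoc k k k (A ⊗[k] H) H H).toAlgHom
            (Algebra.TensorProduct.map (twistCoact (k := k) (H := H) (A := A)) (AlgHom.id k H)
              (Algebra.TensorProduct.map incL (AlgHom.id k H) z)) =
            TensorProduct.map (incL).toLinearMap LinearMap.id
              (TensorProduct.assoc k A H H ((Comod.coact (k := k) (A := H)).rTensor H z)) := fun z => by
          induction z with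
          | zero => simp
          | add z z' hz hz' => simp only [map_add, hz, hz']
          | tmul x h =>
            simp only [Algebra.TensorProduct.map_tmul, AlgHom.id_apply, LinearMap.rTensor_tmul,
              Algebra.TensorProduct.includeLeft_apply, twistCoact_left]
            generalize Comod.coact (k := k) (A := H) x = w
            induction w with
            | zero => simp [TensorProduct.zero_tmul]
            | add w w' hw hw' => simp only [map_add, TensorProduct.add_tmul, hw, hw']
            | tmul y h' => simp
        have e2 : ∀ z : A ⊗[k] H, Algebra.TensorProduct.map (AlgHom.id k (A ⊗[k] H)) (Bialgebra.comulAlgHom k H)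
              (Algebra.TensorProduct.map incL (AlgHom.id k H) z) =
            TensorProduct.map (incL).toLinearMap LinearMap.id
              ((CoalgebraStruct.comul (R := k)).lTensor A z) := fun z => by
          induction z with
          | zero => simp
          | add z z' hz hz' => simp only [map_add, hz, hz']
          | tmul x h => simp
        rw [e1, e2, ComodLib.coassoc_apply (k := k) (A := H) (V := A) a]
      · simp only [AlgHom.comp_apply, AlgHom.coe_restrictScalars', Algebra.TensorProduct.includeRight_apply,
          twistCoact_right]
        have e1 : ∀ z : H ⊗[k] H, (Algebra.TensorProduct.assoc k k k (A ⊗[k] H) H H).toAlgHom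
            (Algebra.TensorProduct.map (twistCoact (k := k) (H := H) (A := A)) (AlgHom.id k H)
              (Algebra.TensorProduct.map incR (AlgHom.id k H) z)) =
            TensorProduct.map (incR).toLinearMap LinearMap.id
              (TensorProduct.assoc k H H H ((CoalgebraStruct.comul (R := k)).rTensor H z)) := fun z => by
          induction z with
          | zero => simp
          | add z z' hz hz' => simp only [map_add, hz, hz']
          | tmul x h =>
            simp only [Algebra.TensorProduct.map_tmul, AlgHom.id_apply, LinearMap.rTensor_tmul,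
              Algebra.TensorProduct.includeRight_apply, twistCoact_right]
            generalize CoalgebraStruct.comul (R := k) x = w
            induction w with
            | zero => simp [TensorProduct.zero_tmul]
            | add w w' hw hw' => simp only [map_add, TensorProduct.add_tmul, hw, hw']
            | tmul y h' => simp
        have e2 : ∀ z : H ⊗[k] H, Algebra.TensorProduct.map (AlgHom.id k (A ⊗[k] H)) (Bialgebra.comulAlgHom k H)
              (Algebra.TensorProduct.map incR (AlgHom.id k H) z) =
            TensorProduct.map (incR).toLinearMap LinearMap.id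
              ((CoalgebraStruct.comul (R := k)).lTensor H z) := fun z => by
          induction z with
          | zero => simp
          | add z z' hz hz' => simp only [map_add, hz, hz']
          | tmul x h => simp
        rw [e1, e2, Coalgebra.coassoc_apply]
    exact LinearMap.ext fun x => AlgHom.congr_fun h x
  counit_comp := by
    have h : (Algebra.TensorProduct.map (AlgHom.id k (A ⊗[k] H)) (Bialgebra.counitAlgHom k H)).comp
        (twistCoact (k := k) (H := H) (A := A)) = Algebra.TensorProduct.includeLeft := by
      refine Algebra.TensorProduct.ext (AlgHom.ext fun a => ?_) (AlgHom.ext fun b => ?_)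
      · simp only [AlgHom.comp_apply, AlgHom.coe_restrictScalars', Algebra.TensorProduct.includeLeft_apply,
          twistCoact_left]
        conv_rhs => rw [← ComodLib.slice_counit (k := k) (A := H) (V := A) a]
        generalize Comod.coact (k := k) (A := H) a = z
        induction z with
        | zero => simp
        | add z z' hz hz' => simp only [map_add, TensorProduct.add_tmul, hz, hz']
        | tmul x c =>
          simp only [Algebra.TensorProduct.map_tmul, AlgHom.id_apply, Algebra.TensorProduct.includeLeft_apply,
            Bialgebra.counitAlgHom_apply, ComodLib.slice_tmul]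
          rw [← TensorProduct.smul_tmul', ← TensorProduct.smul_tmul', ← TensorProduct.tmul_smul, smul_eq_mul, mul_one]
      · simp only [AlgHom.comp_apply, AlgHom.coe_restrictScalars', Algebra.TensorProduct.includeRight_apply,
          Algebra.TensorProduct.includeLeft_apply, twistCoact_right]
        have e : ∀ z : H ⊗[k] H, Algebra.TensorProduct.map (AlgHom.id k (A ⊗[k] H)) (Bialgebra.counitAlgHom k H)
            (Algebra.TensorProduct.map incR (AlgHom.id k H) z) =
            (incR).toLinearMap.rTensor k ((CoalgebraStruct.counit (R := k)).lTensor H z) := fun z => by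
          induction z with
          | zero => simp
          | add z z' hz hz' => simp only [map_add, hz, hz']
          | tmul x c => simp
        rw [e, Coalgebra.lTensor_counit_comul]
        simp
    exact LinearMap.ext fun x => AlgHom.congr_fun h x

/-- The twisted copy of `A` inside the invariants of `A ⊗ H`. -/
def untwist (a : A) : A ⊗[k] H :=
  (HopfAlgebra.antipode k (A := H)).lTensor A (Comod.coact (k := k) (A := H) a)

theorem twistCoact_untwist (a : A) :
    twistCoact (untwist (k := k) (H := H) a) = untwist (k := k) (H := H) a ⊗ₜ[k] (1 : H) := by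
  let G : H ⊗[k] H →ₗ[k] H ⊗[k] H := LinearMap.mul' k (H ⊗[k] H) ∘ₗ
    TensorProduct.map (Algebra.TensorProduct.includeRight : H →ₐ[k] H ⊗[k] H).toLinearMap
      (CoalgebraStruct.comul (R := k) ∘ₗ HopfAlgebra.antipode k (A := H))
  let Ψ : A ⊗[k] (H ⊗[k] H) →ₗ[k] (A ⊗[k] H) ⊗[k] H :=
    (TensorProduct.assoc k A H H).symm.toLinearMap ∘ₗ G.lTensor A
  have key : ∀ z : A ⊗[k] H, twistCoact ((HopfAlgebra.antipode k (A := H)).lTensor A z) =
      Ψ (TensorProduct.assoc k A H H ((Comod.coact (k := k) (A := H)).rTensor H z)) := fun z => by
    induction z with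
    | zero => simp
    | add z z' hz hz' => simp only [map_add, hz, hz']
    | tmul x b =>
      rw [LinearMap.lTensor_tmul, twistCoact_tmul, LinearMap.rTensor_tmul]
      generalize Comod.coact (k := k) (A := H) x = y
      induction y with
      | zero => simp [TensorProduct.zero_tmul]
      | add y y' hy hy' => simp only [map_add, TensorProduct.add_tmul, add_mul, hy, hy']
      | tmul x' c =>
        simp only [TensorProduct.assoc_tmul, Ψ, G, LinearMap.comp_apply, LinearMap.lTensor_tmul,
          LinearEquiv.coe_coe, TensorProduct.map_tmul, LinearMap.mul'_apply, AlgHom.toLinearMap_apply,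
          Algebra.TensorProduct.includeRight_apply]
        generalize CoalgebraStruct.comul (R := k) ((HopfAlgebra.antipode k) b) = t
        induction t with
        | zero => simp
        | add t t' ht ht' => simp only [map_add, mul_add, TensorProduct.tmul_add, ht, ht']
        | tmul p q => simp [Algebra.TensorProduct.tmul_mul_tmul]
  rw [untwist, key, ComodLib.coassoc_apply (k := k) (A := H) (V := A) a]
  generalize Comod.coact (k := k) (A := H) a = z
  induction z with
  | zero => simp [TensorProduct.zero_tmul]
  | add z z' hz hz' => simp only [map_add, TensorProduct.add_tmul, hz, hz']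
  | tmul x b =>
    simp only [LinearMap.lTensor_tmul, Ψ, G, LinearMap.comp_apply, LinearEquiv.coe_coe,
      ComodLib.includeRight_mul_comul_antipode, TensorProduct.assoc_symm_tmul]

theorem finiteType_over_invariants (hG : IsLinearlyReductive k H) [Algebra.FiniteType k H] [IsNoetherianRing A] :
    Algebra.FiniteType ↥(GLin.invariants k H A) A := by
  classical
  letI := twistComod (k := k) (H := H) (A := A)
  haveI : GLin.IsCoactAlg k H (A ⊗[k] H) :=
    ⟨map_one (twistCoact (k := k) (H := H) (A := A)), map_mul (twistCoact (k := k) (H := H) (A := A))⟩
  have hAC : Hoch.IsComodHom H (IsScalarTower.toAlgHom k A (A ⊗[k] H)).toLinearMap := by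
    refine LinearMap.ext fun a => ?_
    show twistCoact (a ⊗ₜ[k] (1 : H)) =
      (IsScalarTower.toAlgHom k A (A ⊗[k] H)).toLinearMap.rTensor H (Comod.coact (k := k) (A := H) a)
    rw [twistCoact_left]
    generalize Comod.coact (k := k) (A := H) a = z
    induction z with
    | zero => simp
    | add z z' hz hz' => simp only [map_add, hz, hz']
    | tmul x c => simp
  obtain ⟨s, -, hs⟩ := exists_finset_invariants_le_adjoin hG (A ⊗[k] H) hAC
  let φ : A ⊗[k] H →ₐ[k] A :=
    (Algebra.TensorProduct.rid k k A).toAlgHom.comp (Algebra.TensorProduct.map (AlgHom.id k A) (Bialgebra.counitAlgHom k H))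
  refine ⟨⟨s.image φ, eq_top_iff.2 fun a _ => ?_⟩⟩
  have hmem : untwist (k := k) (H := H) a ∈ GLin.invariants k H (A ⊗[k] H) := twistCoact_untwist a
  rw [hs] at hmem
  have h2 := (Subalgebra.mem_map (f := φ) (y := φ (untwist (k := k) (H := H) a))).2 ⟨_, hmem, rfl⟩
  rw [AlgHom.map_adjoin] at h2
  have ha : φ (untwist (k := k) (H := H) a) = a := by
    conv_rhs => rw [← ComodLib.slice_counit (k := k) (A := H) (V := A) a]
    rw [untwist]
    generalize Comod.coact (k := k) (A := H) a = z
    induction z with
    | zero => simp
    | add z z' hz hz' => simp only [map_add, hz, hz']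
    | tmul x c => simp [φ]
  rw [ha] at h2
  refine (Algebra.adjoin_le (S := (Algebra.adjoin ↥(GLin.invariants k H A) (↑(s.image φ) : Set A)).restrictScalars k) ?_) h2
  rintro _ ⟨q, hq, rfl⟩
  rcases hq with ⟨c, hc, rfl⟩ | hq
  · have e : φ (algebraMap A (A ⊗[k] H) c) = c := by simp [φ]
    rw [e]
    exact Subalgebra.algebraMap_mem (Algebra.adjoin ↥(GLin.invariants k H A) (↑(s.image φ) : Set A))
      (⟨c, hc⟩ : GLin.invariants k H A)
  · exact Algebra.subset_adjoin (Finset.mem_coe.2 (Finset.mem_image_of_mem _ hq))

end GLinFinLib
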