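import Mathlib
import Groth.Agent.GLinFinLib.Fraction

/-! # The equivariant main theorem of Zariski -/

set_option autoImplicit false
set_option maxHeartbeats 1000000
set_option synthInstance.maxHeartbeats 400000

noncomputable section

open TensorProduct HopfRep UnitRigidLib AlgebraicGeometry CategoryTheory
open scoped ComodLib

namespace GLinFinLib.Zmt

universe u

/-- A localisation-wise isomorphism with covering denominators is an open immersion. -/
theorem isOpenImmersion_specMap {B R : Type u} [CommRing B] [CommRing R] (f : B →+* R) (s : Set B)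
    (hs : Ideal.span (f '' s) = ⊤) (hf : ∀ r ∈ s, Function.Bijective (Localization.awayMap f r)) :
    IsOpenImmersion (Spec.map (CommRingCat.ofHom f)) := by
  have hcover : ∀ Q : PrimeSpectrum R, ∃ r ∈ s, f r ∉ Q.asIdeal := fun Q => by
    by_contra! h
    exact Q.2.ne_top (top_le_iff.1 (hs ▸ Ideal.span_le.2 (by rintro _ ⟨r, hr, rfl⟩; exact h r hr)))
  have hle : ∀ Q Q' : PrimeSpectrum R, PrimeSpectrum.comap f Q = PrimeSpectrum.comap f Q' →
      Q.asIdeal ≤ Q'.asIdeal := by
    intro Q Q' h x hx
    have hiff : ∀ b, f b ∈ Q.asIdeal ↔ f b ∈ Q'.asIdeal := fun b =>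
      iff_of_eq (congrArg (fun P : PrimeSpectrum B => b ∈ P.asIdeal) h)
    obtain ⟨r, hr, hrQ⟩ := hcover Q'
    obtain ⟨b, n, hb⟩ := Localization.awayMap_surjective_iff.1 (hf r hr).2 x
    have : f r ^ n * x ∈ Q'.asIdeal := by
      rw [← hb, ← hiff, hb]
      exact Ideal.mul_mem_left _ _ hx
    exact (Q'.2.mem_or_mem this).resolve_left fun h' => hrQ (Q'.2.mem_of_pow_mem n h')
  refine IsOpenImmersion.of_forall_source_exists _ (fun Q Q' h => ?_) fun Q => ?_
  · exact PrimeSpectrum.ext (le_antisymm (hle Q Q' h) (hle Q' Q h.symm))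
  · obtain ⟨r, hr, hrQ⟩ := hcover Q
    refine ⟨Spec (CommRingCat.of (Localization.Away (f r))),
      Spec.map (CommRingCat.ofHom (algebraMap R (Localization.Away (f r)))),
      IsOpenImmersion.of_isLocalization (f r), ?_, ?_⟩
    · have e : (Set.range (PrimeSpectrum.comap (algebraMap R (Localization.Away (f r))))) =
          (PrimeSpectrum.basicOpen (f r) : Set (PrimeSpectrum R)) :=
        PrimeSpectrum.localization_away_comap_range _ (f r)
      exact (e.symm ▸ hrQ : Q ∈ Set.range (PrimeSpectrum.comap (algebraMap R (Localization.Away (f r)))))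
    · have e : CommRingCat.ofHom f ≫ CommRingCat.ofHom (algebraMap R (Localization.Away (f r))) =
          CommRingCat.ofHom (algebraMap B (Localization.Away r)) ≫
            CommRingCat.ofHom (Localization.awayMap f r) := by
        ext b
        exact (IsLocalization.map_eq (R := B) (M := Submonoid.powers r) (S := Localization.Away r) (P := R)
          (T := Submonoid.powers (f r)) (Q := Localization.Away (f r)) (g := f)
          (hy := fun t ht => by obtain ⟨n, rfl⟩ := ht; exact ⟨n, (map_pow _ _ _).symm⟩) b).symm
      rw [← Spec.map_comp, e, Spec.map_comp]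
      have : IsIso (CommRingCat.ofHom (Localization.awayMap f r)) :=
        (ConcreteCategory.isIso_iff_bijective _).2 (hf r hr)
      have : IsOpenImmersion (Spec.map (CommRingCat.ofHom (algebraMap B (Localization.Away r)))) :=
        IsOpenImmersion.of_isLocalization r
      infer_instance

variable {k : Type u} [Field k] [IsAlgClosed k] {A : Type u} [CommRing A] [HopfAlgebra k A]
  [Algebra.FiniteType k A] [IsReduced A]
  {S : Type u} [CommRing S] [Algebra k S] [Comod k A S] [GLin.IsCoactAlg k A S]
  {R : Type u} [CommRing R] [Algebra k R] [Comod k A R] [GLin.IsCoactAlg k A R]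
  [Algebra S R] [IsScalarTower k S R]

/-- A subspace stable under all points of a reduced group is a subcomodule. -/
theorem isSubcomod_of_act {V : Type u} [AddCommGroup V] [Module k V] [Comod k A V] (W : Submodule k V)
    (h : ∀ φ : A →ₐ[k] k, ∀ v ∈ W, ComodLib.slice φ.toLinearMap (Comod.coact (k := k) (A := A) v) ∈ W) :
    IsSubcomod (k := k) (A := A) W := by
  intro v hv
  refine (ComodLib.mem_range_rTensor_iff W _).2 fun f => ?_
  rw [← Subspace.forall_mem_dualAnnihilator_apply_eq_zero_iff W]
  intro g hg
  have h0 : ComodLib.sliceL g (Comod.coact (k := k) (A := A) v) = 0 :=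
    eq_zero_of_forall_point (K := k) _ fun φ =>
      (ComodLib.apply_slice g φ.toLinearMap _).symm.trans ((Submodule.mem_dualAnnihilator g).1 hg _ (h φ v hv))
  rw [ComodLib.apply_slice, h0, map_zero]

omit [IsAlgClosed k] [Algebra.FiniteType k A] [IsReduced A] in
/-- A point of the group as a ring endomorphism. -/
def actHom (φ : A →ₐ[k] k) : R →ₐ[k] R := (spec₂ φ).comp (GLin.coactAlgHom k A R)

omit [IsAlgClosed k] [Algebra.FiniteType k A] [IsReduced A] in
theorem actHom_apply (φ : A →ₐ[k] k) (x : R) :
    actHom φ x = ComodLib.slice φ.toLinearMap (Comod.coact (k := k) (A := A) x) :=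
  (Fraction.act_eq φ x).symm

/-- The equivariant main theorem of Zariski. -/
theorem exists_factorization [Algebra.FiniteType k S] [Algebra.FiniteType k R] [Algebra.QuasiFinite S R]
    (hequiv : (∀ s : S, Comod.coact (k := k) (A := A) (algebraMap S R s) =
      Algebra.TensorProduct.map (IsScalarTower.toAlgHom k S R) (AlgHom.id k A) (Comod.coact (k := k) (A := A) s))) :
    ∃ (B : Type u) (_ : CommRing B) (_ : Algebra k B) (_ : Comod k A B) (_ : GLin.IsCoactAlg k A B),
      Algebra.FiniteType k B ∧
      ∃ (ψ : S →ₐ[k] B) (i : B →ₐ[k] R),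
        (∀ s : S, Comod.coact (k := k) (A := A) (ψ s) =
        Algebra.TensorProduct.map ψ (AlgHom.id k A) (Comod.coact (k := k) (A := A) s)) ∧
        (∀ s : B, Comod.coact (k := k) (A := A) (i s) =
        Algebra.TensorProduct.map i (AlgHom.id k A) (Comod.coact (k := k) (A := A) s)) ∧
        i.comp ψ = IsScalarTower.toAlgHom k S R ∧ ψ.toRingHom.Finite ∧
        IsOpenImmersion (Spec.map (CommRingCat.ofHom i.toRingHom)) := by
  classical
  haveI : Algebra.FiniteType S R := Algebra.FiniteType.of_restrictScalars_finiteType k S R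
  have hθ : ∀ (φ : A →ₐ[k] k) (s : S), actHom φ (algebraMap S R s) = algebraMap S R (actHom φ s) := by
    intro φ s
    show spec₂ φ (Comod.coact (k := k) (A := A) (algebraMap S R s)) =
      algebraMap S R (spec₂ φ (Comod.coact (k := k) (A := A) s))
    rw [hequiv]
    generalize Comod.coact (k := k) (A := A) s = z
    induction z with
    | zero => simp
    | add a b ha hb => simp only [map_add, ha, hb]
    | tmul a b => simp [spec₂_tmul, IsScalarTower.algebraMap_apply k S R, Algebra.smul_def]
  have hint : ∀ (φ : A →ₐ[k] k) (x : R), IsIntegral S x → IsIntegral S (actHom φ x) := by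
    intro φ x hx
    obtain ⟨p, hp, hpx⟩ := hx
    refine ⟨p.map (actHom φ : S →ₐ[k] S).toRingHom, hp.map _, ?_⟩
    rw [Polynomial.eval₂_map]
    have e : (algebraMap S R).comp (actHom φ : S →ₐ[k] S).toRingHom =
        (actHom φ : R →ₐ[k] R).toRingHom.comp (algebraMap S R) := RingHom.ext fun s => (hθ φ s).symm
    rw [e]
    refine (Polynomial.hom_eval₂ p (algebraMap S R) (actHom φ : R →ₐ[k] R).toRingHom x).symm.trans ?_
    rw [hpx, map_zero]
  -- denominators
  have hzmt : ∀ p : PrimeSpectrum R, ∃ r ∉ p.asIdeal, IsIntegral S r ∧ ∀ x, ∃ m, IsIntegral S (r ^ m * x) :=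
    fun p => Algebra.zariskisMainProperty_iff.1 (Algebra.ZariskisMainProperty.of_finiteType p.asIdeal)
  choose r hr hri hrx using hzmt
  have htop : Ideal.span (Set.range r) = ⊤ := by
    by_contra h
    obtain ⟨M, hM, hle⟩ := Ideal.exists_le_maximal _ h
    exact hr ⟨M, hM.isPrime⟩ (hle (Ideal.subset_span ⟨_, rfl⟩))
  obtain ⟨D, hD, hDtop⟩ := (Ideal.span_eq_top_iff_finite _).1 htop
  obtain ⟨G, hG⟩ := (inferInstance : Algebra.FiniteType S R).out
  have hm : ∀ d ∈ D, ∀ x : R, ∃ m, IsIntegral S (d ^ m * x) := fun d hd x => by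
    obtain ⟨p, rfl⟩ := hD hd
    exact hrx p x
  choose m hmI using hm
  let F : Finset R := D ∪ (D ×ˢ G).attach.image
    fun q => q.1.1 ^ m q.1.1 (Finset.mem_product.1 q.2).1 q.1.2 * q.1.2
  have hFint : ∀ x ∈ F, IsIntegral S x := by
    intro x hx
    rcases Finset.mem_union.1 hx with hx | hx
    · obtain ⟨p, rfl⟩ := hD hx
      exact hri p
    · obtain ⟨q, -, rfl⟩ := Finset.mem_image.1 hx
      exact hmI _ _ _
  -- a stable finite dimensional subspace of integral elements
  let C : Submodule k R := (integralClosure S R).toSubmodule.restrictScalars k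
  have hC : IsSubcomod (k := k) (A := A) C := isSubcomod_of_act C fun φ x hx => by
    rw [← actHom_apply]; exact hint φ x hx
  let W' : Submodule (ComodLib.Dual' k A) R :=
    ⨆ a : F, Submodule.span (ComodLib.Dual' k A) {(a : R)}
  let W : Submodule k R := W'.restrictScalars k
  haveI : FiniteDimensional k W := by
    haveI : ∀ a : F, FiniteDimensional k
        ↥((Submodule.span (ComodLib.Dual' k A) {(a : R)}).restrictScalars k) :=
      fun a => ComodLib.finite_span_singleton A (a : R)
    have h : W = ⨆ a : F, (Submodule.span (ComodLib.Dual' k A) {(a : R)}).restrictScalars k := by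
      simp only [W, W', Submodule.restrictScalars_iSup]
    rw [h]
    infer_instance
  have hWC : W' ≤ ComodLib.toSub C hC := iSup_le fun a =>
    (Submodule.span_singleton_le_iff_mem _ _).2 (hFint _ a.2)
  obtain ⟨t, ht⟩ := Module.Finite.iff_fg.1 (inferInstance : Module.Finite k W)
  have htW : (t : Set R) ⊆ W := ht ▸ Submodule.subset_span
  let B₁ : Subalgebra S R := Algebra.adjoin S (t : Set R)
  have hWB : ∀ x ∈ W, x ∈ B₁ := fun x hx => by
    rw [← ht] at hx
    exact (Submodule.span_le.2 (show (t : Set R) ⊆ (B₁.toSubmodule.restrictScalars k : Submodule k R) from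
      Algebra.subset_adjoin)) hx
  have hB₁ : ∀ (φ : A →ₐ[k] k) (x : R), x ∈ B₁ → actHom φ x ∈ B₁ := by
    intro φ x hx
    induction hx using Algebra.adjoin_induction with
    | mem x hx =>
      refine hWB _ ?_
      rw [actHom_apply]
      exact W'.smul_mem (WithConv.toConv φ.toLinearMap) (htW hx)
    | algebraMap s => rw [hθ]; exact B₁.algebraMap_mem _
    | add a b _ _ ha hb => rw [map_add]; exact B₁.add_mem ha hb
    | mul a b _ _ ha hb => rw [map_mul]; exact B₁.mul_mem ha hb
  haveI hfin : Module.Finite S B₁ := Module.Finite.iff_fg.2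
    (fg_adjoin_of_finite t.finite_toSet fun x hx => hWC (htW hx))
  let B : Subalgebra k R := B₁.restrictScalars k
  have hBsub : IsSubcomod (k := k) (A := A) B.toSubmodule := isSubcomod_of_act _ fun φ x hx => by
    rw [← actHom_apply]; exact hB₁ φ x hx
  letI cB : Comod k A B := ComodLib.subComod hBsub
  have hval : ∀ b : B, Comod.coact (k := k) (A := A) (b : R) =
      Algebra.TensorProduct.map B.val (AlgHom.id k A) (Comod.coact (k := k) (A := A) b) := by
    intro b
    have h := LinearMap.congr_fun (ComodLib.exists_coact_sub hBsub).choose_spec b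
    refine h.symm.trans ?_
    show LinearMap.rTensor A B.toSubmodule.subtype (Comod.coact (k := k) (A := A) b) = _
    generalize Comod.coact (k := k) (A := A) b = z
    induction z using TensorProduct.induction_on with
    | zero => simp
    | tmul a b => rfl
    | add a b ha hb => rw [map_add, map_add, ha, hb]
  have hinj : Function.Injective (Algebra.TensorProduct.map B.val (AlgHom.id k A)) := by
    have h := Module.Flat.rTensor_preserves_injective_linearMap (M := A) B.val.toLinearMap
      Subtype.val_injective
    intro y z hyz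
    refine h ?_
    have e : ∀ w, B.val.toLinearMap.rTensor A w = Algebra.TensorProduct.map B.val (AlgHom.id k A) w := by
      intro w
      induction w using TensorProduct.induction_on with
      | zero => simp
      | tmul a b => rfl
      | add a b ha hb => rw [map_add, map_add, ha, hb]
    rw [e, e, hyz]
  haveI : GLin.IsCoactAlg k A B :=
    { coact_one := hinj (by rw [← hval, map_one, OneMemClass.coe_one, GLin.IsCoactAlg.coact_one])
      coact_mul := fun a b => hinj (by
        rw [← hval, map_mul (Algebra.TensorProduct.map B.val (AlgHom.id k A)), ← hval, ← hval,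
          MulMemClass.coe_mul, GLin.IsCoactAlg.coact_mul]) }
  let ψ : S →ₐ[k] B := (IsScalarTower.toAlgHom k S R).codRestrict B fun s => B₁.algebraMap_mem s
  have hψfin : ψ.toRingHom.Finite := by
    exact (RingHom.finite_algebraMap.2 hfin : (algebraMap S B₁).Finite)
  haveI : Algebra.FiniteType k B := by
    haveI : Algebra.FiniteType k B₁ := Algebra.FiniteType.trans (inferInstance : Algebra.FiniteType k S)
      (inferInstance : Algebra.FiniteType S B₁)
    exact this
  refine ⟨B, inferInstance, inferInstance, cB, inferInstance, inferInstance, ψ, B.val,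
    fun s => hinj ?_, hval, AlgHom.ext fun _ => rfl, hψfin, ?_⟩
  · rw [← hval]
    refine (hequiv s).trans ?_
    generalize Comod.coact (k := k) (A := A) s = z
    induction z using TensorProduct.induction_on with
    | zero => simp
    | tmul a b => rfl
    | add a b ha hb => simp only [map_add, ha, hb]
  · refine isOpenImmersion_specMap _ {b : B | (b : R) ∈ D} (top_le_iff.1 (hDtop ▸ Ideal.span_mono ?_)) ?_
    · intro d hd
      have hdF : d ∈ F := Finset.mem_union_left _ hd
      exact ⟨⟨d, hWB d (Submodule.mem_iSup_of_mem (⟨d, hdF⟩ : F) (Submodule.mem_span_singleton_self d))⟩, hd, rfl⟩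
    · intro b hb
      refine ⟨IsLocalization.map_injective_of_injective _ _ _ Subtype.val_injective,
        Localization.awayMap_surjective_iff.2 fun x => ?_⟩
      suffices h : ∃ n, (b : R) ^ n * x ∈ B₁ by
        obtain ⟨n, hn⟩ := h
        exact ⟨⟨_, hn⟩, n, rfl⟩
      have hx : x ∈ Algebra.adjoin S (G : Set R) := hG ▸ trivial
      induction hx using Algebra.adjoin_induction with
      | mem g hg =>
        let q : {q // q ∈ D ×ˢ G} := ⟨((b : R), g), Finset.mem_product.2 ⟨hb, hg⟩⟩
        have hqF : (b : R) ^ m (b : R) hb g * g ∈ F :=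
          Finset.mem_union_right _ (Finset.mem_image.2 ⟨q, Finset.mem_attach _ _, rfl⟩)
        exact ⟨m (b : R) hb g, hWB _ (Submodule.mem_iSup_of_mem (⟨_, hqF⟩ : F)
          (Submodule.mem_span_singleton_self _))⟩
      | algebraMap s => exact ⟨0, by simp⟩
      | add a c _ _ ha hc =>
        obtain ⟨n, hn⟩ := ha
        obtain ⟨n', hn'⟩ := hc
        refine ⟨n + n', ?_⟩
        rw [mul_add, pow_add, mul_right_comm _ _ a, mul_assoc _ _ c]
        exact B₁.add_mem (B₁.mul_mem hn (B₁.pow_mem b.2 _)) (B₁.mul_mem (B₁.pow_mem b.2 _) hn')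
      | mul a c _ _ ha hc =>
        obtain ⟨n, hn⟩ := ha
        obtain ⟨n', hn'⟩ := hc
        refine ⟨n + n', ?_⟩
        rw [pow_add, mul_mul_mul_comm]
        exact B₁.mul_mem hn hn'

end GLinFinLib.Zmt

end
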